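import Cfsg.Agent.Helper62.BG12c
import Cfsg.Agent.Helper23.Uniq3

/-!
CALL S1423 (B&G 12.13), PIECE Q4 (helper50): for the structure `S = P₁ * P₂` of S1412
(a nonabelian Sylow subgroup of rank two), the derived subgroup of `S` lies in `Z(P₁)`.
-/

set_option autoImplicit false

namespace Cfsg.Agent.Helper50

open Cfsg Subgroup Cfsg.Agent.Helper22 Cfsg.Agent.Helper23 Cfsg.Agent.Helper35 Cfsg.Agent.Helper62.BG12

open scoped commutatorElement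

universe u

variable {G : Type u} [Group G] [Finite G]

/-- (Q4) S1412 structure: `S' ≤ Z(P₁)` -/
theorem q4_comm_le {p : ℕ} [Fact p.Prime] {S P₁ P₂ : Subgroup G} (d : R2Data p S P₁ P₂) :
    ⁅S, S⁆ ≤ P₁ ⊓ centralizer (P₁ : Set G) := by
  have hN : P₂ ≤ normalizer (P₁ : Set G) := by
    intro b hb
    have hbc : b ∈ centralizer (P₁ : Set G) := by
      rw [mem_centralizer_iff]
      intro x hx
      exact d.comm x hx b hb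
    exact Subgroup.centralizer_le_normalizer _ hbc
  rw [Subgroup.commutator_le]
  intro a ha b hb
  rw [← d.sup] at ha hb
  obtain ⟨a₁, ha₁, a₂, ha₂, rfl⟩ := exists_mul_of_mem_sup_of_le_normalizer hN ha
  obtain ⟨b₁, hb₁, b₂, hb₂, rfl⟩ := exists_mul_of_mem_sup_of_le_normalizer hN hb
  have e : ⁅a₁ * a₂, b₁ * b₂⁆ = a₁ * b₁ * a₁⁻¹ * b₁⁻¹ := by
    rw [commutatorElement_def]
    have h1 : a₂ * b₁ = b₁ * a₂ := (d.comm b₁ hb₁ a₂ ha₂).symm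
    have h2 : a₂ * b₂ = b₂ * a₂ := d.comm₂ a₂ ha₂ b₂ hb₂
    have h3 : b₂ * a₁⁻¹ = a₁⁻¹ * b₂ :=
      (Commute.inv_right (show Commute b₂ a₁ from (d.comm a₁ ha₁ b₂ hb₂).symm)).eq
    calc a₁ * a₂ * (b₁ * b₂) * (a₁ * a₂)⁻¹ * (b₁ * b₂)⁻¹
        = a₁ * (a₂ * b₁) * b₂ * a₂⁻¹ * a₁⁻¹ * b₂⁻¹ * b₁⁻¹ := by group
      _ = a₁ * b₁ * (a₂ * b₂) * a₂⁻¹ * a₁⁻¹ * b₂⁻¹ * b₁⁻¹ := by rw [h1]; group
      _ = a₁ * b₁ * (b₂ * a₁⁻¹) * b₂⁻¹ * b₁⁻¹ := by rw [h2]; group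
      _ = a₁ * b₁ * a₁⁻¹ * b₁⁻¹ := by rw [h3]; group
  rw [e]
  exact d.comm_mem a₁ ha₁ b₁ hb₁

end Cfsg.Agent.Helper50
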