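/-
helper50: PIECE CJ of CALL S1352 (helper22): Hall conjugacy in the solvable maximal subgroup `L`:
a subgroup of `L` of order coprime to `|L_σ|` is `L`-conjugate into a given complement of `L_σ`.
-/
import Cfsg.Agent.Helper22.BG14Defs
import Cfsg.Agent.Helper49.BG1216
import Cfsg.Agent.Helper23.FittingHall

set_option autoImplicit false

namespace Cfsg.Agent.Helper50

open Cfsg Subgroup Cfsg.Agent.Helper23
open scoped Pointwise

universe u

variable {G : Type u} [Group G] [Finite G]

/-- PIECE CJ (Hall conjugacy in the solvable group `L`): a subgroup of `L` of order coprime to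
`|L_σ|` is `L`-conjugate into a given complement `T` of `L_σ`. -/
theorem bg14_conj_into (hG : IsMinSimpleOddOrder G) {L T A : Subgroup G} (hL : IsCoatom L)
    (hT : IsComplIn T (sigmaCore L) L) (hAL : A ≤ L)
    (hcop : (Nat.card A).Coprime (Nat.card (sigmaCore L))) :
    ∃ l ∈ L, ∀ a ∈ A, l⁻¹ * a * l ∈ T := by
  have hsol : Group.IsSolvable ↥L := uq_isSolvable hG hL.1
  have hcard : Nat.card L = Nat.card T * Nat.card (sigmaCore L) := card_of_isComplIn _ _ _ hT
  have hidx : (T.subgroupOf L).index = Nat.card (sigmaCore L) := by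
    have h1 : Nat.card (T.subgroupOf L) * (T.subgroupOf L).index = Nat.card L :=
      Subgroup.card_mul_index _
    have h2 : Nat.card (T.subgroupOf L) = Nat.card T :=
      Nat.card_congr (Subgroup.subgroupOfEquivOfLe hT.1).toEquiv
    rw [h2, hcard] at h1
    have hTpos : 0 < Nat.card T := Nat.card_pos
    exact Nat.eq_of_mul_eq_mul_left hTpos h1
  have hA : Nat.card (A.subgroupOf L) = Nat.card A :=
    Nat.card_congr (Subgroup.subgroupOfEquivOfLe hAL).toEquiv
  have hcop' : (Nat.card (A.subgroupOf L)).Coprime (T.subgroupOf L).index := by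
    rw [hA, hidx]; exact hcop
  obtain ⟨l, hl⟩ := Cfsg.Agent.Helper49.bg1216_hall_conj (T.subgroupOf L) (A.subgroupOf L) hcop'
  refine ⟨(l : G), l.2, ?_⟩
  intro a ha
  have h1 : (⟨a, hAL ha⟩ : ↥L) ∈ MulAut.conj l • T.subgroupOf L :=
    hl (Subgroup.mem_subgroupOf.mpr ha)
  rw [Subgroup.mem_pointwise_smul_iff_inv_smul_mem] at h1
  have h2 := Subgroup.mem_subgroupOf.mp h1
  simpa [MulAut.smul_def, mul_assoc] using h2

end Cfsg.Agent.Helper50
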