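/-
helper50: PIECE ZB1 of CALL S1352 (helper22): an element of order coprime to `|N|` normalizing the
solvable group `N` and centralizing `F(N)` centralizes `N`.
-/
import Cfsg.Agent.Helper22.BG14Defs
import Cfsg.Agent.Helper22.SolvableCore

set_option autoImplicit false

namespace Cfsg.Agent.Helper50

open Cfsg Subgroup Cfsg.Agent.Helper23

universe u

variable {G : Type u} [Group G] [Finite G]

/-- PIECE ZB1 (pure; Fitting subgroup): an element of order coprime to `|N|` normalizing the solvable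
group `N` and centralizing `F(N)` centralizes `N`. -/
theorem bg14_cent_of_cent_fitting {N : Subgroup G} (hsol : Group.IsSolvable ↥N) {c : G}
    (hcN : c ∈ normalizer (N : Set G)) (hcF : ∀ a ∈ fittingOf N, c * a = a * c)
    (hcop : (orderOf c).Coprime (Nat.card N)) : ∀ y ∈ N, c * y = y * c := by
  intro y hy
  have hcN' : ∀ n, n ∈ N ↔ c * n * c⁻¹ ∈ N := fun n => (Subgroup.mem_normalizer_iff.mp hcN) n
  set f : G := y * c * y⁻¹ * c⁻¹ with hf
  have hfN : f ∈ N := by
    have h1 : c * y⁻¹ * c⁻¹ ∈ N := (hcN' _).mp (N.inv_mem hy)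
    have h2 : f = y * (c * y⁻¹ * c⁻¹) := by simp [hf, mul_assoc]
    rw [h2]; exact N.mul_mem hy h1
  have hfc : ∀ a ∈ fittingOf N, f * a = a * f := by
    intro a ha
    have ha' : y⁻¹ * a * y ∈ fittingOf N := by
      obtain ⟨a0, ha0, rfl⟩ := ha
      refine ⟨(⟨y, hy⟩ : ↥N)⁻¹ * a0 * ⟨y, hy⟩, ?_, by simp⟩
      have hn : (Cfsg.fittingSubgroup ↥N).Normal := Subgroup.sSup_normal _ (fun _ h => h.1)
      have h3 := hn.conj_mem a0 ha0 ((⟨y, hy⟩ : ↥N)⁻¹)
      simpa using h3
    have h1 := hcF a ha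
    have h2 := hcF _ ha'
    have h1' : c⁻¹ * a = a * c⁻¹ := by
      have h5 : c⁻¹ * (c * a) * c⁻¹ = c⁻¹ * (a * c) * c⁻¹ := by rw [h1]
      rw [inv_mul_cancel_left, mul_assoc, mul_assoc, mul_inv_cancel, mul_one] at h5
      exact h5.symm
    calc f * a = y * c * y⁻¹ * (c⁻¹ * a) := by simp [hf, mul_assoc]
      _ = y * c * y⁻¹ * (a * c⁻¹) := by rw [h1']
      _ = y * (c * (y⁻¹ * a * y)) * y⁻¹ * c⁻¹ := by group
      _ = y * ((y⁻¹ * a * y) * c) * y⁻¹ * c⁻¹ := by rw [h2]
      _ = a * f := by rw [hf]; group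
  have hfF : f ∈ fittingOf N := by
    have := hsol
    have h1 : (⟨f, hfN⟩ : ↥N) ∈ centralizer (Cfsg.fittingSubgroup ↥N : Set ↥N) := by
      rw [Subgroup.mem_centralizer_iff]
      intro a ha
      apply Subtype.ext
      have := hfc (a : G) ⟨a, ha, rfl⟩
      simpa using this.symm
    have h2 := Cfsg.Agent.Helper22.centralizer_fittingSubgroup_le_of_isSolvable h1
    exact ⟨⟨f, hfN⟩, h2, rfl⟩
  have hcf : c * f = f * c := hcF f hfF
  have hfo : f ^ orderOf c = 1 := by
    have h1 : f * c = y * c * y⁻¹ := by simp [hf, mul_assoc]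
    have h2 : (f * c) ^ orderOf c = f ^ orderOf c * c ^ orderOf c :=
      (Commute.mul_pow (show Commute f c from hcf.symm) _)
    rw [h1, conj_pow, pow_orderOf_eq_one] at h2
    simpa using h2.symm
  have hd1 : orderOf f ∣ orderOf c := orderOf_dvd_of_pow_eq_one hfo
  have hd2 : orderOf f ∣ Nat.card N := Subgroup.orderOf_dvd_natCard N hfN
  have h1 : orderOf f = 1 := Nat.eq_one_of_dvd_coprimes hcop hd1 hd2
  have hf1 : f = 1 := orderOf_eq_one_iff.mp h1
  have : y * c * y⁻¹ * c⁻¹ = 1 := hf1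
  have h3 : y * c = c * y := by
    have : y * c * y⁻¹ * c⁻¹ * (c * y) = 1 * (c * y) := by rw [this]
    simpa [mul_assoc] using this
  exact h3.symm

end Cfsg.Agent.Helper50
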