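/-
helper50: PIECE E2 of CALL S1352 (helper22): if `E` does not centralize its normal cyclic Sylow
`q`-subgroup `Q`, then some Sylow `r`-subgroup of `E`, `r ≠ q`, does not centralize `Q`.
-/
import Cfsg.Agent.Helper22.BG14Defs

set_option autoImplicit false

namespace Cfsg.Agent.Helper50

open Cfsg Subgroup Cfsg.Agent.Helper23

universe u

variable {G : Type u} [Group G] [Finite G]

/-- A Sylow `r`-subgroup of `E` (internal form) has index in `E` prime to `r`. -/
theorem bg14e2_not_dvd_relIndex {r : ℕ} [Fact r.Prime] {S E : Subgroup G}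
    (hS : IsSylowOf r S E) : ¬ r ∣ S.relIndex E := by
  obtain ⟨P, hP⟩ := hS.exists_sylow
  have h1 := P.not_dvd_index
  rw [hP] at h1
  exact h1

/-- PIECE E2 (pure; Sylow): if `E` does not centralize its normal cyclic Sylow `q`-subgroup `Q`, then
some Sylow `r`-subgroup of `E`, `r ≠ q`, does not centralize `Q`. -/
theorem bg14_exists_sylow_not_le {E Q : Subgroup G} {q : ℕ} [Fact q.Prime] (hQE : Q ≤ E)
    (hQq : IsPGroup q Q) (hQi : ¬ q ∣ Q.relIndex E) (hQc : IsCyclic Q)
    (hEQ : E ≤ normalizer (Q : Set G)) (hnc : ¬ E ≤ centralizer (Q : Set G)) :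
    ∃ r : ℕ, r.Prime ∧ r ≠ q ∧ ∃ S : Subgroup G, IsSylowOf r S E ∧ ¬ S ≤ centralizer (Q : Set G) := by
  set C : Subgroup G := E ⊓ centralizer (Q : Set G) with hC
  have hCE : C ≤ E := inf_le_left
  have hQC : Q ≤ C := by
    refine le_inf hQE ?_
    intro x hx
    rw [Subgroup.mem_centralizer_iff]
    intro y hy
    have hcomm : ∀ a b : ↥Q, a * b = b * a := by
      have := hQc
      intro a b
      obtain ⟨g, hg⟩ := IsCyclic.exists_generator (α := ↥Q)
      obtain ⟨m, rfl⟩ := Subgroup.mem_zpowers_iff.mp (hg a)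
      obtain ⟨n, rfl⟩ := Subgroup.mem_zpowers_iff.mp (hg b)
      rw [← zpow_add, ← zpow_add, add_comm]
    have := hcomm ⟨y, hy⟩ ⟨x, hx⟩
    exact congrArg Subtype.val this
  have hne : C.relIndex E ≠ 1 := by
    intro h1
    apply hnc
    have : E ≤ C := Subgroup.relIndex_eq_one.mp h1
    exact this.trans inf_le_right
  obtain ⟨r, hr, hrd⟩ := Nat.exists_prime_and_dvd hne
  have hmul : Q.relIndex C * C.relIndex E = Q.relIndex E := Subgroup.relIndex_mul_relIndex Q C E hQC hCE
  refine ⟨r, hr, ?_, ?_⟩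
  · rintro rfl
    apply hQi
    rw [← hmul]
    exact Dvd.dvd.mul_left hrd _
  · have : Fact r.Prime := ⟨hr⟩
    obtain ⟨S, hS, -⟩ := exists_isSylowOf_ge (p := r) (T := ⊥) (H := E) IsPGroup.of_bot bot_le
    refine ⟨S, hS, ?_⟩
    intro hSc
    have hSC : S ≤ C := le_inf hS.1 hSc
    have hmul2 : S.relIndex C * C.relIndex E = S.relIndex E :=
      Subgroup.relIndex_mul_relIndex S C E hSC hCE
    apply bg14e2_not_dvd_relIndex hS
    rw [← hmul2]
    exact Dvd.dvd.mul_left hrd _

end Cfsg.Agent.Helper50
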