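/-
helper50: PIECE SET1 of CALL S1352 (helper22): a complement of `M_σ` containing the Hall
`κ(M)`-subgroup `K`.
-/
import Cfsg.Agent.Helper22.BG14Defs
import Cfsg.Agent.Helper20.BG13P4
import Cfsg.Agent.Helper23.Trans
import Cfsg.Agent.S1403

set_option autoImplicit false

namespace Cfsg.Agent.Helper50

open Cfsg Subgroup Cfsg.Agent.Helper23

universe u

variable {G : Type u} [Group G] [Finite G]

/-- PIECE SET1: a complement of `M_σ` containing `K`. -/
theorem bg14_exists_compl (hG : IsMinSimpleOddOrder G) {M K : Subgroup G} (hM : IsCoatom M)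
    (hK : IsPiHallOf (kappa M) K M) : ∃ E : Subgroup G, IsComplIn E (sigmaCore M) M ∧ K ≤ E := by
  have hU : Cfsg.Agent.Helper22.BGUniq G := fun K hK h1 h2 => Cfsg.Agent.S1403.result hG K hK h1 h2
  refine Cfsg.Agent.Helper20.bg13_exists_compl_ge hG hU hM hK.1 ?_
  by_contra hcop
  obtain ⟨p, hp, h1, h2⟩ := Nat.Prime.not_coprime_iff_dvd.mp hcop
  have hpk : p ∈ kappa M := hK.2.1 p hp h1
  have hps : p ∈ sigma M := mem_of_dvd_card_piCoreOf (sigma M) M hp h2
  exact hpk.2.2.1 hps

end Cfsg.Agent.Helper50
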