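/-
helper50: PIECE T2 of CALL S1352 (helper22): `E ≤ H ≠ M` and `M_σ ∩ H ≠ 1` exclude `τ₂(M)`.
-/
import Cfsg.Agent.Helper22.BG14Defs
import Cfsg.Agent.Helper4.BG127P2
import Cfsg.Agent.S1417

set_option autoImplicit false

namespace Cfsg.Agent.Helper50

open Cfsg Subgroup Cfsg.Agent.Helper23

universe u

variable {G : Type u} [Group G] [Finite G]

/-- PIECE T2 (S1417(e)): `E ≤ H ≠ M` and `M_σ ∩ H ≠ 1` exclude `τ₂(M)`. -/
theorem bg14_not_tau2 (hG : IsMinSimpleOddOrder G) {M E H : Subgroup G} (hM : IsCoatom M)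
    (hE : IsComplIn E (sigmaCore M) M) (hH : IsCoatom H) (hHM : H ≠ M) (hEH : E ≤ H)
    (hD : sigmaCore M ⊓ H ≠ ⊥) {r : ℕ} [Fact r.Prime] : r ∉ tau2 M := by
  intro hr
  obtain ⟨A, hAE, hA, hAc⟩ := Cfsg.Agent.Helper4.bg127_exists_in_compl hE hr
  exact hD ((Cfsg.Agent.S1417.result hG M hM r hr A ⟨hAE.trans hE.1, hA, hAc⟩).2.2.2.2.1 H hH hHM
    (hAE.trans hEH))

end Cfsg.Agent.Helper50
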