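import Cfsg.Agent.Helper1.C9Defs
import Cfsg.Agent.Helper1.Hall
import Cfsg.Agent.Helper23.Uniq
import Cfsg.Agent.Helper35.HallCoprime
import Cfsg.Agent.Helper47.BG15bTools

/-!
# CALL C9 (helper1, row S1376), piece G2 (helper50, double): a complement of a normal Sylow
subgroup of a proper subgroup containing a given subgroup of coprime order
-/

set_option autoImplicit false

namespace Cfsg.Agent.Helper50

open Cfsg Subgroup

universe u

variable {G : Type u} [Group G] [Finite G]

theorem c9_exD (hG : IsMinSimpleOddOrder G) {S Q A : Subgroup G} (hStop : S ≠ ⊤) {q : ℕ}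
    (hq : q.Prime) (hQS : Q ≤ S) (hQn : S ≤ normalizer (Q : Set G)) (hQq : IsPGroup q Q)
    (hQi : ¬ q ∣ Q.relIndex S) (hAS : A ≤ S) (hA : (Nat.card A).Coprime q) :
    ∃ D : Subgroup G, IsComplIn Q D S ∧ A ≤ D := by
  have hsol : Group.IsSolvable ↥S := Cfsg.Agent.Helper23.uq_isSolvable hG hStop
  haveI := Fact.mk hq
  obtain ⟨j, hj⟩ := IsPGroup.iff_card.mp hQq
  have h1 : Nat.card Q * Q.relIndex S = Nat.card S :=
    Cfsg.Agent.Helper35.card_mul_relIndex_of_le hQS
  have hcop : (Q.relIndex S).Coprime (Nat.card Q) := by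
    rw [hj]
    exact Nat.Coprime.pow_right j ((Nat.Prime.coprime_iff_not_dvd hq).mpr hQi).symm
  have hAn : (Nat.card (A.subgroupOf S)).Coprime (Nat.card Q) := by
    rw [Nat.card_congr (Subgroup.subgroupOfEquivOfLe hAS).toEquiv, hj]
    exact Nat.Coprime.pow_right j hA
  obtain ⟨H, hH, hle⟩ := Cfsg.Agent.Helper1.hall_le_aux (Nat.card S) S (Q.relIndex S)
    (Nat.card Q) rfl (by rw [mul_comm]; exact h1.symm) hcop (A.subgroupOf S) hAn
  have hDcard : Nat.card (H.map S.subtype) = Q.relIndex S := by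
    rw [Subgroup.card_map_of_injective (Subgroup.subtype_injective S)]
    exact hH
  have hDS : H.map S.subtype ≤ S := by
    rintro _ ⟨x, -, rfl⟩
    exact x.2
  refine ⟨H.map S.subtype, ?_, ?_⟩
  · apply Cfsg.Agent.Helper47.bg15b_complIn_of_card hQS hDS
    · have hd1 : Nat.card (Q ⊓ H.map S.subtype : Subgroup G) ∣ Nat.card Q :=
        Subgroup.card_dvd_of_le inf_le_left
      have hd2 : Nat.card (Q ⊓ H.map S.subtype : Subgroup G) ∣ Q.relIndex S :=
        hDcard ▸ Subgroup.card_dvd_of_le inf_le_right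
      exact Subgroup.card_eq_one.mp (Nat.eq_one_of_dvd_coprimes hcop.symm hd1 hd2)
    · rw [hDcard, h1]
  · intro a ha
    exact ⟨⟨a, hAS ha⟩, hle (Subgroup.mem_subgroupOf.mpr ha), rfl⟩

end Cfsg.Agent.Helper50
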