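import Mathlib
import Cfsg.Agent.Helper13.TLDefs
import Cfsg.Agent.Helper50.TLUSTRUCT0
import Cfsg.Agent.Helper86.TLUATOMP
import Cfsg.Agent.Helper41.TLUPERP
import Cfsg.Agent.Helper26.TLUSUM

/-!
# CALL S5954 (helper13), piece USTRUCT (helper50)

`ustruct_p`, verbatim from the skeleton: `ustruct_p_of` fed with `uatom_p` (helper86), `u_perp`
(helper41) and `u_sum` (helper26).
-/

set_option autoImplicit false

namespace Cfsg.Agent.Helper50.TI5954

open Module Polynomial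
open Cfsg.Agent.Helper13.TIu Cfsg.Agent.Helper13.TIsp

section geom2

variable {F : Type*} [Field F] {σ : F →+* F} {V : Type*} [AddCommGroup V] [Module F V]
  [FiniteDimensional F V] (B : V →ₛₗ[σ] V →ₗ[F] F)

/-- USTRUCT (case A; uses UATOMP, UPERP, USUM, `jt_add`; mirror `struct_p`): orthogonal decomposition
into Jordan blocks, with selection of every sub-multiset. -/
theorem ustruct_p (hσ2 : ∀ a, σ (σ a) = a) (hσne : σ ≠ RingHom.id F) (hS : B.IsSymm)
    (T : Module.End F V) (hT : UPres B T) (n : ℕ) (hn : 0 < n) (hTn : T ^ n = 1) (p : ℕ)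
    (hNp : (T - 1) ^ p = 0) :
    ∀ (E : Submodule F V), E.map T ≤ E → UNd B E →
      ∃ μ : Multiset ℕ, JT (T - 1) E μ ∧ (∀ a ∈ μ, 0 < a ∧ a ≤ p) ∧
        ∀ ν : Multiset ℕ, ν ≤ μ →
          ∃ W : Submodule F V, W ≤ E ∧ W.map T ≤ W ∧ UNd B W ∧ finrank F W = ν.sum :=
  ustruct_p_of B T p hNp
    (fun E hET hE hE0 =>
      Cfsg.Agent.Helper86.TI5954.uatom_p B hσ2 hσne hS T hT n hn hTn p hNp E hET hE hE0)
    (fun M M₁ hM hM₁ hle hMT hM₁T =>
      Cfsg.Agent.Helper41.TI5954.u_perp B hσ2 hS T hT n hn hTn M M₁ hM hM₁ hle hMT hM₁T)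
    (fun X Y hX hY hXY hYX => Cfsg.Agent.Helper26.TI5954.u_sum B X Y hX hY hXY hYX)

end geom2

end Cfsg.Agent.Helper50.TI5954
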