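import Mathlib
import Cfsg.Agent.Helper13.TLDefs
import Cfsg.Agent.Helper50.TLUAEA0
import Cfsg.Agent.Helper10.TLURAD
import Cfsg.Agent.Helper66.TLUDUAL
import Cfsg.Agent.Helper26.TLUISO

/-!
# CALL S5954 (helper13), piece UAEA (helper50)

`u_atom_self`, verbatim from the skeleton: `u_atom_self_of` fed with `u_rad_dich` (helper10),
`u_dual_ann` (helper66) and `u_noniso` (helper26).
-/

set_option autoImplicit false

namespace Cfsg.Agent.Helper50.TI5954

open Module Polynomial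
open Cfsg.Agent.Helper13.TIu Cfsg.Agent.Helper13.TIsp

section geom2

variable {F : Type*} [Field F] {σ : F →+* F} {V : Type*} [AddCommGroup V] [Module F V]
  [FiniteDimensional F V] (B : V →ₛₗ[σ] V →ₗ[F] F)

/-- UAEA (case D, `i ≡ 2 mod 4`): a nondegenerate invariant `2b`-space without fixed vectors
(`b = ord_r (q²)` odd) contains a nondegenerate invariant `b`-space. -/
theorem u_atom_self [Fintype F] (q : ℕ) (hq : Fintype.card F = q ^ 2) (hσ : ∀ a, σ a = a ^ q)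
    (hσ2 : ∀ a, σ (σ a) = a) (hσne : σ ≠ RingHom.id F) (hS : B.IsSymm) (T : Module.End F V)
    (hT : UPres B T) (r : ℕ) [Fact r.Prime] (hr2 : 2 < r) (hrF : (r : F) ≠ 0) (hTr : T ^ r = 1)
    (hi4 : orderOf (q : ZMod r) % 4 = 2) (E₂ : Submodule F V) (hET : E₂.map T ≤ E₂)
    (hE : UNd B E₂) (hEk : E₂ ⊓ LinearMap.ker (T - 1) = ⊥)
    (hEdim : finrank F E₂ = 2 * orderOf ((Fintype.card F : ℕ) : ZMod r)) :
    ∃ E : Submodule F V, E ≤ E₂ ∧ E.map T ≤ E ∧ UNd B E ∧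
      finrank F E = orderOf ((Fintype.card F : ℕ) : ZMod r) :=
  u_atom_self_of B q hq hS T hT r hr2 hrF hTr hi4
    (fun U hUT hUk hUdim =>
      Cfsg.Agent.Helper10.TI5954.u_rad_dich B hσ2 hS T hT r hrF hTr U hUT hUk hUdim)
    (fun k hk hQ U₁ U₂ hU₂ hpair g hg =>
      Cfsg.Agent.Helper66.TI5954.u_dual_ann B q hq hσ T hT k hk hQ U₁ U₂ hU₂ hpair g hg)
    (fun W hW hW0 => Cfsg.Agent.Helper26.TI5954.u_noniso B hσ2 hσne hS W hW hW0)
    E₂ hET hE hEk hEdim

end geom2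

end Cfsg.Agent.Helper50.TI5954
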