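import Mathlib

/-!
# Suzuki 2-groups (Higman), first part

A finite nonabelian 2-group with more than one involution and an automorphism whose powers
permute the involutions transitively has elementary abelian centre consisting of the involutions
and the identity.
-/

set_option autoImplicit false

namespace Cfsg.Agent.Helper50

universe u

/-- Transitivity hypothesis: the powers of `ξ` permute the involutions of `P` transitively. -/
def SuzTrans (P : Type*) [Group P] (ξ : MulAut P) : Prop :=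
  ∀ x y : P, x ≠ 1 → x * x = 1 → y ≠ 1 → y * y = 1 → ∃ j : ℕ, (ξ ^ j) x = y

section basic

variable {P : Type*} [Group P]

theorem mulAut_mem_center (φ : MulAut P) {c : P} (hc : c ∈ Subgroup.center P) :
    φ c ∈ Subgroup.center P := by
  rw [Subgroup.mem_center_iff] at hc ⊢
  intro g
  have h2 := congrArg φ (hc (φ⁻¹ g))
  simpa [map_mul] using h2

/-- In a finite 2-group, a nontrivial element has a power which is an involution. -/
theorem exists_pow_invol [Finite P] (hP : IsPGroup 2 P) {g : P} (hg : g ≠ 1) :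
    ∃ m : ℕ, g ^ m ≠ 1 ∧ g ^ m * g ^ m = 1 := by
  have : Fact (Nat.Prime 2) := ⟨Nat.prime_two⟩
  obtain ⟨k, hk⟩ := (IsPGroup.iff_orderOf.1 hP) g
  have hk0 : k ≠ 0 := by
    rintro rfl
    rw [pow_zero, orderOf_eq_one_iff] at hk
    exact hg hk
  obtain ⟨k', rfl⟩ := Nat.exists_eq_succ_of_ne_zero hk0
  refine ⟨2 ^ k', ?_, ?_⟩
  · intro h
    have h1 := orderOf_dvd_of_pow_eq_one h
    rw [hk] at h1
    have h2 := Nat.le_of_dvd (by positivity) h1
    rw [pow_succ] at h2
    have h3 : 0 < 2 ^ k' := by positivity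
    omega
  · rw [← pow_add, ← two_mul, ← pow_succ', ← hk, pow_orderOf_eq_one]

/-- Involutions are central. -/
theorem suz_inv_central [Finite P] (hP : IsPGroup 2 P) [Nontrivial P] (ξ : MulAut P)
    (htr : SuzTrans P ξ) : ∀ z : P, z * z = 1 → z ∈ Subgroup.center P := by
  intro z hz
  by_cases hz1 : z = 1
  · rw [hz1]; exact Subgroup.one_mem _
  have : Fact (Nat.Prime 2) := ⟨Nat.prime_two⟩
  have := hP.center_nontrivial
  obtain ⟨⟨c, hc⟩, hc1⟩ := exists_ne (1 : Subgroup.center P)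
  have hc1' : c ≠ 1 := fun h => hc1 (Subtype.ext h)
  obtain ⟨m, hm1, hm2⟩ := exists_pow_invol hP hc1'
  obtain ⟨j, hj⟩ := htr _ z hm1 hm2 hz1 hz
  rw [← hj]
  exact mulAut_mem_center _ (Subgroup.pow_mem _ hc m)

end basic

section caseA

variable {P : Type*} [Group P]

/-- If `c = x⁻¹ y⁻¹ x y` is central and `x * x` is central then `c * c = 1`. -/
theorem comm_sq_of_sq_central {x y : P} (hc : x⁻¹ * y⁻¹ * x * y ∈ Subgroup.center P)
    (hx2 : x * x ∈ Subgroup.center P) :
    (x⁻¹ * y⁻¹ * x * y) * (x⁻¹ * y⁻¹ * x * y) = 1 := by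
  set c' := x⁻¹ * y⁻¹ * x * y with hc'
  have hcz : Commute c' x := (Subgroup.mem_center_iff.1 hc x).symm
  have e1 : y⁻¹ * x * y = x * c' := by rw [hc']; group
  have e2 : y⁻¹ * (x * x) * y = (y⁻¹ * x * y) * (y⁻¹ * x * y) := by group
  rw [e1, hcz.mul_mul_mul_comm] at e2
  have e3 : y⁻¹ * (x * x) * y = x * x := by
    rw [Subgroup.mem_center_iff.1 hx2 y⁻¹]; group
  rw [e3] at e2
  have e4 : x * x * 1 = x * x * (c' * c') := by rw [mul_one]; exact e2
  exact (mul_left_cancel e4).symm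

theorem suz_caseA [Finite P] (hP : IsPGroup 2 P)
    (hna : ∃ x y : P, x * y ≠ y * x)
    (hii : ∀ x : P, (x * x) * (x * x) = 1 → x ∈ Subgroup.center P)
    (hQ : ∀ x : P, (∀ y : P, (x⁻¹ * y⁻¹ * x * y) * (x⁻¹ * y⁻¹ * x * y) = 1) →
      (x * x) * (x * x) = 1) : False := by
  have : Fact (Nat.Prime 2) := ⟨Nat.prime_two⟩
  have hnt : Nontrivial (P ⧸ Subgroup.center P) := by
    by_contra h
    rw [not_nontrivial_iff_subsingleton] at h
    obtain ⟨x, y, hxy⟩ := hna
    apply hxy
    have hx : x ∈ Subgroup.center P := by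
      have := Subsingleton.elim (QuotientGroup.mk x : P ⧸ Subgroup.center P) 1
      exact (QuotientGroup.eq_one_iff x).1 this
    exact ((Subgroup.mem_center_iff.1 hx) y).symm
  have hPq : IsPGroup 2 (P ⧸ Subgroup.center P) := hP.to_quotient _
  have := hPq.center_nontrivial
  obtain ⟨⟨u, hu⟩, hu1⟩ := exists_ne (1 : Subgroup.center (P ⧸ Subgroup.center P))
  have hu1' : u ≠ 1 := fun h => hu1 (Subtype.ext h)
  obtain ⟨m, hm1, hm2⟩ := exists_pow_invol hPq hu1'
  have hum : u ^ m ∈ Subgroup.center (P ⧸ Subgroup.center P) := Subgroup.pow_mem _ hu m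
  obtain ⟨x, hx⟩ := QuotientGroup.mk_surjective (u ^ m)
  rw [← hx] at hm1 hm2 hum
  have hx1 : x ∉ Subgroup.center P := fun h => hm1 ((QuotientGroup.eq_one_iff x).2 h)
  have hx2 : x * x ∈ Subgroup.center P := by
    rw [← QuotientGroup.eq_one_iff, QuotientGroup.mk_mul]; exact hm2
  have hx3 : ∀ y : P, x⁻¹ * y⁻¹ * x * y ∈ Subgroup.center P := by
    intro y
    have h1 := (Subgroup.mem_center_iff.1 hum) (QuotientGroup.mk y)
    rw [← QuotientGroup.eq_one_iff]
    simp only [QuotientGroup.mk_mul, QuotientGroup.mk_inv]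
    calc (QuotientGroup.mk x : P ⧸ Subgroup.center P)⁻¹ * (QuotientGroup.mk y)⁻¹ *
          QuotientGroup.mk x * QuotientGroup.mk y
        = (QuotientGroup.mk x : P ⧸ Subgroup.center P)⁻¹ * (QuotientGroup.mk y)⁻¹ *
          (QuotientGroup.mk x * QuotientGroup.mk y) := by group
      _ = (QuotientGroup.mk x : P ⧸ Subgroup.center P)⁻¹ * (QuotientGroup.mk y)⁻¹ *
          (QuotientGroup.mk y * QuotientGroup.mk x) := by rw [h1]
      _ = 1 := by group
  exact hx1 (hii x (hQ x (fun y => comm_sq_of_sq_central (hx3 y) hx2)))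

end caseA

section caseB

open scoped IsMulCommutative

variable {P : Type*} [Group P]

/-- First isomorphism theorem, cardinality form. -/
theorem card_range_mul_card_ker' {G H : Type*} [Group G] [Group H] (f : G →* H) :
    Nat.card f.range * Nat.card f.ker = Nat.card G := by
  rw [← Subgroup.index_ker, mul_comm]
  exact Subgroup.card_mul_index f.ker

/-- The structure of the centre in the class two case: there is `E ≥ 2` such that the centre
has exponent `2 ^ E`, the elements of the centre killed by `2 ^ (E - 1)` are squares of central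
elements and every involution is a `2 ^ (E - 1)`-th power of a central element. -/
theorem suz_center_struct [Finite P] (hP : IsPGroup 2 P) (ξ : MulAut P) (htr : SuzTrans P ξ)
    (c : P) (hc : c ∈ Subgroup.center P) (hc2 : c * c ≠ 1) :
    ∃ E : ℕ, 2 ≤ E ∧ (∀ a ∈ Subgroup.center P, a ^ (2 ^ E) = 1) ∧
      (∀ z : P, z ≠ 1 → z * z = 1 → ∃ a ∈ Subgroup.center P, a ^ (2 ^ (E - 1)) = z) ∧
      (∀ a ∈ Subgroup.center P, a ^ (2 ^ (E - 1)) = 1 → ∃ b ∈ Subgroup.center P, b * b = a) := by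
  have : Fact (Nat.Prime 2) := ⟨Nat.prime_two⟩
  obtain ⟨a0, ha0⟩ := Finite.exists_max (fun a : Subgroup.center P => orderOf (a : P))
  obtain ⟨E, hE⟩ := (IsPGroup.iff_orderOf.1 hP) (a0 : P)
  have hexp : ∀ a ∈ Subgroup.center P, a ^ (2 ^ E) = 1 := by
    intro a ha
    obtain ⟨k, hk⟩ := (IsPGroup.iff_orderOf.1 hP) a
    have h1 := ha0 ⟨a, ha⟩
    simp only at h1
    rw [hk, hE] at h1
    have hkE : k ≤ E := (Nat.pow_le_pow_iff_right (by norm_num)).1 h1
    apply orderOf_dvd_iff_pow_eq_one.1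
    rw [hk]; exact pow_dvd_pow 2 hkE
  have hE2 : 2 ≤ E := by
    by_contra h
    have hc' := hexp c hc
    have hE1 : E = 0 ∨ E = 1 := by omega
    rcases hE1 with rfl | rfl
    · simp only [pow_zero, pow_one] at hc'
      exact hc2 (by rw [hc']; simp)
    · apply hc2
      simpa [pow_two] using hc'
  have hz0 : (a0 : P) ^ (2 ^ (E - 1)) ≠ 1 ∧
      (a0 : P) ^ (2 ^ (E - 1)) * (a0 : P) ^ (2 ^ (E - 1)) = 1 := by
    constructor
    · intro h
      have h1 := orderOf_dvd_of_pow_eq_one h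
      rw [hE] at h1
      have h2 := Nat.le_of_dvd (by positivity) h1
      have h3 : E - 1 < E := by omega
      have h4 : 2 ^ (E - 1) < 2 ^ E := Nat.pow_lt_pow_right (by norm_num) h3
      omega
    · rw [← pow_add, ← two_mul, ← pow_succ']
      have h3 : E - 1 + 1 = E := by omega
      rw [h3, ← hE, pow_orderOf_eq_one]
  have hb : ∀ z : P, z ≠ 1 → z * z = 1 → ∃ a ∈ Subgroup.center P, a ^ (2 ^ (E - 1)) = z := by
    intro z hz1 hz2
    obtain ⟨j, hj⟩ := htr _ z hz0.1 hz0.2 hz1 hz2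
    exact ⟨(ξ ^ j) a0, mulAut_mem_center _ a0.2, by rw [← map_pow, hj]⟩
  refine ⟨E, hE2, hexp, hb, ?_⟩
  -- counting
  let σ : Subgroup.center P →* Subgroup.center P := powMonoidHom 2
  let π : Subgroup.center P →* Subgroup.center P := powMonoidHom (2 ^ (E - 1))
  have h1 : σ.range ≤ π.ker := by
    rintro _ ⟨a, rfl⟩
    rw [MonoidHom.mem_ker]
    show (a ^ 2) ^ (2 ^ (E - 1)) = 1
    rw [← pow_mul, ← pow_succ']
    have h3 : E - 1 + 1 = E := by omega
    rw [h3]
    exact Subtype.ext (by simpa using hexp a a.2)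
  have h3 : σ.ker ≤ π.range := by
    intro a ha
    rw [MonoidHom.mem_ker] at ha
    have ha' : (a : P) * (a : P) = 1 := by
      have : (a ^ 2 : Subgroup.center P) = 1 := ha
      rw [pow_two] at this
      exact congrArg Subtype.val this
    by_cases ha1 : (a : P) = 1
    · exact ⟨1, by
        show (1 : Subgroup.center P) ^ (2 ^ (E - 1)) = a
        rw [one_pow]; exact Subtype.ext ha1.symm⟩
    · obtain ⟨b, hb1, hb2⟩ := hb a ha1 ha'
      refine ⟨⟨b, hb1⟩, ?_⟩
      show (⟨b, hb1⟩ : Subgroup.center P) ^ (2 ^ (E - 1)) = a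
      exact Subtype.ext (by simpa using hb2)
  have cσ := card_range_mul_card_ker' σ
  have cπ := card_range_mul_card_ker' π
  have hle := Subgroup.card_le_of_le h3
  have h4 : Nat.card π.ker ≤ Nat.card σ.range := by
    by_contra hlt
    rw [not_le] at hlt
    have hpos : 0 < Nat.card π.range := Nat.card_pos
    have h5 : Nat.card σ.range * Nat.card σ.ker < Nat.card π.range * Nat.card π.ker :=
      calc Nat.card σ.range * Nat.card σ.ker ≤ Nat.card σ.range * Nat.card π.range :=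
            Nat.mul_le_mul_left _ hle
        _ < Nat.card π.ker * Nat.card π.range := Nat.mul_lt_mul_of_pos_right hlt hpos
        _ = _ := mul_comm _ _
    omega
  have heq : σ.range = π.ker := Subgroup.eq_of_le_of_card_ge h1 h4
  intro a ha hapow
  have hmem : (⟨a, ha⟩ : Subgroup.center P) ∈ π.ker := by
    rw [MonoidHom.mem_ker]
    show (⟨a, ha⟩ : Subgroup.center P) ^ (2 ^ (E - 1)) = 1
    exact Subtype.ext (by simpa using hapow)
  rw [← heq] at hmem
  obtain ⟨b, hb'⟩ := hmem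
  refine ⟨b, b.2, ?_⟩
  have hb'' : b ^ 2 = (⟨a, ha⟩ : Subgroup.center P) := hb'
  have := congrArg Subtype.val hb''
  simpa [pow_two] using this

end caseB

section tau

variable {P : Type*} [Group P]

/-- In the class two case, squares are central and the `2 ^ E`-th power map is a homomorphism
into the involutions with kernel the centre. -/
theorem suz_tau (hcent : ∀ z : P, z * z = 1 → z ∈ Subgroup.center P)
    (hcomm : ∀ x y : P, (x⁻¹ * y⁻¹ * x * y) * (x⁻¹ * y⁻¹ * x * y) = 1)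
    (E : ℕ) (hE2 : 2 ≤ E) (hexp : ∀ a ∈ Subgroup.center P, a ^ (2 ^ E) = 1)
    (hroot : ∀ a ∈ Subgroup.center P, a ^ (2 ^ (E - 1)) = 1 →
      ∃ b ∈ Subgroup.center P, b * b = a) :
    (∀ x : P, x * x ∈ Subgroup.center P) ∧
    (∀ x y : P, (x * y) ^ (2 ^ E) = x ^ (2 ^ E) * y ^ (2 ^ E)) ∧
    (∀ x : P, x ^ (2 ^ E) * x ^ (2 ^ E) = 1) ∧
    (∀ x : P, x ^ (2 ^ E) = 1 → x ∈ Subgroup.center P) := by
  have hsqc : ∀ x : P, x * x ∈ Subgroup.center P := by
    intro x
    rw [Subgroup.mem_center_iff]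
    intro y
    have hc := hcent _ (hcomm x y)
    set c' := x⁻¹ * y⁻¹ * x * y with hc'
    have hcz : Commute c' x := (Subgroup.mem_center_iff.1 hc x).symm
    have e1 : y⁻¹ * x * y = x * c' := by rw [hc']; group
    have e2 : y⁻¹ * (x * x) * y = (y⁻¹ * x * y) * (y⁻¹ * x * y) := by group
    rw [e1, hcz.mul_mul_mul_comm, hcomm x y, mul_one] at e2
    calc y * (x * x) = y * (y⁻¹ * (x * x) * y) := by rw [e2]
      _ = x * x * y := by group
  have hE1 : 2 ^ E = 2 * 2 ^ (E - 1) := by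
    rw [← pow_succ']; congr 1; omega
  have hE1' : 2 ^ (E - 1) = 2 * 2 ^ (E - 2) := by
    rw [← pow_succ']; congr 1; omega
  refine ⟨hsqc, ?_, ?_, ?_⟩
  · intro x y
    have hc := hcent _ (hcomm y x)
    set c₁ := y⁻¹ * x⁻¹ * y * x with hc₁
    have h1 : (x * y) ^ 2 = x ^ 2 * y ^ 2 * c₁ := by
      have e1 : x * y * (x * y) = x * x * (y * (c₁ * y)) := by rw [hc₁]; group
      have e2 : c₁ * y = y * c₁ := (Subgroup.mem_center_iff.1 hc y).symm
      rw [pow_two, e1, e2, pow_two, pow_two]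
      simp only [mul_assoc]
    have hcc : Commute (x ^ 2 * y ^ 2) c₁ := Subgroup.mem_center_iff.1 hc _
    have hxy : Commute (x ^ 2) (y ^ 2) := by
      have := hsqc x
      rw [← pow_two] at this
      exact (Subgroup.mem_center_iff.1 this _).symm
    have hc1 : c₁ ^ (2 ^ (E - 1)) = 1 := by
      rw [hE1', pow_mul, pow_two, hcomm y x, one_pow]
    rw [hE1, pow_mul, h1, hcc.mul_pow, hxy.mul_pow, hc1, mul_one, ← pow_mul, ← pow_mul]
  · intro x
    rw [← pow_add, ← two_mul, pow_mul, pow_two]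
    exact hexp _ (hsqc x)
  · intro x hx
    have h1 : (x * x) ^ (2 ^ (E - 1)) = 1 := by
      rw [← pow_two, ← pow_mul, ← hE1]; exact hx
    obtain ⟨b, hb, hb2⟩ := hroot _ (hsqc x) h1
    have hbi : b⁻¹ ∈ Subgroup.center P := Subgroup.inv_mem _ hb
    have hcw : Commute b⁻¹ x := (Subgroup.mem_center_iff.1 hbi x).symm
    have h2 : (x * b⁻¹) * (x * b⁻¹) = 1 := by
      rw [hcw.mul_mul_mul_comm, ← mul_inv_rev, hb2, mul_inv_cancel]
    have h3 := hcent _ h2
    have h4 : x = (x * b⁻¹) * b := by group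
    rw [h4]; exact Subgroup.mul_mem _ h3 hb

/-- The subgroup of elements of order at most two, when these are central. -/
def omegaOneSub (P : Type*) [Group P] (hcent : ∀ z : P, z * z = 1 → z ∈ Subgroup.center P) :
    Subgroup P where
  carrier := {z | z * z = 1}
  one_mem' := by simp
  mul_mem' := by
    intro a b ha hb
    change a * a = 1 at ha
    change b * b = 1 at hb
    change a * b * (a * b) = 1
    have hba : Commute b a := Subgroup.mem_center_iff.1 (hcent a ha) b
    rw [hba.mul_mul_mul_comm, ha, hb, mul_one]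
  inv_mem' := by
    intro a ha
    change a * a = 1 at ha
    change a⁻¹ * a⁻¹ = 1
    rw [← mul_inv_rev, ha, inv_one]

theorem mem_omegaOneSub {hcent : ∀ z : P, z * z = 1 → z ∈ Subgroup.center P} {z : P} :
    z ∈ omegaOneSub P hcent ↔ z * z = 1 := Iff.rfl

theorem omegaOneSub_normal (hcent : ∀ z : P, z * z = 1 → z ∈ Subgroup.center P) :
    (omegaOneSub P hcent).Normal := by
  constructor
  intro n hn g
  rw [mem_omegaOneSub] at hn ⊢
  calc g * n * g⁻¹ * (g * n * g⁻¹) = g * (n * n) * g⁻¹ := by group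
    _ = 1 := by rw [hn]; group

end tau

section core

variable {P : Type*} [Group P]

/-- The number of involutions is odd, hence some odd power of `ξ` fixes a given involution. -/
theorem suz_odd_period [Finite P] (hP : IsPGroup 2 P) (ξ : MulAut P) (htr : SuzTrans P ξ)
    (hcent : ∀ z : P, z * z = 1 → z ∈ Subgroup.center P) (e : P) (he1 : e ≠ 1)
    (he2 : e * e = 1) : ∃ N : ℕ, Odd N ∧ (ξ ^ N) e = e := by
  have : Fact (Nat.Prime 2) := ⟨Nat.prime_two⟩
  refine ⟨Function.minimalPeriod (ξ • ·) e, ?_, ?_⟩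
  · have horb : MulAction.orbit (Subgroup.zpowers ξ) e =
        ((omegaOneSub P hcent : Subgroup P) : Set P) \ {1} := by
      ext z
      constructor
      · rintro ⟨⟨φ, hφ⟩, rfl⟩
        refine ⟨?_, ?_⟩
        · show φ e * φ e = 1
          rw [← map_mul, he2, map_one]
        · intro h
          have h' : φ e = 1 := h
          exact he1 ((MulEquiv.map_eq_one_iff φ).1 h')
      · rintro ⟨hz2, hz1⟩
        have hz2' : z * z = 1 := hz2
        have hz1' : z ≠ 1 := hz1
        obtain ⟨i, hi⟩ := htr e z he1 he2 hz1' hz2'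
        exact ⟨⟨ξ ^ i, Subgroup.pow_mem _ (Subgroup.mem_zpowers ξ) i⟩, hi⟩
    have : Fintype (MulAction.orbit (Subgroup.zpowers ξ) e) := Fintype.ofFinite _
    rw [MulAction.minimalPeriod_eq_card, ← Nat.card_eq_fintype_card, Nat.card_coe_set_eq, horb,
      Set.ncard_sdiff_singleton_of_mem (Subgroup.one_mem _)]
    obtain ⟨a, ha⟩ := (hP.to_subgroup (omegaOneSub P hcent)).exists_card_eq
    have hcard : ((omegaOneSub P hcent : Subgroup P) : Set P).ncard = 2 ^ a := by
      rw [← ha]; rfl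
    rw [hcard]
    have ha0 : a ≠ 0 := by
      rintro rfl
      rw [pow_zero, Subgroup.card_eq_one] at ha
      have : e ∈ omegaOneSub P hcent := he2
      rw [ha, Subgroup.mem_bot] at this
      exact he1 this
    obtain ⟨a', rfl⟩ := Nat.exists_eq_succ_of_ne_zero ha0
    refine ⟨2 ^ a' - 1, ?_⟩
    have : 0 < 2 ^ a' := by positivity
    rw [pow_succ]; omega
  · have := (MulAction.pow_smul_eq_iff_minimalPeriod_dvd (a := ξ) (b := e)
      (n := Function.minimalPeriod (ξ • ·) e)).2 dvd_rfl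
    simpa using this

theorem suz_core [Finite P] (hP : IsPGroup 2 P) (ξ : MulAut P) (htr : SuzTrans P ξ)
    (hcent : ∀ z : P, z * z = 1 → z ∈ Subgroup.center P)
    (hcomm : ∀ x y : P, (x⁻¹ * y⁻¹ * x * y) * (x⁻¹ * y⁻¹ * x * y) = 1)
    (τ : P → P) (t1 : ∀ x y, τ (x * y) = τ x * τ y) (t2 : ∀ x, τ x * τ x = 1)
    (t3 : ∀ x, τ x = 1 → x ∈ Subgroup.center P) (t4 : ∀ (φ : MulAut P) x, τ (φ x) = φ (τ x))
    (x : P) (hx : x ∉ Subgroup.center P) : ∀ y : P, x⁻¹ * y⁻¹ * x * y = 1 := by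
  have he1 : τ x ≠ 1 := fun h => hx (t3 x h)
  have he2 : τ x * τ x = 1 := t2 x
  have hτ1 : τ 1 = 1 := by
    have := t1 1 1
    rw [mul_one] at this
    exact (mul_eq_left.1 this.symm)
  have hcz : ∀ y g : P, g * (x⁻¹ * y⁻¹ * x * y) = (x⁻¹ * y⁻¹ * x * y) * g := fun y g =>
    Subgroup.mem_center_iff.1 (hcent _ (hcomm x y)) g
  -- commutator depends only on τ
  have c1 : ∀ y y' : P, τ y = τ y' → x⁻¹ * y⁻¹ * x * y = x⁻¹ * y'⁻¹ * x * y' := by
    intro y y' h
    have ha : y' * y⁻¹ ∈ Subgroup.center P := by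
      apply t3
      rw [t1, ← h, ← t1, mul_inv_cancel, hτ1]
    have ha' := Subgroup.mem_center_iff.1 ha x
    have hy' : y' = (y' * y⁻¹) * y := by group
    set a := y' * y⁻¹ with ha_def
    rw [hy']
    calc x⁻¹ * y⁻¹ * x * y = x⁻¹ * y⁻¹ * (a⁻¹ * (a * x)) * y := by group
      _ = x⁻¹ * y⁻¹ * (a⁻¹ * (x * a)) * y := by rw [ha']
      _ = x⁻¹ * (a * y)⁻¹ * x * (a * y) := by group
  have c2 : ∀ y y' : P, x⁻¹ * (y * y')⁻¹ * x * (y * y') =
      (x⁻¹ * y⁻¹ * x * y) * (x⁻¹ * y'⁻¹ * x * y') := by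
    intro y y'
    calc x⁻¹ * (y * y')⁻¹ * x * (y * y') = x⁻¹ * y'⁻¹ * x * ((x⁻¹ * y⁻¹ * x * y) * y') := by group
      _ = x⁻¹ * y'⁻¹ * x * (y' * (x⁻¹ * y⁻¹ * x * y)) := by rw [hcz y y']
      _ = (x⁻¹ * y'⁻¹ * x * y') * (x⁻¹ * y⁻¹ * x * y) := by group
      _ = (x⁻¹ * y⁻¹ * x * y) * (x⁻¹ * y'⁻¹ * x * y') := hcz y _
  have c3 : x⁻¹ * x⁻¹ * x * x = 1 := by group
  have c4 : ∀ y : P, y⁻¹ * x⁻¹ * y * x = x⁻¹ * y⁻¹ * x * y := by
    intro y
    have h1 : y⁻¹ * x⁻¹ * y * x = (x⁻¹ * y⁻¹ * x * y)⁻¹ := by group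
    rw [h1]
    exact inv_eq_of_mul_eq_one_left (hcomm x y)
  -- the action of integer powers of ξ
  have ap_add : ∀ (i j : ℤ) (y : P), (ξ ^ (i + j)) y = (ξ ^ i) ((ξ ^ j) y) := by
    intro i j y
    rw [zpow_add, MulAut.mul_apply]
  have ap_zero : ∀ y : P, (ξ ^ (0 : ℤ)) y = y := by
    intro y
    rw [zpow_zero, MulAut.one_apply]
  have ap_neg : ∀ (j : ℤ) (y : P), (ξ ^ (-j)) ((ξ ^ j) y) = y := by
    intro j y
    rw [← ap_add, neg_add_cancel, ap_zero]
  have ap_neg' : ∀ (j : ℤ) (y : P), (ξ ^ j) ((ξ ^ (-j)) y) = y := by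
    intro j y
    rw [← ap_add, add_neg_cancel, ap_zero]
  have ap_comm : ∀ (i j : ℤ) (y : P), (ξ ^ i) ((ξ ^ j) y) = (ξ ^ j) ((ξ ^ i) y) := by
    intro i j y
    rw [← ap_add, ← ap_add, add_comm]
  have ap_inj : ∀ (j : ℤ) (y y' : P), (ξ ^ j) y = (ξ ^ j) y' → y = y' := fun j y y' h =>
    (ξ ^ j).injective h
  have ap_sq : ∀ (j : ℤ) (z : P), z * z = 1 → (ξ ^ j) z * (ξ ^ j) z = 1 := by
    intro j z hz
    rw [← map_mul, hz, map_one]
  set e := τ x with he
  set g : ℤ → P := fun j => x⁻¹ * ((ξ ^ j) x)⁻¹ * x * (ξ ^ j) x with hg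
  have F1 : ∀ j j' : ℤ, (ξ ^ j) e = (ξ ^ j') e → g j = g j' := by
    intro j j' h
    exact c1 _ _ (by rw [t4, t4]; exact h)
  have F2 : ∀ j : ℤ, g (-j) = (ξ ^ (-j)) (g j) := by
    intro j
    show x⁻¹ * ((ξ ^ (-j)) x)⁻¹ * x * (ξ ^ (-j)) x =
      (ξ ^ (-j)) (x⁻¹ * ((ξ ^ j) x)⁻¹ * x * (ξ ^ j) x)
    rw [map_mul, map_mul, map_mul, map_inv, map_inv, ap_neg]
    exact (c4 _).symm
  have F3 : ∀ j k : ℤ, e * (ξ ^ j) e = (ξ ^ k) e → g k = g j := by
    intro j k h
    have h1 : τ ((ξ ^ k) x) = τ (x * (ξ ^ j) x) := by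
      rw [t4, t1, t4, ← h]
    have h2 := c1 _ _ h1
    rw [c2, c3, one_mul] at h2
    exact h2
  have FF : ∀ j k : ℤ, e * (ξ ^ j) e = (ξ ^ k) e → ∀ z : P, z * z = 1 →
      z * (ξ ^ j) z = (ξ ^ k) z := by
    intro j k h z hz
    by_cases hz1 : z = 1
    · rw [hz1, map_one, map_one, mul_one]
    · obtain ⟨i, hi⟩ := htr e z he1 he2 hz1 hz
      have hi' : (ξ ^ (i : ℤ)) e = z := by rw [zpow_natCast]; exact hi
      rw [← hi', ap_comm j, ← map_mul, h, ap_comm]
  -- the key additive relation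
  have GG : ∀ j k : ℤ, ∀ z : P, z * z = 1 → z * (ξ ^ j) z = (ξ ^ k) z →
      (ξ ^ (-j)) z * (ξ ^ (-k)) z = (ξ ^ (-(j + k))) z := by
    intro j k z hz h
    apply ap_inj (j + k)
    rw [map_mul, ap_neg', ← ap_add, ← ap_add]
    have e1 : j + k + -j = k := by ring
    have e2 : j + k + -k = j := by ring
    rw [e1, e2, ← h, mul_assoc, ap_sq j z hz, mul_one]
  have F4 : ∀ j k : ℤ, e * (ξ ^ j) e = (ξ ^ k) e → g (j + k) = g j := by
    intro j k h
    have hcc : g j * g j = 1 := hcomm _ _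
    have hA := GG j k e he2 h
    have hB := GG j k (g j) hcc (FF j k h (g j) hcc)
    have h1 : τ ((ξ ^ (-(j + k))) x) = τ ((ξ ^ (-j)) x * (ξ ^ (-k)) x) := by
      rw [t4, t1, t4, t4, hA]
    have h2 : g (-(j + k)) = g (-j) * g (-k) := by
      have := c1 _ _ h1
      rw [c2] at this
      exact this
    rw [F2 (j + k), F2 j, F2 k, F3 j k h, hB] at h2
    exact ap_inj _ _ _ h2
  have F5 : ∀ j : ℤ, g (2 * j) = 1 := by
    intro j
    by_cases h : (ξ ^ j) e = e
    · have h1 : (ξ ^ (2 * j)) e = (ξ ^ (0 : ℤ)) e := by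
        rw [two_mul, ap_add, h, h, ap_zero]
      rw [F1 _ _ h1]
      show x⁻¹ * ((ξ ^ (0 : ℤ)) x)⁻¹ * x * (ξ ^ (0 : ℤ)) x = 1
      rw [ap_zero]; exact c3
    · have hne : e * (ξ ^ j) e ≠ 1 := by
        intro h'
        apply h
        rw [eq_inv_of_mul_eq_one_right h']
        exact inv_eq_of_mul_eq_one_left he2
      have hsq : (e * (ξ ^ j) e) * (e * (ξ ^ j) e) = 1 := by
        have hc : Commute ((ξ ^ j) e) e := Subgroup.mem_center_iff.1 (hcent e he2) _
        rw [hc.mul_mul_mul_comm, he2, ap_sq j e he2, mul_one]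
      obtain ⟨k, hk⟩ := htr e _ he1 he2 hne hsq
      have hk' : e * (ξ ^ j) e = (ξ ^ (k : ℤ)) e := by rw [zpow_natCast]; exact hk.symm
      have h4 := F4 j k hk'
      have h5 : τ ((ξ ^ (j + k)) x) = τ ((ξ ^ j) x * (ξ ^ (2 * j)) x) := by
        rw [t4, t1, t4, t4, ap_add, ← hk', map_mul, two_mul, ap_add]
      have h6 : g (j + k) = g j * g (2 * j) := by
        have := c1 _ _ h5
        rw [c2] at this
        exact this
      rw [h4] at h6
      exact (mul_eq_left.1 h6.symm)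
  obtain ⟨N, hNodd, hN⟩ := suz_odd_period hP ξ htr hcent e he1 he2
  intro y
  by_cases hy : τ y = 1
  · have hyc := Subgroup.mem_center_iff.1 (t3 y hy) x
    calc x⁻¹ * y⁻¹ * x * y = x⁻¹ * y⁻¹ * (x * y) := by group
      _ = x⁻¹ * y⁻¹ * (y * x) := by rw [hyc]
      _ = 1 := by group
  · obtain ⟨i, hi⟩ := htr e (τ y) he1 he2 hy (t2 y)
    have hi' : (ξ ^ (i : ℤ)) e = τ y := by rw [zpow_natCast]; exact hi
    have h1 : x⁻¹ * y⁻¹ * x * y = g i := by
      apply c1
      rw [t4, hi']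
    rw [h1]
    obtain ⟨s, hs⟩ := hNodd
    have hNi : ∀ m : ℕ, (ξ ^ ((m : ℤ) * (N : ℤ))) e = e := by
      intro m
      induction m with
      | zero => simp
      | succ m ih =>
        have : ((m + 1 : ℕ) : ℤ) * (N : ℤ) = (m : ℤ) * (N : ℤ) + (N : ℤ) := by push_cast; ring
        rw [this, ap_add, zpow_natCast, hN, ih]
    have h2 : (ξ ^ (i : ℤ)) e = (ξ ^ (2 * ((i : ℤ) * ((s : ℤ) + 1)))) e := by
      have : 2 * ((i : ℤ) * ((s : ℤ) + 1)) = (i : ℤ) + (i : ℤ) * (N : ℤ) := by
        rw [hs]; push_cast; ring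
      rw [this, ap_add, hNi]
    rw [F1 _ _ h2]
    exact F5 _

theorem suz_caseB [Finite P] (hP : IsPGroup 2 P)
    (hna : ∃ x y : P, x * y ≠ y * x) (ξ : MulAut P) (htr : SuzTrans P ξ)
    (hcent : ∀ z : P, z * z = 1 → z ∈ Subgroup.center P)
    (hcomm : ∀ x y : P, (x⁻¹ * y⁻¹ * x * y) * (x⁻¹ * y⁻¹ * x * y) = 1)
    (c : P) (hc : c ∈ Subgroup.center P) (hc2 : c * c ≠ 1) : False := by
  obtain ⟨E, hE2, hexp, -, hroot⟩ := suz_center_struct hP ξ htr c hc hc2
  obtain ⟨-, t1, t2, t3⟩ := suz_tau hcent hcomm E hE2 hexp hroot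
  obtain ⟨x, y, hxy⟩ := hna
  apply hxy
  by_cases hx : x ∈ Subgroup.center P
  · exact (Subgroup.mem_center_iff.1 hx y).symm
  · have h := suz_core hP ξ htr hcent hcomm (fun x => x ^ (2 ^ E)) t1 t2 t3
      (fun φ x => (map_pow φ x _).symm) x hx y
    calc x * y = y * x * (x⁻¹ * y⁻¹ * x * y) := by group
      _ = y * x := by rw [h, mul_one]

end core

section main

theorem suz_quot_pow {P : Type*} [Group P] (Zs : Subgroup P) [Zs.Normal] (ξ : MulAut P)
    (hmap : Zs.map (ξ : P →* P) = Zs) (j : ℕ) (x : P) :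
    ((QuotientGroup.congr Zs Zs ξ hmap : MulAut (P ⧸ Zs)) ^ j) (QuotientGroup.mk x) =
      QuotientGroup.mk ((ξ ^ j) x) := by
  induction j generalizing x with
  | zero => simp
  | succ j ih =>
    rw [pow_succ, pow_succ, MulAut.mul_apply, MulAut.mul_apply, QuotientGroup.congr_mk, ih]

theorem suz_center_aux (n : ℕ) : ∀ (P : Type u) [Group P] [Finite P], Nat.card P ≤ n →
    IsPGroup 2 P → (∃ x y : P, x * y ≠ y * x) →
    (∃ x y : P, x ≠ y ∧ x ≠ 1 ∧ x * x = 1 ∧ y ≠ 1 ∧ y * y = 1) →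
    ∀ ξ : MulAut P, SuzTrans P ξ → ∀ z ∈ Subgroup.center P, z * z = 1 := by
  induction n with
  | zero =>
    intro P _ _ hcard
    have := Nat.card_pos (α := P)
    omega
  | succ n ih =>
    intro P _ _ hcard hP hna htwo ξ htr
    by_contra hcon
    push Not at hcon
    obtain ⟨c, hc, hc2⟩ := hcon
    have : Fact (Nat.Prime 2) := ⟨Nat.prime_two⟩
    have hnt : Nontrivial P := by
      obtain ⟨x, y, hxy, _⟩ := htwo
      exact ⟨⟨x, y, hxy⟩⟩
    have hcent := suz_inv_central hP ξ htr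
    -- (i) every involution is the square of a central element
    have hi : ∀ z : P, z ≠ 1 → z * z = 1 → ∃ w ∈ Subgroup.center P, w * w = z := by
      obtain ⟨k, hk⟩ := (IsPGroup.iff_orderOf.1 hP) c
      have hk2 : 2 ≤ k := by
        by_contra h
        have hk1 : k = 0 ∨ k = 1 := by omega
        rcases hk1 with rfl | rfl
        · rw [pow_zero, orderOf_eq_one_iff] at hk
          exact hc2 (by rw [hk, mul_one])
        · apply hc2
          rw [← pow_two]
          have := pow_orderOf_eq_one c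
          rw [hk] at this
          simpa using this
      have hz0 : (c ^ (2 ^ (k - 2))) * (c ^ (2 ^ (k - 2))) ≠ 1 := by
        intro h
        rw [← pow_add, ← two_mul, ← pow_succ'] at h
        have h1 := orderOf_dvd_of_pow_eq_one h
        rw [hk] at h1
        have h2 := Nat.le_of_dvd (by positivity) h1
        have h3 : k - 2 + 1 < k := by omega
        have h4 : 2 ^ (k - 2 + 1) < 2 ^ k := Nat.pow_lt_pow_right (by norm_num) h3
        omega
      have hz0' : (c ^ (2 ^ (k - 2))) * (c ^ (2 ^ (k - 2))) *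
          ((c ^ (2 ^ (k - 2))) * (c ^ (2 ^ (k - 2)))) = 1 := by
        rw [← pow_add, ← pow_add, ← two_mul, ← two_mul, ← pow_succ', ← pow_succ']
        have h3 : k - 2 + 1 + 1 = k := by omega
        rw [h3, ← hk, pow_orderOf_eq_one]
      intro z hz1 hz2
      obtain ⟨j, hj⟩ := htr _ z hz0 hz0' hz1 hz2
      refine ⟨(ξ ^ j) (c ^ (2 ^ (k - 2))), mulAut_mem_center _ (Subgroup.pow_mem _ hc _), ?_⟩
      rw [← map_mul, hj]
    -- (ii) elements of order at most four are central
    have hii : ∀ x : P, (x * x) * (x * x) = 1 → x ∈ Subgroup.center P := by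
      intro x hx
      by_cases hx1 : x * x = 1
      · exact hcent x hx1
      · obtain ⟨w, hw, hw2⟩ := hi (x * x) hx1 hx
        have hwi : w⁻¹ ∈ Subgroup.center P := Subgroup.inv_mem _ hw
        have hcw : Commute w⁻¹ x := (Subgroup.mem_center_iff.1 hwi x).symm
        have h2 : (x * w⁻¹) * (x * w⁻¹) = 1 := by
          rw [hcw.mul_mul_mul_comm, ← mul_inv_rev, hw2, mul_inv_cancel]
        have h3 := hcent _ h2
        have h4 : x = (x * w⁻¹) * w := by group
        rw [h4]; exact Subgroup.mul_mem _ h3 hw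
    have hZn : (omegaOneSub P hcent).Normal := omegaOneSub_normal hcent
    by_cases hQ : ∃ a b : P ⧸ omegaOneSub P hcent, a * b ≠ b * a
    · -- case A: the quotient is nonabelian, use induction
      have hmap : (omegaOneSub P hcent).map (ξ : P →* P) = omegaOneSub P hcent := by
        ext y
        constructor
        · rintro ⟨x, hx, rfl⟩
          have hx' : x * x = 1 := hx
          show ξ x * ξ x = 1
          rw [← map_mul, hx', map_one]
        · intro hy
          have hy' : y * y = 1 := hy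
          refine ⟨ξ⁻¹ y, ?_, by simp⟩
          show ξ⁻¹ y * ξ⁻¹ y = 1
          rw [← map_mul, hy', map_one]
      have hcardQ : Nat.card (P ⧸ omegaOneSub P hcent) ≤ n := by
        have h1 := Subgroup.card_eq_card_quotient_mul_card_subgroup (omegaOneSub P hcent)
        have h2 : 1 < Nat.card (omegaOneSub P hcent) := by
          rw [Subgroup.one_lt_card_iff_ne_bot]
          obtain ⟨x, y, -, hx1, hx2, -⟩ := htwo
          intro hbot
          have : x ∈ omegaOneSub P hcent := hx2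
          rw [hbot, Subgroup.mem_bot] at this
          exact hx1 this
        have h3 : 0 < Nat.card (P ⧸ omegaOneSub P hcent) := Nat.card_pos
        nlinarith
      have htwoQ : ∃ x y : P ⧸ omegaOneSub P hcent,
          x ≠ y ∧ x ≠ 1 ∧ x * x = 1 ∧ y ≠ 1 ∧ y * y = 1 := by
        obtain ⟨z₁, z₂, hne, h11, h12, h21, h22⟩ := htwo
        obtain ⟨w₁, hw₁, hw₁2⟩ := hi z₁ h11 h12
        obtain ⟨w₂, hw₂, hw₂2⟩ := hi z₂ h21 h22
        refine ⟨QuotientGroup.mk w₁, QuotientGroup.mk w₂, ?_, ?_, ?_, ?_, ?_⟩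
        · intro h
          rw [QuotientGroup.eq] at h
          have h' : (w₁⁻¹ * w₂) * (w₁⁻¹ * w₂) = 1 := h
          have hcw : Commute w₂ w₁⁻¹ :=
            (Subgroup.mem_center_iff.1 hw₂ w₁⁻¹).symm
          rw [hcw.mul_mul_mul_comm, ← mul_inv_rev, hw₁2, hw₂2] at h'
          exact hne (inv_mul_eq_one.1 h')
        · intro h
          rw [QuotientGroup.eq_one_iff] at h
          have h' : w₁ * w₁ = 1 := h
          exact h11 (hw₁2 ▸ h')
        · rw [← QuotientGroup.mk_mul, QuotientGroup.eq_one_iff, hw₁2]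
          exact h12
        · intro h
          rw [QuotientGroup.eq_one_iff] at h
          have h' : w₂ * w₂ = 1 := h
          exact h21 (hw₂2 ▸ h')
        · rw [← QuotientGroup.mk_mul, QuotientGroup.eq_one_iff, hw₂2]
          exact h22
      have htrQ : SuzTrans (P ⧸ omegaOneSub P hcent)
          (QuotientGroup.congr (omegaOneSub P hcent) (omegaOneSub P hcent) ξ hmap) := by
        intro a b ha1 ha2 hb1 hb2
        obtain ⟨x, rfl⟩ := QuotientGroup.mk_surjective a
        obtain ⟨y, rfl⟩ := QuotientGroup.mk_surjective b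
        rw [← QuotientGroup.mk_mul, QuotientGroup.eq_one_iff] at ha2 hb2
        have hx4 : (x * x) * (x * x) = 1 := ha2
        have hy4 : (y * y) * (y * y) = 1 := hb2
        have hx2 : x * x ≠ 1 := fun h => ha1 ((QuotientGroup.eq_one_iff x).2 h)
        have hy2 : y * y ≠ 1 := fun h => hb1 ((QuotientGroup.eq_one_iff y).2 h)
        obtain ⟨j, hj⟩ := htr (x * x) (y * y) hx2 hx4 hy2 hy4
        refine ⟨j, ?_⟩
        rw [suz_quot_pow, QuotientGroup.eq]
        show ((ξ ^ j) x)⁻¹ * y * (((ξ ^ j) x)⁻¹ * y) = 1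
        have hyc := hii y hy4
        have hcw : Commute y ((ξ ^ j) x)⁻¹ := (Subgroup.mem_center_iff.1 hyc _).symm
        rw [hcw.mul_mul_mul_comm, ← mul_inv_rev, ← map_mul, hj, inv_mul_cancel]
      have IH := ih (P ⧸ omegaOneSub P hcent) hcardQ (hP.to_quotient _) hQ htwoQ _ htrQ
      apply suz_caseA hP hna hii
      intro x hx
      have hxc : (QuotientGroup.mk x : P ⧸ omegaOneSub P hcent) ∈
          Subgroup.center (P ⧸ omegaOneSub P hcent) := by
        rw [Subgroup.mem_center_iff]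
        intro b
        obtain ⟨y, rfl⟩ := QuotientGroup.mk_surjective b
        have h1 : (QuotientGroup.mk (x⁻¹ * y⁻¹ * x * y) : P ⧸ omegaOneSub P hcent) = 1 :=
          (QuotientGroup.eq_one_iff _).2 (hx y)
        have h2 : x * y = y * x * (x⁻¹ * y⁻¹ * x * y) := by group
        have h3 : (QuotientGroup.mk (x * y) : P ⧸ omegaOneSub P hcent) =
            QuotientGroup.mk (y * x) := by
          rw [h2, QuotientGroup.mk_mul, h1, mul_one]
        rw [QuotientGroup.mk_mul, QuotientGroup.mk_mul] at h3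
        exact h3.symm
      have h3 := IH _ hxc
      rw [← QuotientGroup.mk_mul, QuotientGroup.eq_one_iff] at h3
      exact h3
    · -- case B: the quotient is abelian
      push Not at hQ
      apply suz_caseB hP hna ξ htr hcent _ c hc hc2
      intro x y
      have h1 : (QuotientGroup.mk (x⁻¹ * y⁻¹ * x * y) : P ⧸ omegaOneSub P hcent) = 1 := by
        simp only [QuotientGroup.mk_mul, QuotientGroup.mk_inv]
        calc (QuotientGroup.mk x : P ⧸ omegaOneSub P hcent)⁻¹ * (QuotientGroup.mk y)⁻¹ *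
              QuotientGroup.mk x * QuotientGroup.mk y
            = (QuotientGroup.mk x : P ⧸ omegaOneSub P hcent)⁻¹ * (QuotientGroup.mk y)⁻¹ *
              (QuotientGroup.mk x * QuotientGroup.mk y) := by group
          _ = (QuotientGroup.mk x : P ⧸ omegaOneSub P hcent)⁻¹ * (QuotientGroup.mk y)⁻¹ *
              (QuotientGroup.mk y * QuotientGroup.mk x) := by
                rw [hQ (QuotientGroup.mk x) (QuotientGroup.mk y)]
          _ = 1 := by group
      exact (QuotientGroup.eq_one_iff _).1 h1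

/-- **Higman, first part.** In a finite nonabelian 2-group with more than one involution and
an automorphism whose powers permute the involutions transitively, the involutions are exactly
the nontrivial central elements. -/
theorem suz_center {P : Type u} [Group P] [Finite P] (hP : IsPGroup 2 P)
    (hna : ∃ x y : P, x * y ≠ y * x)
    (htwo : ∃ x y : P, x ≠ y ∧ x ≠ 1 ∧ x * x = 1 ∧ y ≠ 1 ∧ y * y = 1)
    (ξ : MulAut P) (htr : SuzTrans P ξ) :
    ∀ z : P, z ∈ Subgroup.center P ↔ z * z = 1 := by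
  intro z
  have hnt : Nontrivial P := by
    obtain ⟨x, y, hxy, _⟩ := htwo
    exact ⟨⟨x, y, hxy⟩⟩
  exact ⟨suz_center_aux _ P le_rfl hP hna htwo ξ htr z, suz_inv_central hP ξ htr z⟩

/-- A cyclic group of automorphisms transitive on involutions gives a single automorphism
whose natural powers are transitive on involutions. -/
theorem suzTrans_of_cyclic {P : Type*} [Group P] [Finite P] (K : Subgroup (MulAut P))
    (hK : IsCyclic K)
    (hreg : ∀ x y : P, x ≠ 1 → x * x = 1 → y ≠ 1 → y * y = 1 →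
      ∃ k : K, (k : MulAut P) x = y) : ∃ ξ : MulAut P, SuzTrans P ξ := by
  obtain ⟨g, hg⟩ := hK.exists_generator
  refine ⟨(g : MulAut P), ?_⟩
  intro x y hx1 hx2 hy1 hy2
  obtain ⟨k, hk⟩ := hreg x y hx1 hx2 hy1 hy2
  have hkg : k ∈ Submonoid.powers g := (mem_powers_iff_mem_zpowers).2 (hg k)
  obtain ⟨j, rfl⟩ := hkg
  exact ⟨j, by simpa using hk⟩

end main

end Cfsg.Agent.Helper50
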