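import Mathlib

/-!
# Coordinatisation of an elementary abelian 2-group with a transitive automorphism

An elementary abelian 2-group of order `2 ^ n` with an automorphism whose powers move a fixed
nonidentity element to every nonidentity element is the additive group of `GaloisField 2 n`,
the automorphism acting as multiplication by a generator of the multiplicative group.
-/

set_option autoImplicit false

namespace Cfsg.Agent.Helper50

/-- A group of exponent two is commutative. -/
theorem mul_comm_of_sq {A : Type*} [Group A] (hexp : ∀ a : A, a * a = 1) (a b : A) :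
    a * b = b * a := by
  have hinv : ∀ a : A, a⁻¹ = a := fun a => inv_eq_of_mul_eq_one_left (hexp a)
  calc a * b = (a * b)⁻¹ := (hinv _).symm
    _ = b⁻¹ * a⁻¹ := mul_inv_rev _ _
    _ = b * a := by rw [hinv, hinv]

/-- The commutative group structure on a group of exponent two. -/
@[reducible] def commGroupOfSq {A : Type*} [Group A] (hexp : ∀ a : A, a * a = 1) : CommGroup A :=
  { (inferInstance : Group A) with mul_comm := mul_comm_of_sq hexp }

theorem exists_field_coord {A : Type*} [Group A] [Finite A] (hexp : ∀ a : A, a * a = 1)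
    (ξ : MulAut A) (n : ℕ) (hn : Nat.card A = 2 ^ n) (e : A) (he : e ≠ 1)
    (htr : ∀ b : A, b ≠ 1 → ∃ j : ℕ, (ξ ^ j) e = b) :
    ∃ (ι : A → GaloisField 2 n) (μ : GaloisField 2 n), Function.Bijective ι ∧
      (∀ a b, ι (a * b) = ι a + ι b) ∧ ι e = 1 ∧ ∀ a, ι (ξ a) = μ * ι a := by
  classical
  let _ : CommGroup A := commGroupOfSq hexp
  have hn0 : n ≠ 0 := by
    rintro rfl
    rw [pow_zero, Nat.card_eq_one_iff_unique] at hn
    exact he (hn.1.elim e 1)
  let x : AddMonoid.End (Additive A) := MonoidHom.toAdditive (ξ : A →* A)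
  let x' : AddMonoid.End (Additive A) := MonoidHom.toAdditive ((ξ⁻¹ : MulAut A) : A →* A)
  have hxa : ∀ a : Additive A, x a = Additive.ofMul (ξ (Additive.toMul a)) := fun a => rfl
  have hx'a : ∀ a : Additive A, x' a = Additive.ofMul (ξ⁻¹ (Additive.toMul a)) := fun a => rfl
  have hxx' : x * x' = 1 := by
    ext a
    simp [hxa, hx'a]
  have hx'x : x' * x = 1 := by
    ext a
    simp [hxa, hx'a]
  have hxpow : ∀ (j : ℕ) (a : Additive A),
      (x ^ j) a = Additive.ofMul ((ξ ^ j) (Additive.toMul a)) := by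
    intro j
    induction j with
    | zero => intro a; simp
    | succ j ih =>
      intro a
      rw [pow_succ, pow_succ, AddMonoid.End.coe_mul, Function.comp_apply, ih, hxa,
        MulAut.mul_apply]
      rfl
  set C : Subring (AddMonoid.End (Additive A)) := Subring.centralizer {x} with hC
  have hmemC : ∀ φ : AddMonoid.End (Additive A), φ ∈ C ↔ x * φ = φ * x := by
    intro φ
    rw [hC, Subring.mem_centralizer_iff]
    simp
  have hxC : x ∈ C := (hmemC x).2 rfl
  have hx'C : x' ∈ C := by
    rw [hmemC, hxx', hx'x]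
  have hcomm_pow : ∀ φ ∈ C, ∀ j : ℕ, φ * x ^ j = x ^ j * φ := by
    intro φ hφ j
    have h1 : Commute φ x := ((hmemC φ).1 hφ).symm
    exact (h1.pow_right j)
  let e' : Additive A := Additive.ofMul e
  have he' : e' ≠ 0 := fun h => he (by
    have : Additive.toMul e' = Additive.toMul (0 : Additive A) := by rw [h]
    simpa [e'] using this)
  -- every nonzero element is a power of x applied to e'
  have hreach : ∀ b : Additive A, b ≠ 0 → ∃ j : ℕ, (x ^ j) e' = b := by
    intro b hb
    have hb1 : Additive.toMul b ≠ 1 := fun h => hb (by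
      have : Additive.ofMul (Additive.toMul b) = Additive.ofMul (1 : A) := by rw [h]
      simpa using this)
    obtain ⟨j, hj⟩ := htr _ hb1
    refine ⟨j, ?_⟩
    rw [hxpow]
    show Additive.ofMul ((ξ ^ j) e) = b
    rw [hj]; rfl
  have hzero : ∀ φ ∈ C, φ e' = 0 → φ = 0 := by
    intro φ hφ h0
    ext b
    by_cases hb : b = 0
    · rw [hb, map_zero]; rfl
    · obtain ⟨j, rfl⟩ := hreach b hb
      have h1 := hcomm_pow φ hφ j
      have h2 : (φ * x ^ j) e' = (x ^ j * φ) e' := by rw [h1]
      rw [AddMonoid.End.coe_mul, AddMonoid.End.coe_mul, Function.comp_apply,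
        Function.comp_apply, h0, map_zero] at h2
      rw [h2]; rfl
  have hpow : ∀ φ ∈ C, φ ≠ 0 → ∃ j : ℕ, φ = x ^ j := by
    intro φ hφ hne
    have h1 : φ e' ≠ 0 := fun h => hne (hzero φ hφ h)
    obtain ⟨j, hj⟩ := hreach _ h1
    refine ⟨j, ?_⟩
    have h2 : φ - x ^ j ∈ C := Subring.sub_mem _ hφ (Subring.pow_mem _ hxC j)
    have h3 : (φ - x ^ j) e' = 0 := by
      show φ e' - (x ^ j) e' = 0
      rw [hj, sub_self]
    exact sub_eq_zero.1 (hzero _ h2 h3)
  have hfield : IsField C := by
    refine ⟨⟨0, 1, ?_⟩, ?_, ?_⟩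
    · intro h
      have h1 : ((0 : C) : AddMonoid.End (Additive A)) e' = ((1 : C) : AddMonoid.End (Additive A)) e' := by
        rw [h]
      simp at h1
      exact he' h1.symm
    · intro a b
      apply Subtype.ext
      show (a : AddMonoid.End (Additive A)) * b = b * a
      by_cases ha : (a : AddMonoid.End (Additive A)) = 0
      · rw [ha, zero_mul, mul_zero]
      · obtain ⟨j, hj⟩ := hpow a a.2 ha
        rw [hj]
        exact (hcomm_pow b b.2 j).symm
    · intro a ha
      have ha' : (a : AddMonoid.End (Additive A)) ≠ 0 := fun h => ha (Subtype.ext h)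
      obtain ⟨j, hj⟩ := hpow a a.2 ha'
      refine ⟨⟨x' ^ j, Subring.pow_mem _ hx'C j⟩, ?_⟩
      apply Subtype.ext
      show (a : AddMonoid.End (Additive A)) * x' ^ j = 1
      have hc : Commute x x' := by
        show x * x' = x' * x
        rw [hxx', hx'x]
      rw [hj, ← hc.mul_pow, hxx', one_pow]
  let _ : Field C := hfield.toField
  -- evaluation at e
  let ev : C → A := fun φ => Additive.toMul ((φ : AddMonoid.End (Additive A)) e')
  have hev_inj : Function.Injective ev := by
    intro φ ψ h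
    have h1 : (φ : AddMonoid.End (Additive A)) e' = (ψ : AddMonoid.End (Additive A)) e' := by
      have : Additive.ofMul (ev φ) = Additive.ofMul (ev ψ) := by rw [h]
      simpa [ev] using this
    have h2 : ((φ - ψ : C) : AddMonoid.End (Additive A)) e' = 0 := by
      show (φ : AddMonoid.End (Additive A)) e' - (ψ : AddMonoid.End (Additive A)) e' = 0
      rw [h1, sub_self]
    have h3 := hzero _ (φ - ψ).2 h2
    have h4 : φ - ψ = 0 := Subtype.ext h3
    exact sub_eq_zero.1 h4
  have hev_surj : Function.Surjective ev := by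
    intro b
    by_cases hb : b = 1
    · refine ⟨0, ?_⟩
      show Additive.toMul ((0 : AddMonoid.End (Additive A)) e') = b
      rw [hb]; rfl
    · obtain ⟨j, hj⟩ := htr b hb
      refine ⟨⟨x ^ j, Subring.pow_mem _ hxC j⟩, ?_⟩
      show Additive.toMul ((x ^ j) e') = b
      rw [hxpow]
      exact hj
  have hfin : Finite C := Finite.of_injective ev hev_inj
  let _ : Fintype C := Fintype.ofFinite C
  have hcardC : Nat.card C = 2 ^ n := by
    rw [Nat.card_eq_of_bijective ev ⟨hev_inj, hev_surj⟩, hn]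
  let _ : Fintype (GaloisField 2 n) := Fintype.ofFinite _
  have hcard : Fintype.card C = Fintype.card (GaloisField 2 n) := by
    rw [← Nat.card_eq_fintype_card, ← Nat.card_eq_fintype_card, hcardC, GaloisField.card 2 n hn0]
  let f : C ≃+* GaloisField 2 n := FiniteField.ringEquivOfCardEq hcard
  let evE : C ≃ A := Equiv.ofBijective ev ⟨hev_inj, hev_surj⟩
  have hev_add : ∀ φ ψ : C, ev (φ + ψ) = ev φ * ev ψ := fun φ ψ => rfl
  have hev_one : ev 1 = e := rfl
  have hev_x : ∀ φ : C, ev (⟨x, hxC⟩ * φ) = ξ (ev φ) := fun φ => rfl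
  refine ⟨fun a => f (evE.symm a), f ⟨x, hxC⟩, ?_, ?_, ?_, ?_⟩
  · exact f.bijective.comp evE.symm.bijective
  · intro a b
    show f (evE.symm (a * b)) = f (evE.symm a) + f (evE.symm b)
    rw [← map_add]
    congr 1
    apply evE.injective
    rw [Equiv.apply_symm_apply]
    show a * b = ev (evE.symm a + evE.symm b)
    rw [hev_add]
    show a * b = evE (evE.symm a) * evE (evE.symm b)
    rw [Equiv.apply_symm_apply, Equiv.apply_symm_apply]
  · show f (evE.symm e) = 1
    have : evE.symm e = 1 := by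
      apply evE.injective
      rw [Equiv.apply_symm_apply]
      exact hev_one.symm
    rw [this, map_one]
  · intro a
    show f (evE.symm (ξ a)) = f ⟨x, hxC⟩ * f (evE.symm a)
    rw [← map_mul]
    congr 1
    apply evE.injective
    rw [Equiv.apply_symm_apply]
    show ξ a = ev (⟨x, hxC⟩ * evE.symm a)
    rw [hev_x]
    show ξ a = ξ (evE (evE.symm a))
    rw [Equiv.apply_symm_apply]

/-- Consequences of a coordinatisation. -/
theorem coord_facts {A : Type*} [Group A] {F : Type*} [Field F] (ξ : MulAut A) (e : A)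
    (htr : ∀ b : A, b ≠ 1 → ∃ j : ℕ, (ξ ^ j) e = b)
    (ι : A → F) (μ : F) (hbij : Function.Bijective ι) (hadd : ∀ a b, ι (a * b) = ι a + ι b)
    (he : ι e = 1) (hμ : ∀ a, ι (ξ a) = μ * ι a) :
    ι 1 = 0 ∧ (∀ (j : ℕ) (a : A), ι ((ξ ^ j) a) = μ ^ j * ι a) ∧
      (∀ c : F, c ≠ 0 → ∃ j : ℕ, c = μ ^ j) ∧ μ ≠ 0 := by
  have h1 : ι 1 = 0 := by
    have := hadd 1 1
    rw [mul_one] at this
    exact (add_eq_left.1 this.symm)
  have hpow : ∀ (j : ℕ) (a : A), ι ((ξ ^ j) a) = μ ^ j * ι a := by
    intro j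
    induction j with
    | zero => intro a; simp
    | succ j ih =>
      intro a
      rw [pow_succ, MulAut.mul_apply, ih, hμ, pow_succ, mul_assoc]
  refine ⟨h1, hpow, ?_, ?_⟩
  · intro c hc
    obtain ⟨b, rfl⟩ := hbij.2 c
    have hb : b ≠ 1 := fun h => hc (by rw [h, h1])
    obtain ⟨j, rfl⟩ := htr b hb
    exact ⟨j, by rw [hpow, he, mul_one]⟩
  · intro h0
    have h2 := hμ e
    rw [h0, zero_mul, ← h1] at h2
    have h3 := hbij.1 h2
    have h4 : e = 1 := by
      have := congrArg (⇑ξ⁻¹) h3
      simpa using this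
    rw [h4, h1] at he
    exact zero_ne_one he

/-- `C(2^s * r, 2^s)` is odd for odd `r`. -/
theorem choose_two_pow_mul_odd (s r : ℕ) (hr : Odd r) : Odd (Nat.choose (2 ^ s * r) (2 ^ s)) := by
  have h1 : ((Polynomial.X + 1 : Polynomial (ZMod 2)) ^ (2 ^ s * r)) =
      Polynomial.expand (ZMod 2) (2 ^ s) ((Polynomial.X + 1) ^ r) := by
    rw [pow_mul, add_pow_char_pow, one_pow, map_pow, map_add, Polynomial.expand_X, map_one]
  have h2 : Polynomial.coeff ((Polynomial.X + 1 : Polynomial (ZMod 2)) ^ (2 ^ s * r)) (1 * 2 ^ s) =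
      Polynomial.coeff (Polynomial.expand (ZMod 2) (2 ^ s) ((Polynomial.X + 1) ^ r)) (1 * 2 ^ s) := by
    rw [h1]
  rw [Polynomial.coeff_expand_mul (by positivity), one_mul, Polynomial.coeff_X_add_one_pow,
    Polynomial.coeff_X_add_one_pow, Nat.choose_one_right] at h2
  rw [← Nat.not_even_iff_odd]
  intro hev
  have h3 : ((Nat.choose (2 ^ s * r) (2 ^ s) : ℕ) : ZMod 2) = 0 :=
    (ZMod.natCast_eq_zero_iff _ 2).2 hev.two_dvd
  rw [h3] at h2
  have h4 : 2 ∣ r := (ZMod.natCast_eq_zero_iff r 2).1 h2.symm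
  exact (Nat.not_even_iff_odd.2 hr) (even_iff_two_dvd.2 h4)

/-- A natural number is odd iff its image in a field of characteristic two is nonzero. -/
theorem natCast_ne_zero_of_odd {F : Type*} [Field F] [CharP F 2] {m : ℕ} (hm : Odd m) :
    (m : F) ≠ 0 := by
  intro h
  rw [CharP.cast_eq_zero_iff F 2] at h
  exact (Nat.not_even_iff_odd.2 hm) (even_iff_two_dvd.2 h)

open Polynomial in
/-- If `a ↦ (a + 1) ^ k + a ^ k + 1` is additive on a finite field of characteristic two and
`0 < k < |F|`, then `k` has at most two binary digits. -/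
theorem pow_weight_le_two {F : Type*} [Field F] [Fintype F] [CharP F 2] (k : ℕ) (hk0 : k ≠ 0)
    (hk : k < Fintype.card F)
    (hadd : ∀ a b : F, (a + b + 1) ^ k + (a + b) ^ k + 1 =
      ((a + 1) ^ k + a ^ k + 1) + ((b + 1) ^ k + b ^ k + 1)) :
    ∃ s t : ℕ, k = 2 ^ s ∨ (0 < t ∧ k = 2 ^ s + 2 ^ (s + t)) := by
  classical
  set H : F[X] := (X + 1) ^ k + X ^ k + 1 with hH
  have hHeval : ∀ a : F, H.eval a = (a + 1) ^ k + a ^ k + 1 := by
    intro a
    simp [hH]
  have hcoeff : ∀ i, i ≠ 0 → H.coeff i = ((k.choose i : ℕ) : F) + if i = k then 1 else 0 := by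
    intro i hi
    rw [hH, coeff_add, coeff_add, coeff_X_add_one_pow, coeff_X_pow, coeff_one]
    simp [hi]
  have hdeg : H.degree < k := by
    rw [degree_lt_iff_coeff_zero]
    intro m hm
    rw [hcoeff m (by omega)]
    rcases hm.eq_or_lt with rfl | hlt
    · simp only [Nat.choose_self, Nat.cast_one, if_true]
      exact CharTwo.add_self_eq_zero 1
    · rw [Nat.choose_eq_zero_of_lt hlt, if_neg (by omega)]
      simp
  have hvan : ∀ p : F[X], p.degree < k → (∀ a : F, p.eval a = 0) → p = 0 := by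
    intro p hp hev
    apply eq_zero_of_degree_lt_of_eval_finset_eq_zero (Finset.univ : Finset F)
    · refine lt_trans hp ?_
      rw [Finset.card_univ]
      exact_mod_cast hk
    · intro x _
      exact hev x
  have htay : ∀ t : F, taylor t H = H + C (H.eval t) := by
    intro t
    rw [← sub_eq_zero]
    apply hvan
    · refine lt_of_le_of_lt (degree_sub_le _ _) (max_lt ?_ ?_)
      · rw [degree_taylor]
        exact hdeg
      · refine lt_of_le_of_lt (degree_add_le _ _) (max_lt hdeg ?_)
        exact lt_of_le_of_lt degree_C_le (by exact_mod_cast Nat.pos_of_ne_zero hk0)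
    · intro a
      have e1 : (taylor t H).eval a = H.eval (a + t) := taylor_eval t H a
      have e2 : (H + C (H.eval t)).eval a = H.eval a + H.eval t := by simp
      rw [eval_sub, e1, e2, hHeval, hHeval, hHeval, hadd a t]
      ring
  have hdeg' : H.natDegree < k := by
    by_cases hH0 : H = 0
    · rw [hH0, natDegree_zero]
      exact Nat.pos_of_ne_zero hk0
    · exact (natDegree_lt_iff_degree_lt hH0).2 hdeg
  have hhasse : ∀ n, n ≠ 0 → hasseDeriv n H = C (H.coeff n) := by
    intro n hn
    rw [← sub_eq_zero]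
    apply hvan
    · refine lt_of_le_of_lt (degree_sub_le _ _) (max_lt ?_ ?_)
      · refine lt_of_le_of_lt degree_le_natDegree ?_
        have h1 := natDegree_hasseDeriv_le H n
        exact_mod_cast lt_of_le_of_lt (h1.trans (Nat.sub_le _ _)) hdeg'
      · exact lt_of_le_of_lt degree_C_le (by exact_mod_cast Nat.pos_of_ne_zero hk0)
    · intro t
      rw [eval_sub, eval_C, ← taylor_coeff, htay t, coeff_add, coeff_C, if_neg hn]
      ring
  have hkey : ∀ n j, n ≠ 0 → j ≠ 0 → j + n < k → Odd ((j + n).choose n) →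
      Odd (k.choose (j + n)) → False := by
    intro n j hn hj hlt h1 h2
    have h3 := congrArg (fun q => q.coeff j) (hhasse n hn)
    simp only [hasseDeriv_coeff, coeff_C, if_neg hj] at h3
    rw [hcoeff (j + n) (by omega), if_neg (by omega), add_zero] at h3
    rcases mul_eq_zero.1 h3 with h4 | h4
    · exact natCast_ne_zero_of_odd h1 h4
    · exact natCast_ne_zero_of_odd h2 h4
  obtain ⟨s, r, hr, hkr⟩ := Nat.exists_eq_two_pow_mul_odd hk0
  by_cases hr1 : r = 1
  · exact ⟨s, 0, Or.inl (by rw [hkr, hr1, mul_one])⟩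
  have hr3 : 3 ≤ r := by
    rcases hr with ⟨c, hc⟩
    omega
  have hr0 : r - 1 ≠ 0 := by omega
  obtain ⟨t, r', hr', htr⟩ := Nat.exists_eq_two_pow_mul_odd hr0
  have ht0 : 0 < t := by
    rcases Nat.eq_zero_or_pos t with h0 | h0
    · exfalso
      rw [h0, pow_zero, one_mul] at htr
      rcases hr with ⟨c, hc⟩
      rcases hr' with ⟨c', hc'⟩
      omega
    · exact h0
  by_cases hr'1 : r' = 1
  · refine ⟨s, t, Or.inr ⟨ht0, ?_⟩⟩
    rw [hr'1, mul_one] at htr
    have : r = 1 + 2 ^ t := by omega
    rw [hkr, this, pow_add]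
    ring
  exfalso
  have hr'3 : 3 ≤ r' := by
    rcases hr' with ⟨c, hc⟩
    omega
  -- i = k - 2^s = 2^(s+t) * r'
  have hi : k = 2 ^ (s + t) * r' + 2 ^ s := by
    have : r = 2 ^ t * r' + 1 := by omega
    rw [hkr, this, pow_add]
    ring
  have hpos : 0 < 2 ^ (s + t) := by positivity
  have hpos' : 0 < 2 ^ s := by positivity
  refine hkey (2 ^ (s + t)) (2 ^ (s + t) * (r' - 1)) (by omega) ?_ ?_ ?_ ?_
  · have : r' - 1 ≠ 0 := by omega
    exact mul_ne_zero (by omega) this
  · have : 2 ^ (s + t) * (r' - 1) + 2 ^ (s + t) = 2 ^ (s + t) * r' := by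
      have h1 : r' = (r' - 1) + 1 := by omega
      nth_rewrite 2 [h1]
      ring
    rw [this, hi]
    omega
  · have : 2 ^ (s + t) * (r' - 1) + 2 ^ (s + t) = 2 ^ (s + t) * r' := by
      have h1 : r' = (r' - 1) + 1 := by omega
      nth_rewrite 2 [h1]
      ring
    rw [this]
    exact choose_two_pow_mul_odd (s + t) r' hr'
  · have : 2 ^ (s + t) * (r' - 1) + 2 ^ (s + t) = 2 ^ (s + t) * r' := by
      have h1 : r' = (r' - 1) + 1 := by omega
      nth_rewrite 2 [h1]
      ring
    rw [this]
    have h5 : k.choose (2 ^ (s + t) * r') = k.choose (2 ^ s) := by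
      rw [← Nat.choose_symm (by omega : 2 ^ s ≤ k)]
      congr 1
      omega
    rw [h5, hkr]
    exact choose_two_pow_mul_odd s r hr

end Cfsg.Agent.Helper50
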