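import Mathlib
import Cfsg.Agent.Helper45.D8
import Cfsg.Agent.Helper69.Q8
import Cfsg.Agent.Helper50.SuzField

/-!
# Nonabelian groups of order eight

A nonabelian group of order eight is dihedral or quaternion (`d8_or_q8`).
-/

set_option autoImplicit false

namespace Cfsg.Agent.Helper50

theorem closure_comm_of_comm {G : Type*} [Group G] (S : Set G)
    (hS : ∀ a ∈ S, ∀ b ∈ S, a * b = b * a) :
    ∀ g ∈ Subgroup.closure S, ∀ k ∈ Subgroup.closure S, g * k = k * g := by
  have h1 : Subgroup.closure S ≤ Subgroup.centralizer S :=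
    (Subgroup.closure_le _).2 (fun s hs => Subgroup.mem_centralizer_iff.2
      (fun s' hs' => hS s' hs' s hs))
  have h2 : Subgroup.closure S ≤ Subgroup.centralizer (Subgroup.closure S : Set G) :=
    (Subgroup.closure_le _).2 (fun s hs => Subgroup.mem_centralizer_iff.2
      (fun g hg => (Subgroup.mem_centralizer_iff.1 (h1 hg) s hs).symm))
  intro g hg k hk
  exact (Subgroup.mem_centralizer_iff.1 (h2 hg) k hk).symm

/-- A nonabelian group of order eight is dihedral or quaternion. -/
theorem d8_or_q8 {G : Type*} [Group G] [Finite G] (h8 : Nat.card G = 8)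
    (hna : ∃ a b : G, a * b ≠ b * a) :
    Nonempty (G ≃* DihedralGroup 4) ∨ Nonempty (G ≃* QuaternionGroup 2) := by
  classical
  have hp : IsPGroup 2 G := IsPGroup.of_card (n := 3) (by rw [h8]; norm_num)
  have hnc : ¬ ∀ a b : G, a * b = b * a := by
    obtain ⟨a, b, hab⟩ := hna
    exact fun h => hab (h a b)
  obtain ⟨u, hu⟩ : ∃ u : G, orderOf u = 4 := by
    by_contra hcon
    push Not at hcon
    apply hnc
    apply mul_comm_of_sq
    intro g
    obtain ⟨m, hm⟩ := (IsPGroup.iff_orderOf.1 hp) g
    have hdvd : orderOf g ∣ 8 := h8 ▸ orderOf_dvd_natCard g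
    have hm3 : m ≤ 3 := by
      rw [hm] at hdvd
      have h83 : (8 : ℕ) = 2 ^ 3 := by norm_num
      rw [h83] at hdvd
      exact (Nat.pow_dvd_pow_iff_le_right (by norm_num : 1 < 2)).1 hdvd
    have hpow := pow_orderOf_eq_one g
    interval_cases m
    · rw [pow_zero, orderOf_eq_one_iff] at hm
      rw [hm, mul_one]
    · rw [hm, pow_one, pow_two] at hpow
      exact hpow
    · exact absurd hm (hcon g)
    · exfalso
      apply hnc
      have hcyc : IsCyclic G := isCyclic_of_orderOf_eq_card g (by rw [hm, h8]; norm_num)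
      exact isMulCommutative_iff.1 (IsCyclic.isMulCommutative (α := G))
  have hU4 : Nat.card (Subgroup.zpowers u) = 4 := by rw [Nat.card_zpowers, hu]
  have hidx : (Subgroup.zpowers u).index = 2 := by
    have := Subgroup.card_mul_index (Subgroup.zpowers u)
    rw [hU4, h8] at this
    omega
  have hnorm : (Subgroup.zpowers u).Normal := Subgroup.normal_of_index_eq_two hidx
  have hu4 : u ^ 4 = 1 := by rw [← hu]; exact pow_orderOf_eq_one u
  have hu2 : u ^ 2 ≠ 1 := by
    intro h
    have := Nat.le_of_dvd (by norm_num) (orderOf_dvd_of_pow_eq_one h)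
    rw [hu] at this
    omega
  have hu1 : u ≠ 1 := by
    intro h
    rw [h, orderOf_one] at hu
    omega
  have hu3 : u ^ 3 = u⁻¹ := by
    apply eq_inv_of_mul_eq_one_left
    rw [← pow_succ]
    exact hu4
  have hmem : ∀ g ∈ Subgroup.zpowers u, g = 1 ∨ g = u ∨ g = u ^ 2 ∨ g = u⁻¹ := by
    intro g hg
    obtain ⟨k, rfl⟩ := Subgroup.mem_zpowers_iff.1 hg
    have h1 := zpow_mod_orderOf u k
    rw [hu] at h1
    obtain ⟨r, hr⟩ : ∃ r : ℤ, r = k % ((4 : ℕ) : ℤ) := ⟨_, rfl⟩
    have hr4 : r = 0 ∨ r = 1 ∨ r = 2 ∨ r = 3 := by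
      have h2 : 0 ≤ k % ((4 : ℕ) : ℤ) := Int.emod_nonneg _ (by norm_num)
      have h3 : k % ((4 : ℕ) : ℤ) < 4 := Int.emod_lt_of_pos _ (by norm_num)
      omega
    rw [← h1, ← hr]
    rcases hr4 with rfl | rfl | rfl | rfl
    · left; exact zpow_zero u
    · right; left; exact zpow_one u
    · right; right; left
      exact zpow_natCast u 2
    · right; right; right
      rw [← hu3]
      exact zpow_natCast u 3
  have hcl : ∀ y : G, y ∉ Subgroup.zpowers u → Subgroup.closure ({u, y} : Set G) = ⊤ := by
    intro y hy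
    apply Subgroup.eq_top_of_card_eq
    rw [h8]
    have hle : Subgroup.zpowers u ≤ Subgroup.closure ({u, y} : Set G) := by
      rw [Subgroup.zpowers_le]
      exact Subgroup.subset_closure (by simp)
    have hd := Subgroup.card_dvd_of_le hle
    rw [hU4] at hd
    have hd8 : Nat.card (Subgroup.closure ({u, y} : Set G)) ∣ 8 :=
      h8 ▸ Subgroup.card_subgroup_dvd_card _
    have hne : Nat.card (Subgroup.closure ({u, y} : Set G)) ≠ 4 := by
      intro h4
      have := Subgroup.eq_of_le_of_card_ge hle (by rw [h4, hU4])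
      apply hy
      rw [this]
      exact Subgroup.subset_closure (by simp)
    have h3 : Nat.card (Subgroup.closure ({u, y} : Set G)) ∈ Nat.divisors 8 :=
      Nat.mem_divisors.2 ⟨hd8, by norm_num⟩
    have h4 : Nat.divisors 8 = {1, 2, 4, 8} := by decide
    rw [h4] at h3
    simp only [Finset.mem_insert, Finset.mem_singleton] at h3
    rcases h3 with h | h | h | h
    · rw [h] at hd; exact absurd hd (by decide)
    · rw [h] at hd; exact absurd hd (by decide)
    · exact absurd h hne
    · exact h
  have hconj : ∀ y : G, y ∉ Subgroup.zpowers u → y * u * y⁻¹ = u⁻¹ := by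
    intro y hy
    have h1 : y * u * y⁻¹ ∈ Subgroup.zpowers u := hnorm.conj_mem u (Subgroup.mem_zpowers u) y
    rcases hmem _ h1 with h | h | h | h
    · exfalso
      apply hu1
      have : u = y⁻¹ * (y * u * y⁻¹) * y := by group
      rw [this, h]
      group
    · exfalso
      have hcomm : y * u = u * y := by
        have : y * u = (y * u * y⁻¹) * y := by group
        rw [this, h]
      apply hnc
      intro a b
      have hS : ∀ a ∈ ({u, y} : Set G), ∀ b ∈ ({u, y} : Set G), a * b = b * a := by
        intro a ha b hb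
        rcases ha with rfl | ha
        · rcases hb with rfl | hb
          · rfl
          · rw [Set.mem_singleton_iff] at hb
            rw [hb]
            exact hcomm.symm
        · rw [Set.mem_singleton_iff] at ha
          rcases hb with rfl | hb
          · rw [ha]
            exact hcomm
          · rw [Set.mem_singleton_iff] at hb
            rw [ha, hb]
      exact closure_comm_of_comm _ hS a (by rw [hcl y hy]; exact Subgroup.mem_top a) b
        (by rw [hcl y hy]; exact Subgroup.mem_top b)
    · exfalso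
      apply hu2
      have e : (y * u * y⁻¹) ^ 2 = y * u ^ 2 * y⁻¹ := by
        rw [pow_two, pow_two]; group
      rw [h] at e
      have e2 : (u ^ 2) ^ 2 = 1 := by rw [← pow_mul]; exact hu4
      rw [e2] at e
      have : u ^ 2 = y⁻¹ * (y * u ^ 2 * y⁻¹) * y := by group
      rw [this, ← e]
      group
    · exact h
  have hsq : ∀ y : G, y ∉ Subgroup.zpowers u → y * y = 1 ∨ y * y = u ^ 2 := by
    intro y hy
    have h1 := Subgroup.mul_self_mem_of_index_two hidx y
    have hc := hconj y hy
    have key : y * u * y⁻¹ = u → False := by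
      intro h
      rw [h] at hc
      apply hu2
      rw [pow_two]
      nth_rewrite 2 [hc]
      exact mul_inv_cancel u
    rcases hmem _ h1 with h | h | h | h
    · exact Or.inl h
    · exfalso
      apply key
      rw [← h]
      group
    · exact Or.inr h
    · exfalso
      apply key
      have hu' : u = (y * y)⁻¹ := by rw [h, inv_inv]
      rw [hu']
      group
  obtain ⟨y0, hy0⟩ : ∃ y : G, y ∉ Subgroup.zpowers u := by
    by_contra hcon
    push Not at hcon
    have : Subgroup.zpowers u = ⊤ := (Subgroup.eq_top_iff' _).2 hcon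
    rw [this, Subgroup.card_top, h8] at hU4
    omega
  by_cases hex : ∃ y : G, y ∉ Subgroup.zpowers u ∧ y * y = 1
  · obtain ⟨y, hy, hyy⟩ := hex
    exact Or.inl (Cfsg.Agent.Helper45.nonempty_mulEquiv_d8 h8 u y hu hyy (hconj y hy) hy)
  · right
    have hyy : y0 * y0 = u ^ 2 := by
      rcases hsq y0 hy0 with h | h
      · exact absurd ⟨y0, hy0, h⟩ hex
      · exact h
    exact Cfsg.Agent.Helper69.nonempty_mulEquiv_quaternionGroup_two u y0 h8 (hcl y0 hy0) hu4
      (by rw [pow_two]; exact hyy) (hconj y0 hy0)

end Cfsg.Agent.Helper50
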