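import Mathlib
import Cfsg.Agent.Helper50.Suzuki

/-!
# Fixed-point-free automorphisms of order three of a group of order 64

`Fpf3 ρ` says that `ρ` is an automorphism with `ρ³ = 1` and without nontrivial fixed points.
For a finite group this forces `t * ρ t * ρ (ρ t) = 1` and `t * ρ t = ρ t * t`; every
`ρ`-invariant subgroup has order `≡ 1 (mod 3)`.  For a nonabelian group of order `64` the centre
is a four-group containing all squares (`fpf3_struct`).
-/

set_option autoImplicit false

namespace Cfsg.Agent.Helper50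

/-- `ρ` has order dividing three and fixes only the identity. -/
structure Fpf3 {T : Type*} [Group T] (ρ : MulAut T) : Prop where
  cube : ∀ t : T, ρ (ρ (ρ t)) = t
  fpf : ∀ t : T, ρ t = t → t = 1

section basic

variable {T : Type*} [Group T] {ρ : MulAut T}

theorem fpf3_surj [Finite T] (h : Fpf3 ρ) (t : T) : ∃ s : T, t = s⁻¹ * ρ s := by
  have hinj : Function.Injective (fun s : T => s⁻¹ * ρ s) := by
    intro a b hab
    have hab' : a⁻¹ * ρ a = b⁻¹ * ρ b := hab
    have h1 : ρ a = a * (b⁻¹ * ρ b) := by rw [← hab']; group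
    have h2 : ρ (a * b⁻¹) = a * b⁻¹ := by
      rw [map_mul, map_inv, h1]; group
    exact mul_inv_eq_one.1 (h.fpf _ h2)
  obtain ⟨s, hs⟩ := (Finite.injective_iff_surjective.1 hinj) t
  exact ⟨s, hs.symm⟩

theorem fpf3_prod [Finite T] (h : Fpf3 ρ) (t : T) : t * ρ t * ρ (ρ t) = 1 := by
  obtain ⟨s, rfl⟩ := fpf3_surj h t
  simp only [map_mul, map_inv, h.cube]
  group

theorem fpf3_rr [Finite T] (h : Fpf3 ρ) (t : T) : ρ (ρ t) = (t * ρ t)⁻¹ :=
  eq_inv_of_mul_eq_one_right (fpf3_prod h t)

theorem fpf3_comm [Finite T] (h : Fpf3 ρ) (t : T) : t * ρ t = ρ t * t := by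
  have e1 := fpf3_rr h t
  have e2 := fpf3_rr h t⁻¹
  simp only [map_inv] at e2
  have e2' : ρ (ρ t) = (t⁻¹ * (ρ t)⁻¹) := by
    have := congrArg (·⁻¹) e2
    simpa using this
  have e3 : (t * ρ t)⁻¹ = (ρ t * t)⁻¹ := by rw [← e1, e2', mul_inv_rev]
  exact inv_injective e3

/-- A self-map of a finite type whose `p`-th iterate is the identity has `≡ |α| (mod p)` fixed
points. -/
theorem card_modEq_card_fixed {α : Type*} [Finite α] (f : α → α) (p : ℕ) [Fact p.Prime]
    (hf : ∀ a, f^[p] a = a) : Nat.card α ≡ Nat.card {a : α // f a = a} [MOD p] := by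
  classical
  have : Fintype α := Fintype.ofFinite α
  let g : Function.End α := f
  have hg : g ^ p ^ 1 = 1 := by
    rw [pow_one]
    funext a
    have h1 : (g ^ p) a = f^[p] a := by
      have : ∀ n : ℕ, (g ^ n) a = f^[n] a := by
        intro n
        induction n generalizing a with
        | zero => rfl
        | succ n ih =>
          rw [pow_succ, Function.iterate_succ_apply]
          exact ih (f a)
      exact this p
    rw [h1, hf]
    rfl
  have key := Equiv.Perm.card_fixedPoints_modEq (f := g) (p := p) (n := 1) hg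
  rw [Nat.card_eq_fintype_card]
  have e : Nat.card {a : α // f a = a} = Fintype.card (Function.fixedPoints g) := by
    rw [← Nat.card_eq_fintype_card]
    rfl
  rw [e]
  exact key

theorem fpf3_card_mod [Finite T] (h : Fpf3 ρ) (N : Subgroup T) (hN : ∀ n ∈ N, ρ n ∈ N) :
    Nat.card N % 3 = 1 := by
  have : Fact (Nat.Prime 3) := ⟨Nat.prime_three⟩
  have key := card_modEq_card_fixed (α := N) (fun n => ⟨ρ n, hN n n.2⟩) 3
    (fun a => Subtype.ext (by
      show ρ (ρ (ρ (a : T))) = a
      exact h.cube a))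
  have hfix : Nat.card {a : N // (⟨ρ a, hN a a.2⟩ : N) = a} = 1 := by
    rw [Nat.card_eq_one_iff_unique]
    refine ⟨⟨?_⟩, ⟨⟨1, Subtype.ext (by simp)⟩⟩⟩
    rintro ⟨a, ha⟩ ⟨b, hb⟩
    have ha' : (a : T) = 1 := h.fpf _ (congrArg Subtype.val ha)
    have hb' : (b : T) = 1 := h.fpf _ (congrArg Subtype.val hb)
    exact Subtype.ext (Subtype.ext (ha'.trans hb'.symm))
  rw [hfix] at key
  exact key

/-- The subgroup generated by `a`, `ρ a` and the centre. -/
def fpfA (ρ : MulAut T) (a : T) : Subgroup T :=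
  Subgroup.closure ({a, ρ a} ∪ (Subgroup.center T : Set T))

theorem fpfA_comm [Finite T] (h : Fpf3 ρ) (a : T) :
    ∀ g ∈ fpfA ρ a, ∀ k ∈ fpfA ρ a, g * k = k * g := by
  have hS : ∀ s ∈ ({a, ρ a} ∪ (Subgroup.center T : Set T)),
      ∀ s' ∈ ({a, ρ a} ∪ (Subgroup.center T : Set T)), s * s' = s' * s := by
    intro s hs s' hs'
    rcases hs with hs | hs
    · rcases hs' with hs' | hs'
      · rcases hs with rfl | hs
        · rcases hs' with rfl | hs'
          · rfl
          · rw [Set.mem_singleton_iff] at hs'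
            rw [hs']
            exact fpf3_comm h s
        · rw [Set.mem_singleton_iff] at hs
          rcases hs' with rfl | hs'
          · rw [hs]
            exact (fpf3_comm h s').symm
          · rw [Set.mem_singleton_iff] at hs'
            rw [hs, hs']
      · exact (Subgroup.mem_center_iff.1 hs' s)
    · exact (Subgroup.mem_center_iff.1 hs s').symm
  have h1 : fpfA ρ a ≤ Subgroup.centralizer ({a, ρ a} ∪ (Subgroup.center T : Set T)) :=
    (Subgroup.closure_le _).2 (fun s hs => Subgroup.mem_centralizer_iff.2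
      (fun s' hs' => hS s' hs' s hs))
  have h2 : fpfA ρ a ≤ Subgroup.centralizer (fpfA ρ a : Set T) :=
    (Subgroup.closure_le _).2 (fun s hs => Subgroup.mem_centralizer_iff.2
      (fun g hg => (Subgroup.mem_centralizer_iff.1 (h1 hg) s hs).symm))
  intro g hg k hk
  exact (Subgroup.mem_centralizer_iff.1 (h2 hg) k hk).symm

theorem fpfA_inv [Finite T] (h : Fpf3 ρ) (a : T) : ∀ g ∈ fpfA ρ a, ρ g ∈ fpfA ρ a := by
  intro g hg
  unfold fpfA at hg ⊢
  induction hg using Subgroup.closure_induction with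
  | mem s hs =>
    rcases hs with hs | hs
    · rcases hs with rfl | hs
      · exact Subgroup.subset_closure (Or.inl (Or.inr rfl))
      · rw [Set.mem_singleton_iff] at hs
        rw [hs, fpf3_rr h a]
        exact Subgroup.inv_mem _ (Subgroup.mul_mem _
          (Subgroup.subset_closure (Or.inl (Or.inl rfl)))
          (Subgroup.subset_closure (Or.inl (Or.inr rfl))))
    · exact Subgroup.subset_closure (Or.inr (mulAut_mem_center ρ hs))
  | one => rw [map_one]; exact Subgroup.one_mem _
  | mul x y _ _ hx hy => rw [map_mul]; exact Subgroup.mul_mem _ hx hy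
  | inv x _ hx => rw [map_inv]; exact Subgroup.inv_mem _ hx

theorem fpfA_mem (ρ : MulAut T) (a : T) : a ∈ fpfA ρ a :=
  Subgroup.subset_closure (Or.inl (Or.inl rfl))

theorem center_le_fpfA (ρ : MulAut T) (a : T) : Subgroup.center T ≤ fpfA ρ a :=
  fun _ hz => Subgroup.subset_closure (Or.inr hz)

end basic

section struct

variable {T : Type*} [Group T] {ρ : MulAut T}

/-- The elements of order dividing two of a subgroup all of whose elements commute. -/
def omegaSub (A : Subgroup T) (hA : ∀ g ∈ A, ∀ k ∈ A, g * k = k * g) : Subgroup T where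
  carrier := {g | g ∈ A ∧ g * g = 1}
  one_mem' := ⟨A.one_mem, mul_one 1⟩
  mul_mem' := by
    rintro x y ⟨hx, hx2⟩ ⟨hy, hy2⟩
    refine ⟨A.mul_mem hx hy, ?_⟩
    have hc : y * x = x * y := hA y hy x hx
    calc x * y * (x * y) = x * (y * x) * y := by group
      _ = x * (x * y) * y := by rw [hc]
      _ = (x * x) * (y * y) := by group
      _ = 1 := by rw [hx2, hy2, one_mul]
  inv_mem' := by
    rintro x ⟨hx, hx2⟩
    refine ⟨A.inv_mem hx, ?_⟩
    rw [← mul_inv_rev, hx2, inv_one]

/-- The elements of order dividing four of a subgroup all of whose elements commute. -/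
def omegaSub4 (A : Subgroup T) (hA : ∀ g ∈ A, ∀ k ∈ A, g * k = k * g) : Subgroup T where
  carrier := {g | g ∈ A ∧ (g * g) * (g * g) = 1}
  one_mem' := ⟨A.one_mem, by simp⟩
  mul_mem' := by
    rintro x y ⟨hx, hx2⟩ ⟨hy, hy2⟩
    refine ⟨A.mul_mem hx hy, ?_⟩
    have hc : y * x = x * y := hA y hy x hx
    have e1 : x * y * (x * y) = (x * x) * (y * y) := by
      calc x * y * (x * y) = x * (y * x) * y := by group
        _ = x * (x * y) * y := by rw [hc]
        _ = (x * x) * (y * y) := by group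
    have hc2 : (y * y) * (x * x) = (x * x) * (y * y) :=
      hA _ (A.mul_mem hy hy) _ (A.mul_mem hx hx)
    rw [e1]
    calc x * x * (y * y) * (x * x * (y * y)) = (x * x) * ((y * y) * (x * x)) * (y * y) := by group
      _ = (x * x) * ((x * x) * (y * y)) * (y * y) := by rw [hc2]
      _ = ((x * x) * (x * x)) * ((y * y) * (y * y)) := by group
      _ = 1 := by rw [hx2, hy2, one_mul]
  inv_mem' := by
    rintro x ⟨hx, hx2⟩
    refine ⟨A.inv_mem hx, ?_⟩
    have : x⁻¹ * x⁻¹ * (x⁻¹ * x⁻¹) = ((x * x) * (x * x))⁻¹ := by group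
    rw [this, hx2, inv_one]

/-- **Structure of a nonabelian group of order 64 with a fixed-point-free automorphism of order
three**: the centre has order four and exponent two and contains all squares. -/
theorem fpf3_struct [Finite T] (hT : Nat.card T = 64) (hna : ∃ a b : T, a * b ≠ b * a)
    (h : Fpf3 ρ) :
    Nat.card (Subgroup.center T) = 4 ∧ (∀ z ∈ Subgroup.center T, z * z = 1) ∧
      (∀ t : T, t * t ∈ Subgroup.center T) := by
  classical
  have : Fact (Nat.Prime 2) := ⟨Nat.prime_two⟩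
  have hZinv : ∀ z ∈ Subgroup.center T, ρ z ∈ Subgroup.center T :=
    fun z hz => mulAut_mem_center ρ hz
  have hdiv : ∀ N : Subgroup T, Nat.card N ∣ 64 := fun N => hT ▸ Subgroup.card_subgroup_dvd_card N
  have hcards : ∀ N : Subgroup T, (∀ n ∈ N, ρ n ∈ N) →
      Nat.card N = 1 ∨ Nat.card N = 4 ∨ Nat.card N = 16 ∨ Nat.card N = 64 := by
    intro N hN
    have h1 := fpf3_card_mod h N hN
    have h3 : Nat.card N ∈ Nat.divisors 64 := Nat.mem_divisors.2 ⟨hdiv N, by norm_num⟩
    have h4 : Nat.divisors 64 = {1, 2, 4, 8, 16, 32, 64} := by decide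
    rw [h4] at h3
    simp only [Finset.mem_insert, Finset.mem_singleton] at h3
    omega
  have hp : IsPGroup 2 T := IsPGroup.of_card (n := 6) (by rw [hT]; norm_num)
  have hnt : Nontrivial T := by
    obtain ⟨a, b, hab⟩ := hna
    refine ⟨⟨a * b, b * a, hab⟩⟩
  have hZne1 : Nat.card (Subgroup.center T) ≠ 1 := by
    have := hp.center_nontrivial
    have h1 := Finite.one_lt_card_iff_nontrivial.2 this
    omega
  have hZne64 : Nat.card (Subgroup.center T) ≠ 64 := by
    intro h64
    have htop : Subgroup.center T = ⊤ := Subgroup.eq_top_of_card_eq _ (by rw [h64, hT])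
    obtain ⟨a, b, hab⟩ := hna
    have ha : a ∈ Subgroup.center T := by rw [htop]; exact Subgroup.mem_top a
    exact hab (Subgroup.mem_center_iff.1 ha b).symm
  have hZc := hcards _ hZinv
  have hA : ∀ a : T, a ∉ Subgroup.center T →
      Nat.card (fpfA ρ a) = 16 ∧ Nat.card (Subgroup.center T) = 4 := by
    intro a ha
    have hAc := hcards (fpfA ρ a) (fpfA_inv h a)
    have hne64 : Nat.card (fpfA ρ a) ≠ 64 := by
      intro h64
      have htop : fpfA ρ a = ⊤ := Subgroup.eq_top_of_card_eq _ (by rw [h64, hT])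
      obtain ⟨u, v, huv⟩ := hna
      exact huv (fpfA_comm h a u (by rw [htop]; exact Subgroup.mem_top u) v
        (by rw [htop]; exact Subgroup.mem_top v))
    have hd : Nat.card (Subgroup.center T) ∣ Nat.card (fpfA ρ a) :=
      Subgroup.card_dvd_of_le (center_le_fpfA ρ a)
    have hne : Nat.card (Subgroup.center T) ≠ Nat.card (fpfA ρ a) := by
      intro he
      have : Subgroup.center T = fpfA ρ a :=
        Subgroup.eq_of_le_of_card_ge (center_le_fpfA ρ a) (le_of_eq he.symm)
      exact ha (this ▸ fpfA_mem ρ a)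
    rcases hZc with hz | hz | hz | hz <;> rcases hAc with ha' | ha' | ha' | ha' <;>
      rw [hz, ha'] at hd <;> rw [hz, ha'] at hne <;> first
        | omega
  obtain ⟨a0, ha0⟩ : ∃ a : T, a ∉ Subgroup.center T := by
    obtain ⟨a, b, hab⟩ := hna
    exact ⟨a, fun ha => hab (Subgroup.mem_center_iff.1 ha b).symm⟩
  have hZ4 : Nat.card (Subgroup.center T) = 4 := (hA a0 ha0).2
  have hZcomm : ∀ g ∈ Subgroup.center T, ∀ k ∈ Subgroup.center T, g * k = k * g :=
    fun g _ k hk => Subgroup.mem_center_iff.1 hk g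
  -- the centre has exponent two
  have hZexp : ∀ z ∈ Subgroup.center T, z * z = 1 := by
    have hKle : omegaSub (Subgroup.center T) hZcomm ≤ Subgroup.center T := fun z hz => hz.1
    have hKinv : ∀ n ∈ omegaSub (Subgroup.center T) hZcomm,
        ρ n ∈ omegaSub (Subgroup.center T) hZcomm :=
      fun n hn => ⟨hZinv n hn.1, by rw [← map_mul, hn.2, map_one]⟩
    have hKc := hcards _ hKinv
    have hKd : Nat.card (omegaSub (Subgroup.center T) hZcomm) ∣ 4 :=
      hZ4 ▸ Subgroup.card_dvd_of_le hKle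
    have hKne : Nat.card (omegaSub (Subgroup.center T) hZcomm) ≠ 1 := by
      intro h1
      obtain ⟨z, hz⟩ := exists_prime_orderOf_dvd_card' (G := Subgroup.center T) 2
        (by rw [hZ4]; norm_num)
      have hz2 : (z : T) * z = 1 := by
        have := pow_orderOf_eq_one z
        rw [hz, pow_two] at this
        exact congrArg Subtype.val this
      have hmem : (z : T) ∈ omegaSub (Subgroup.center T) hZcomm := ⟨z.2, hz2⟩
      have hbot : omegaSub (Subgroup.center T) hZcomm = ⊥ := Subgroup.eq_bot_of_card_eq _ h1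
      rw [hbot, Subgroup.mem_bot] at hmem
      have hz1 : z = 1 := Subtype.ext hmem
      rw [hz1, orderOf_one] at hz
      omega
    have hK4 : Nat.card (omegaSub (Subgroup.center T) hZcomm) = 4 := by
      rcases hKc with hk | hk | hk | hk
      · exact absurd hk hKne
      · exact hk
      · rw [hk] at hKd; exact absurd hKd (by decide)
      · rw [hk] at hKd; exact absurd hKd (by decide)
    have hKZ : omegaSub (Subgroup.center T) hZcomm = Subgroup.center T :=
      Subgroup.eq_of_le_of_card_ge hKle (by rw [hK4, hZ4])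
    intro z hz
    rw [← hKZ] at hz
    exact hz.2
  refine ⟨hZ4, hZexp, ?_⟩
  intro t
  by_cases ht : t ∈ Subgroup.center T
  · exact Subgroup.mul_mem _ ht ht
  obtain ⟨hA16, -⟩ := hA t ht
  have hAcomm := fpfA_comm h t
  have hZA := center_le_fpfA ρ t
  have htA := fpfA_mem ρ t
  have hO1le : omegaSub (fpfA ρ t) hAcomm ≤ fpfA ρ t := fun z hz => hz.1
  have hO2le : omegaSub4 (fpfA ρ t) hAcomm ≤ fpfA ρ t := fun z hz => hz.1
  have hO12 : omegaSub (fpfA ρ t) hAcomm ≤ omegaSub4 (fpfA ρ t) hAcomm :=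
    fun z hz => ⟨hz.1, by rw [hz.2, mul_one]⟩
  have hZO1 : Subgroup.center T ≤ omegaSub (fpfA ρ t) hAcomm :=
    fun z hz => ⟨hZA hz, hZexp z hz⟩
  have hO1inv : ∀ n ∈ omegaSub (fpfA ρ t) hAcomm, ρ n ∈ omegaSub (fpfA ρ t) hAcomm :=
    fun n hn => ⟨fpfA_inv h t n hn.1, by rw [← map_mul, hn.2, map_one]⟩
  have hO2inv : ∀ n ∈ omegaSub4 (fpfA ρ t) hAcomm, ρ n ∈ omegaSub4 (fpfA ρ t) hAcomm :=
    fun n hn => ⟨fpfA_inv h t n hn.1, by rw [← map_mul, ← map_mul, hn.2, map_one]⟩
  have hO1c := hcards _ hO1inv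
  have hO2c := hcards _ hO2inv
  have hO1d : Nat.card (omegaSub (fpfA ρ t) hAcomm) ∣ 16 := hA16 ▸ Subgroup.card_dvd_of_le hO1le
  have hO2d : Nat.card (omegaSub4 (fpfA ρ t) hAcomm) ∣ 16 := hA16 ▸ Subgroup.card_dvd_of_le hO2le
  have hZO1d : 4 ∣ Nat.card (omegaSub (fpfA ρ t) hAcomm) := hZ4 ▸ Subgroup.card_dvd_of_le hZO1
  have hO12d : Nat.card (omegaSub (fpfA ρ t) hAcomm) ∣ Nat.card (omegaSub4 (fpfA ρ t) hAcomm) :=
    Subgroup.card_dvd_of_le hO12
  have hO1cases : Nat.card (omegaSub (fpfA ρ t) hAcomm) = 4 ∨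
      Nat.card (omegaSub (fpfA ρ t) hAcomm) = 16 := by
    rcases hO1c with hk | hk | hk | hk
    · rw [hk] at hZO1d; exact absurd hZO1d (by decide)
    · exact Or.inl hk
    · exact Or.inr hk
    · rw [hk] at hO1d; exact absurd hO1d (by decide)
  rcases hO1cases with h4 | h16
  · -- `Ω₁(A) = Z`
    have hO1Z : omegaSub (fpfA ρ t) hAcomm = Subgroup.center T :=
      (Subgroup.eq_of_le_of_card_ge hZO1 (by rw [h4, hZ4])).symm
    -- an element of order four
    obtain ⟨g, hgA, hg2⟩ : ∃ g ∈ fpfA ρ t, g * g ≠ 1 := by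
      by_contra hcon
      push Not at hcon
      have hle : fpfA ρ t ≤ omegaSub (fpfA ρ t) hAcomm := fun g hg => ⟨hg, hcon g hg⟩
      have := Subgroup.card_dvd_of_le hle
      rw [hA16, h4] at this
      exact absurd this (by decide)
    obtain ⟨m, hm⟩ := (IsPGroup.iff_orderOf.1 hp) g
    have hm2 : 2 ≤ m := by
      by_contra hlt
      have hm1 : m = 0 ∨ m = 1 := by omega
      rcases hm1 with rfl | rfl
      · rw [pow_zero, orderOf_eq_one_iff] at hm
        exact hg2 (by rw [hm, mul_one])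
      · have := pow_orderOf_eq_one g
        rw [hm, pow_one, pow_two] at this
        exact hg2 this
    have hkA : g ^ 2 ^ (m - 2) ∈ fpfA ρ t := Subgroup.pow_mem _ hgA _
    have hk4 : (g ^ 2 ^ (m - 2) * g ^ 2 ^ (m - 2)) * (g ^ 2 ^ (m - 2) * g ^ 2 ^ (m - 2)) = 1 := by
      have e : (g ^ 2 ^ (m - 2) * g ^ 2 ^ (m - 2)) * (g ^ 2 ^ (m - 2) * g ^ 2 ^ (m - 2))
          = g ^ (2 ^ (m - 2) * 4) := by
        rw [← pow_add, ← pow_add]
        congr 1
        ring
      have e2 : 2 ^ (m - 2) * 4 = 2 ^ m := by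
        have : m = (m - 2) + 2 := by omega
        conv_rhs => rw [this, pow_add]
        norm_num
      rw [e, e2, ← hm, pow_orderOf_eq_one]
    have hk2 : g ^ 2 ^ (m - 2) * g ^ 2 ^ (m - 2) ≠ 1 := by
      intro hk
      have e : g ^ 2 ^ (m - 2) * g ^ 2 ^ (m - 2) = g ^ (2 ^ (m - 1)) := by
        rw [← pow_add]
        congr 1
        have : m - 1 = (m - 2) + 1 := by omega
        rw [this, pow_succ]
        ring
      rw [e] at hk
      have hdvd := orderOf_dvd_of_pow_eq_one hk
      rw [hm] at hdvd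
      have := (Nat.pow_dvd_pow_iff_le_right (by norm_num : 1 < 2)).1 hdvd
      omega
    have hO2ne : Nat.card (omegaSub4 (fpfA ρ t) hAcomm) ≠ 4 := by
      intro h4'
      have heq : omegaSub (fpfA ρ t) hAcomm = omegaSub4 (fpfA ρ t) hAcomm :=
        Subgroup.eq_of_le_of_card_ge hO12 (by rw [h4, h4'])
      have hmem : g ^ 2 ^ (m - 2) ∈ omegaSub4 (fpfA ρ t) hAcomm := ⟨hkA, hk4⟩
      rw [← heq] at hmem
      exact hk2 hmem.2
    have hO216 : Nat.card (omegaSub4 (fpfA ρ t) hAcomm) = 16 := by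
      rcases hO2c with hk | hk | hk | hk
      · rw [h4, hk] at hO12d; exact absurd hO12d (by decide)
      · exact absurd hk hO2ne
      · exact hk
      · rw [hk] at hO2d; exact absurd hO2d (by decide)
    have hO2A : omegaSub4 (fpfA ρ t) hAcomm = fpfA ρ t :=
      Subgroup.eq_of_le_of_card_ge hO2le (by rw [hO216, hA16])
    have ht4 : t ∈ omegaSub4 (fpfA ρ t) hAcomm := by rw [hO2A]; exact htA
    have : t * t ∈ omegaSub (fpfA ρ t) hAcomm := ⟨Subgroup.mul_mem _ htA htA, ht4.2⟩
    rw [hO1Z] at this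
    exact this
  · have hO1A : omegaSub (fpfA ρ t) hAcomm = fpfA ρ t :=
      Subgroup.eq_of_le_of_card_ge hO1le (by rw [h16, hA16])
    have ht1 : t ∈ omegaSub (fpfA ρ t) hAcomm := by rw [hO1A]; exact htA
    rw [ht1.2]
    exact Subgroup.one_mem _

end struct

end Cfsg.Agent.Helper50
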