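import Mathlib
import Cfsg.Agent.Helper50.Fpf3

/-!
# Burnside: a finite 2-group with a fixed-point-free automorphism of order three has class ≤ 2

Also: the automorphism induced on a quotient by an invariant normal subgroup (`quotAut`), and
the fact that a fixed-point-free automorphism of order three stays so on such quotients
(`Fpf3.quot`).
-/

set_option autoImplicit false
set_option linter.unusedSectionVars false
set_option linter.unusedVariables false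

open scoped commutatorElement

universe u

namespace Cfsg.Agent.Helper50

/-- The automorphism induced on the quotient by an invariant normal subgroup. -/
noncomputable def quotAut {T : Type*} [Group T] (N : Subgroup T) [N.Normal] (φ : MulAut T)
    (h : ∀ t, φ t ∈ N ↔ t ∈ N) : MulAut (T ⧸ N) :=
  QuotientGroup.congr N N φ (by
    ext x
    constructor
    · rintro ⟨y, hy, rfl⟩
      exact (h y).2 hy
    · intro hx
      refine ⟨φ.symm x, ?_, ?_⟩
      · apply (h _).1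
        have : φ (φ.symm x) = x := φ.apply_symm_apply x
        rw [this]
        exact hx
      · exact φ.apply_symm_apply x)

theorem quotAut_mk {T : Type*} [Group T] (N : Subgroup T) [N.Normal] (φ : MulAut T)
    (h : ∀ t, φ t ∈ N ↔ t ∈ N) (t : T) :
    quotAut N φ h (QuotientGroup.mk t) = QuotientGroup.mk (φ t) := rfl

section

variable {T : Type*} [Group T] {ρ : MulAut T}

/-- Lang's map is onto every invariant subgroup. -/
theorem fpf3_lang_mem [Finite T] (h : Fpf3 ρ) (N : Subgroup T) (hN : ∀ n ∈ N, ρ n ∈ N) {n : T}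
    (hn : n ∈ N) : ∃ m ∈ N, n = m⁻¹ * ρ m := by
  have hinj : Function.Injective
      (fun s : N => (⟨(s : T)⁻¹ * ρ s, N.mul_mem (N.inv_mem s.2) (hN s s.2)⟩ : N)) := by
    intro a b hab
    have hab' : (a : T)⁻¹ * ρ a = (b : T)⁻¹ * ρ b := congrArg Subtype.val hab
    have h1 : ρ (a : T) = a * ((b : T)⁻¹ * ρ b) := by rw [← hab']; group
    have h2 : ρ ((a : T) * (b : T)⁻¹) = a * (b : T)⁻¹ := by
      rw [map_mul, map_inv, h1]; group
    exact Subtype.ext (mul_inv_eq_one.1 (h.fpf _ h2))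
  obtain ⟨s, hs⟩ := (Finite.injective_iff_surjective.1 hinj) ⟨n, hn⟩
  exact ⟨s, s.2, (congrArg Subtype.val hs).symm⟩

/-- A fixed-point-free automorphism of order three induces one on invariant quotients. -/
theorem Fpf3.quot [Finite T] (h : Fpf3 ρ) (N : Subgroup T) [N.Normal]
    (hN : ∀ t, ρ t ∈ N ↔ t ∈ N) : Fpf3 (quotAut N ρ hN) := by
  refine ⟨?_, ?_⟩
  · intro v
    induction v using QuotientGroup.induction_on with
    | H t => rw [quotAut_mk, quotAut_mk, quotAut_mk, h.cube]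
  · intro v
    induction v using QuotientGroup.induction_on with
    | H t =>
      intro hv
      rw [quotAut_mk] at hv
      have h1 : t⁻¹ * ρ t ∈ N := QuotientGroup.eq.1 hv.symm
      obtain ⟨m, hm, hm'⟩ := fpf3_lang_mem h N (fun n hn => (hN n).2 hn) h1
      have h2 : ρ (t * m⁻¹) = t * m⁻¹ := by
        have h3 : ρ t = t * (m⁻¹ * ρ m) := by rw [← hm']; group
        rw [map_mul, map_inv, h3]; group
      have h4 : t = m := mul_inv_eq_one.1 (h.fpf _ h2)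
      rw [h4]
      exact (QuotientGroup.eq_one_iff m).2 hm

/-- `t` commutes with every conjugate of `ρ t`. -/
theorem fpf3_comm_conj [Finite T] (h : Fpf3 ρ) (t y : T) :
    t * (y * ρ t * y⁻¹) = (y * ρ t * y⁻¹) * t := by
  obtain ⟨s, hs⟩ := fpf3_surj h y
  have key : ∀ z : T, s * (s⁻¹ * z * s) * s⁻¹ = z := fun z => by group
  have hval : ∀ x : T, (MulAut.conj s⁻¹ * ρ * MulAut.conj s) x = s⁻¹ * ρ (s * x * s⁻¹) * s := by
    intro x
    rw [MulAut.mul_apply, MulAut.mul_apply, MulAut.conj_apply, MulAut.conj_apply, inv_inv]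
  have H : Fpf3 (MulAut.conj s⁻¹ * ρ * MulAut.conj s) := by
    refine ⟨?_, ?_⟩
    · intro x
      rw [hval, hval, hval, key, key, h.cube]
      group
    · intro x hx
      rw [hval] at hx
      have h1 : ρ (s * x * s⁻¹) = s * x * s⁻¹ := by
        calc ρ (s * x * s⁻¹) = s * (s⁻¹ * ρ (s * x * s⁻¹) * s) * s⁻¹ := by group
          _ = s * x * s⁻¹ := by rw [hx]
      have h2 := h.fpf _ h1
      calc x = s⁻¹ * (s * x * s⁻¹) * s := by group
        _ = 1 := by rw [h2]; group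
  have hc := fpf3_comm H t
  have e : (MulAut.conj s⁻¹ * ρ * MulAut.conj s) t = y * ρ t * y⁻¹ := by
    rw [hval, map_mul, map_mul, map_inv, hs]
    group
  rw [e] at hc
  exact hc

/-- Every element commutes with all its conjugates. -/
theorem fpf3_engel [Finite T] (h : Fpf3 ρ) (u y : T) :
    u * (y * u * y⁻¹) = (y * u * y⁻¹) * u := by
  have h1 := fpf3_comm_conj h u y⁻¹
  rw [inv_inv] at h1
  have c1 : Commute (ρ u) (y * u * y⁻¹) := by
    show ρ u * (y * u * y⁻¹) = (y * u * y⁻¹) * ρ u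
    calc ρ u * (y * u * y⁻¹) = y * ((y⁻¹ * ρ u * y) * u) * y⁻¹ := by group
      _ = y * (u * (y⁻¹ * ρ u * y)) * y⁻¹ := by rw [h1]
      _ = (y * u * y⁻¹) * ρ u := by group
  have h2 := fpf3_comm_conj h (ρ (ρ u)) y
  rw [h.cube] at h2
  have c2 : Commute (ρ (ρ u)) (y * u * y⁻¹) := h2
  have hu : u = (ρ u * ρ (ρ u))⁻¹ := by
    have h3 := fpf3_prod h u
    rw [mul_assoc] at h3
    exact eq_inv_of_mul_eq_one_left h3
  have c3 : Commute (ρ u * ρ (ρ u))⁻¹ (y * u * y⁻¹) := (c1.mul_left c2).inv_left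
  rw [← hu] at c3
  exact c3

end

/-- A 2-Engel finite 2-group whose triple commutators are central has class at most two. -/
theorem class_two_of_engel {T : Type*} [Group T] [Finite T] (hT : IsPGroup 2 T)
    (hf : ∀ a b c : T, ⁅⁅a, b⁆, c⁆ ∈ Subgroup.center T)
    (he : ∀ u y : T, u * (y * u * y⁻¹) = (y * u * y⁻¹) * u) :
    ∀ a b c : T, ⁅⁅a, b⁆, c⁆ = 1 := by
  have cz : ∀ (a b c g : T), g * ⁅⁅a, b⁆, c⁆ = ⁅⁅a, b⁆, c⁆ * g := fun a b c g =>
    Subgroup.mem_center_iff.1 (hf a b c) g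
  have conj_c : ∀ (z : T), z ∈ Subgroup.center T → ∀ g : T, g * z * g⁻¹ = z := by
    intro z hz g
    rw [Subgroup.mem_center_iff.1 hz g]; group
  -- multiplicativity in the third variable
  have L1 : ∀ a b c d : T, ⁅⁅a, b⁆, c * d⁆ = ⁅⁅a, b⁆, c⁆ * ⁅⁅a, b⁆, d⁆ := by
    intro a b c d
    have e : ⁅⁅a, b⁆, c * d⁆ = ⁅⁅a, b⁆, c⁆ * (c * ⁅⁅a, b⁆, d⁆ * c⁻¹) := by
      simp only [commutatorElement_def]; group
    rw [e, conj_c _ (hf a b d)]
  -- a general product rule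
  have L2 : ∀ x y c : T, ⁅y, c⁆ ∈ Subgroup.center T → ⁅x * y, c⁆ = ⁅x, c⁆ * ⁅y, c⁆ := by
    intro x y c hy
    have e : ⁅x * y, c⁆ = (x * ⁅y, c⁆ * x⁻¹) * ⁅x, c⁆ := by
      simp only [commutatorElement_def]; group
    rw [e, conj_c _ hy, Subgroup.mem_center_iff.1 hy]
  have L2' : ∀ z w c : T, z ∈ Subgroup.center T → ⁅z * w, c⁆ = ⁅w, c⁆ := by
    intro z w c hz
    have hz' := Subgroup.mem_center_iff.1 hz
    have e : ⁅z * w, c⁆ = z * (w * c * w⁻¹) * z⁻¹ * c⁻¹ := by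
      simp only [commutatorElement_def]; group
    rw [e, ← hz' (w * c * w⁻¹)]
    simp only [commutatorElement_def]; group
  have hinvc : ∀ z : T, z ∈ Subgroup.center T → z⁻¹ ∈ Subgroup.center T := fun z hz =>
    Subgroup.inv_mem _ hz
  -- multiplicativity in the first variable
  have L3 : ∀ a a' b c : T, ⁅⁅a * a', b⁆, c⁆ = ⁅⁅a, b⁆, c⁆ * ⁅⁅a', b⁆, c⁆ := by
    intro a a' b c
    have e : ⁅a * a', b⁆ = (⁅⁅a', b⁆, a⁆)⁻¹ * (⁅a', b⁆ * ⁅a, b⁆) := by
      simp only [commutatorElement_def]; group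
    rw [e, L2' _ _ _ (hinvc _ (hf a' b a)), L2 _ _ _ (hf a b c)]
    exact cz a b c _
  -- multiplicativity in the second variable
  have L4 : ∀ a b b' c : T, ⁅⁅a, b * b'⁆, c⁆ = ⁅⁅a, b⁆, c⁆ * ⁅⁅a, b'⁆, c⁆ := by
    intro a b b' c
    have e : ⁅a, b * b'⁆ = ⁅a, b⁆ * ((⁅⁅a, b'⁆, b⁆)⁻¹ * ⁅a, b'⁆) := by
      simp only [commutatorElement_def]; group
    have e2 : ⁅a, b⁆ * ((⁅⁅a, b'⁆, b⁆)⁻¹ * ⁅a, b'⁆) = (⁅⁅a, b'⁆, b⁆)⁻¹ * (⁅a, b⁆ * ⁅a, b'⁆) := by
      have := Subgroup.mem_center_iff.1 (hinvc _ (hf a b' b)) ⁅a, b⁆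
      rw [← mul_assoc, this, mul_assoc]
    rw [e, e2, L2' _ _ _ (hinvc _ (hf a b' b)), L2 _ _ _ (hf a b' c)]
  -- Engel
  have L5a : ∀ a b : T, ⁅⁅a, b⁆, a⁆ = 1 := by
    intro a b
    rw [commutatorElement_eq_one_iff_commute]
    have h1 : Commute a⁻¹ (b * a⁻¹ * b⁻¹) := he a⁻¹ b
    have h2 : Commute (b * a⁻¹ * b⁻¹) a := (Commute.inv_left_iff.1 h1).symm
    have e : ⁅a, b⁆ = a * (b * a⁻¹ * b⁻¹) := by
      simp only [commutatorElement_def]; group
    rw [e]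
    exact (Commute.refl a).mul_left h2
  have L5b : ∀ a b : T, ⁅⁅a, b⁆, b⁆ = 1 := by
    intro a b
    rw [commutatorElement_eq_one_iff_commute]
    have h1 : Commute b (a * b * a⁻¹) := he b a
    have e : ⁅a, b⁆ = (a * b * a⁻¹) * b⁻¹ := by
      rw [commutatorElement_def]
    rw [e]
    exact h1.symm.mul_left ((Commute.refl b).inv_left)
  -- symmetries
  have A1 : ∀ a a' b : T, ⁅⁅a', b⁆, a⁆ = (⁅⁅a, b⁆, a'⁆)⁻¹ := by
    intro a a' b
    have h1 := L5a (a * a') b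
    rw [L3, L1, L1, L5a, L5a, one_mul, mul_one] at h1
    exact (inv_eq_of_mul_eq_one_right h1).symm
  have A2 : ∀ a b b' : T, ⁅⁅a, b'⁆, b⁆ = (⁅⁅a, b⁆, b'⁆)⁻¹ := by
    intro a b b'
    have h1 := L5b a (b * b')
    rw [L4, L1, L1, L5b, L5b, one_mul, mul_one] at h1
    exact (inv_eq_of_mul_eq_one_right h1).symm
  have A3 : ∀ a b c : T, ⁅⁅b, a⁆, c⁆ = (⁅⁅a, b⁆, c⁆)⁻¹ := by
    intro a b c
    have e : ⁅⁅b, a⁆, c⁆ = ⁅a, b⁆⁻¹ * (⁅⁅a, b⁆, c⁆)⁻¹ * ⁅a, b⁆ := by
      simp only [commutatorElement_def]; group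
    rw [e]
    have := Subgroup.mem_center_iff.1 (hinvc _ (hf a b c)) ⁅a, b⁆⁻¹
    rw [this]; group
  have Linv : ∀ a b c : T, ⁅⁅a⁻¹, b⁆, c⁆ = (⁅⁅a, b⁆, c⁆)⁻¹ := by
    intro a b c
    have h1 := L3 a a⁻¹ b c
    rw [mul_inv_cancel] at h1
    have h2 : ⁅⁅(1 : T), b⁆, c⁆ = 1 := by simp [commutatorElement_def]
    rw [h2] at h1
    exact (inv_eq_of_mul_eq_one_right h1.symm).symm
  intro x y z
  -- Hall–Witt
  have HW : x * ⁅y, ⁅x⁻¹, z⁆⁆ * x⁻¹ * (z * ⁅x, ⁅z⁻¹, y⁆⁆ * z⁻¹) * (y * ⁅z, ⁅y⁻¹, x⁆⁆ * y⁻¹) = 1 := by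
    simp only [commutatorElement_def]; group
  have sw : ∀ p q : T, ⁅p, q⁆ = (⁅q, p⁆)⁻¹ := fun p q => by
    simp only [commutatorElement_def]; group
  have t1 : ⁅y, ⁅x⁻¹, z⁆⁆ = (⁅⁅x, y⁆, z⁆)⁻¹ := by
    rw [sw, Linv, inv_inv, A2 x y z]
  have t2 : ⁅x, ⁅z⁻¹, y⁆⁆ = (⁅⁅x, y⁆, z⁆)⁻¹ := by
    rw [sw, Linv, inv_inv, A1 x z y]
  have t3 : ⁅z, ⁅y⁻¹, x⁆⁆ = (⁅⁅x, y⁆, z⁆)⁻¹ := by
    rw [sw, Linv, inv_inv, A3 x y z]
  rw [t1, t2, t3] at HW
  have hcF := hinvc _ (hf x y z)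
  rw [conj_c _ hcF, conj_c _ hcF, conj_c _ hcF] at HW
  have h3 : (⁅⁅x, y⁆, z⁆) ^ 3 = 1 := by
    have : ((⁅⁅x, y⁆, z⁆)⁻¹) ^ 3 = 1 := by rw [pow_succ, pow_two]; exact HW
    rw [inv_pow] at this
    exact inv_eq_one.1 this
  obtain ⟨j, hj⟩ := (IsPGroup.iff_orderOf.1 hT) ⁅⁅x, y⁆, z⁆
  have hdvd : orderOf ⁅⁅x, y⁆, z⁆ ∣ 3 := orderOf_dvd_of_pow_eq_one h3
  have hj0 : j = 0 := by
    by_contra hj0
    have h2dvd : 2 ∣ orderOf ⁅⁅x, y⁆, z⁆ := by rw [hj]; exact dvd_pow_self 2 hj0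
    have := dvd_trans h2dvd hdvd
    omega
  rw [hj0, pow_zero, orderOf_eq_one_iff] at hj
  exact hj

theorem fpf3_class_two_aux : ∀ (n : ℕ) (T : Type u) [Group T] [Finite T] (ρ : MulAut T),
    Nat.card T = n → IsPGroup 2 T → Fpf3 ρ → ∀ a b c : T, ⁅⁅a, b⁆, c⁆ = 1 := by
  intro n
  induction n using Nat.strong_induction_on with
  | _ n ih =>
    intro T _ _ ρ hn hT h
    by_cases htriv : Subsingleton T
    · intro a b c; exact Subsingleton.elim _ _
    have hnt : Nontrivial T := not_subsingleton_iff_nontrivial.1 htriv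
    have : Fact (Nat.Prime 2) := ⟨Nat.prime_two⟩
    have hZnt : Nontrivial (Subgroup.center T) := hT.center_nontrivial
    have hZρ : ∀ t, ρ t ∈ Subgroup.center T ↔ t ∈ Subgroup.center T := fun t =>
      ⟨fun ht => by
        have h1 := mulAut_mem_center ρ⁻¹ ht
        rwa [MulAut.inv_apply_self] at h1, fun ht => mulAut_mem_center ρ ht⟩
    have hq := h.quot (Subgroup.center T) hZρ
    have hlt : Nat.card (T ⧸ Subgroup.center T) < n := by
      rw [← hn, Subgroup.card_eq_card_quotient_mul_card_subgroup (Subgroup.center T)]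
      have h1 : 1 < Nat.card (Subgroup.center T) := Finite.one_lt_card
      have h2 : 0 < Nat.card (T ⧸ Subgroup.center T) := Nat.card_pos
      nlinarith
    have hcl := ih _ hlt (T ⧸ Subgroup.center T) _ rfl (hT.to_quotient _) hq
    have hf : ∀ a b c : T, ⁅⁅a, b⁆, c⁆ ∈ Subgroup.center T := by
      intro a b c
      have h1 := hcl (QuotientGroup.mk a) (QuotientGroup.mk b) (QuotientGroup.mk c)
      rw [← QuotientGroup.eq_one_iff]
      rw [← h1]
      simp only [commutatorElement_def, QuotientGroup.mk_mul, QuotientGroup.mk_inv]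
    exact class_two_of_engel hT hf (fpf3_engel h)

/-- **Burnside.** A finite 2-group with a fixed-point-free automorphism of order three has
nilpotency class at most two. -/
theorem fpf3_class_two {T : Type u} [Group T] [Finite T] {ρ : MulAut T} (hT : IsPGroup 2 T)
    (h : Fpf3 ρ) : ∀ a b c : T, ⁅⁅a, b⁆, c⁆ = 1 :=
  fpf3_class_two_aux (Nat.card T) T ρ rfl hT h

/-- Commutators are central. -/
theorem fpf3_comm_mem_center {T : Type u} [Group T] [Finite T] {ρ : MulAut T}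
    (hT : IsPGroup 2 T) (h : Fpf3 ρ) (a b : T) : ⁅a, b⁆ ∈ Subgroup.center T := by
  rw [Subgroup.mem_center_iff]
  intro g
  have := fpf3_class_two hT h a b g
  rw [commutatorElement_eq_one_iff_commute] at this
  exact this.symm.eq

end Cfsg.Agent.Helper50
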