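import Mathlib

/-!
# Two counting lemmas

* `aniso_card_le`: a finite group with a central four-group `Z` of exponent two containing all
  squares, all commutators and all involutions has order at most `128`.
* `nine_dvd_card`: a self-map with `f^[9] = id` such that `f^[3]` has no fixed point lives on a
  set of cardinality divisible by `9`.
-/

set_option autoImplicit false
set_option linter.unusedSectionVars false
set_option linter.unusedVariables false

namespace Cfsg.Agent.Helper50

/-- Four distinct elements of a subgroup of order four exhaust it. -/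
theorem eq_of_card_four {T : Type*} [Group T] [Finite T] {Z : Subgroup T} (h4 : Nat.card Z = 4)
    {a b c d z : T} (ha : a ∈ Z) (hb : b ∈ Z) (hc : c ∈ Z) (hd : d ∈ Z)
    (hab : a ≠ b) (hac : a ≠ c) (had : a ≠ d) (hbc : b ≠ c) (hbd : b ≠ d) (hcd : c ≠ d)
    (hz : z ∈ Z) : z = a ∨ z = b ∨ z = c ∨ z = d := by
  classical
  by_contra hcon
  push Not at hcon
  obtain ⟨h1, h2, h3, h4'⟩ := hcon
  have : Fintype Z := Fintype.ofFinite _
  let s : Finset Z := {⟨a, ha⟩, ⟨b, hb⟩, ⟨c, hc⟩, ⟨d, hd⟩, ⟨z, hz⟩}
  have hs : s.card = 5 := by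
    rw [Finset.card_insert_of_notMem, Finset.card_insert_of_notMem, Finset.card_insert_of_notMem,
      Finset.card_insert_of_notMem, Finset.card_singleton]
    · simp only [Finset.mem_singleton, Subtype.mk.injEq]
      exact fun h => h4' h.symm
    · simp only [Finset.mem_insert, Finset.mem_singleton, Subtype.mk.injEq]
      rintro (h | h)
      · exact hcd h
      · exact h3 h.symm
    · simp only [Finset.mem_insert, Finset.mem_singleton, Subtype.mk.injEq]
      rintro (h | h | h)
      · exact hbc h
      · exact hbd h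
      · exact h2 h.symm
    · simp only [Finset.mem_insert, Finset.mem_singleton, Subtype.mk.injEq]
      rintro (h | h | h | h)
      · exact hab h
      · exact hac h
      · exact had h
      · exact h1 h.symm
  have hle := Finset.card_le_univ s
  rw [hs, ← Nat.card_eq_fintype_card, h4] at hle
  omega

/-- The commutator with a fixed element, as a homomorphism into a central subgroup containing all
commutators. -/
def commHom {T : Type*} [Group T] (Z : Subgroup T) (hZc : ∀ z ∈ Z, ∀ t : T, z * t = t * z)
    (hcm : ∀ s t : T, s * t * s⁻¹ * t⁻¹ ∈ Z) (y : T) : T →* Z where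
  toFun t := ⟨t * y * t⁻¹ * y⁻¹, hcm t y⟩
  map_one' := by
    apply Subtype.ext
    show 1 * y * 1⁻¹ * y⁻¹ = 1
    group
  map_mul' := by
    intro a b
    apply Subtype.ext
    show (a * b) * y * (a * b)⁻¹ * y⁻¹ = (a * y * a⁻¹ * y⁻¹) * (b * y * b⁻¹ * y⁻¹)
    have h1 := hZc _ (hcm b y) a⁻¹
    have h2 := hZc _ (hcm a y) (b * y * b⁻¹ * y⁻¹)
    rw [h2]
    calc (a * b) * y * (a * b)⁻¹ * y⁻¹ = a * ((b * y * b⁻¹ * y⁻¹) * a⁻¹) * (a * y * a⁻¹ * y⁻¹) := by
          group
      _ = a * (a⁻¹ * (b * y * b⁻¹ * y⁻¹)) * (a * y * a⁻¹ * y⁻¹) := by rw [h1]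
      _ = (b * y * b⁻¹ * y⁻¹) * (a * y * a⁻¹ * y⁻¹) := by group

theorem commHom_apply {T : Type*} [Group T] (Z : Subgroup T)
    (hZc : ∀ z ∈ Z, ∀ t : T, z * t = t * z) (hcm : ∀ s t : T, s * t * s⁻¹ * t⁻¹ ∈ Z) (y t : T) :
    ((commHom Z hZc hcm y t : Z) : T) = t * y * t⁻¹ * y⁻¹ := rfl

/-- **The bound**: a finite group with a central four-group `Z` of exponent two containing all
squares, all commutators and all involutions has order at most `128`. -/
theorem aniso_card_le {T : Type*} [Group T] [Finite T] (Z : Subgroup T)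
    (hZc : ∀ z ∈ Z, ∀ t : T, z * t = t * z) (hZ4 : Nat.card Z = 4)
    (hZe : ∀ z ∈ Z, z * z = 1) (han : ∀ t : T, t * t = 1 → t ∈ Z)
    (hsq : ∀ t : T, t * t ∈ Z) (hcm : ∀ s t : T, s * t * s⁻¹ * t⁻¹ ∈ Z) :
    Nat.card T ≤ 128 := by
  classical
  by_cases hall : ∀ t : T, t ∈ Z
  · have htop : Z = ⊤ := (Subgroup.eq_top_iff' Z).2 hall
    rw [htop, Subgroup.card_top] at hZ4
    omega
  push Not at hall
  obtain ⟨x, hx⟩ := hall
  have hs : x * x ∈ Z := hsq x
  have hs1 : x * x ≠ 1 := fun h => hx (han x h)
  -- the set `S0 = Z ∪ x Z`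
  let S0 : Set T := {v | v ∈ Z ∨ x⁻¹ * v ∈ Z}
  have hS0 : ∀ v, v ∈ S0 ↔ (v ∈ Z ∨ x⁻¹ * v ∈ Z) := fun v => Iff.rfl
  have hS0card : S0.ncard ≤ 8 := by
    have h1 : S0 = (Z : Set T) ∪ (fun z => x * z) '' (Z : Set T) := by
      ext v
      simp only [hS0, Set.mem_union, SetLike.mem_coe, Set.mem_image]
      constructor
      · rintro (h | h)
        · exact Or.inl h
        · exact Or.inr ⟨x⁻¹ * v, h, by group⟩
      · rintro (h | ⟨z, hz, rfl⟩)
        · exact Or.inl h
        · refine Or.inr ?_
          have : x⁻¹ * (x * z) = z := by group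
          rw [this]; exact hz
    have h2 : (Z : Set T).ncard = 4 := by
      rw [← hZ4]; rfl
    have h3 : ((fun z => x * z) '' (Z : Set T)).ncard ≤ 4 := by
      rw [← h2]; exact Set.ncard_image_le (Set.toFinite _)
    rw [h1]
    have h4 := Set.ncard_union_le (Z : Set T) ((fun z => x * z) '' (Z : Set T))
    omega
  -- elements of `S0` commute with everything commuting with `x`
  have hS0comm : ∀ v ∈ S0, ∀ u : T, u * x = x * u → v * u = u * v := by
    intro v hv u hu
    rcases (hS0 v).1 hv with h | h
    · exact hZc v h u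
    · have h1 := hZc _ h u
      have h2 : v = x * (x⁻¹ * v) := by group
      rw [h2]
      calc x * (x⁻¹ * v) * u = x * ((x⁻¹ * v) * u) := by group
        _ = x * (u * (x⁻¹ * v)) := by rw [h1]
        _ = (x * u) * (x⁻¹ * v) := by group
        _ = (u * x) * (x⁻¹ * v) := by rw [hu]
        _ = u * (x * (x⁻¹ * v)) := by group
  -- squares of elements commuting with `x` outside `S0`
  have hclaim1 : ∀ w : T, w * x = x * w → w ∉ S0 → w * w ≠ 1 ∧ w * w ≠ x * x := by
    intro w hw hwS
    constructor
    · intro h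
      exact hwS ((hS0 w).2 (Or.inl (han w h)))
    · intro h
      apply hwS
      refine (hS0 w).2 (Or.inr (han _ ?_))
      have hw' : x⁻¹ * w = w * x⁻¹ := by
        have : x⁻¹ * (w * x) * x⁻¹ = x⁻¹ * (x * w) * x⁻¹ := by rw [hw]
        calc x⁻¹ * w = x⁻¹ * (w * x) * x⁻¹ := by group
          _ = x⁻¹ * (x * w) * x⁻¹ := this
          _ = w * x⁻¹ := by group
      calc x⁻¹ * w * (x⁻¹ * w) = x⁻¹ * (w * x⁻¹) * w := by group
        _ = x⁻¹ * (x⁻¹ * w) * w := by rw [hw']
        _ = (x * x)⁻¹ * (w * w) := by group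
        _ = 1 := by rw [h]; group
  -- two elements of `Z` outside `{1, s}` have product in `{1, s}`
  have hNN : ∀ a ∈ Z, ∀ b ∈ Z, a ≠ 1 → a ≠ x * x → b ≠ 1 → b ≠ x * x →
      a * b = 1 ∨ a * b = x * x := by
    intro a ha b hb ha1 has hb1 hbs
    have has' : a * (x * x) ∈ Z := Z.mul_mem ha hs
    have e1 : a * (x * x) ≠ 1 := by
      intro h
      apply has
      have h2 : a * (x * x) * (x * x) = x * x := by rw [h, one_mul]
      rw [mul_assoc, hZe _ hs, mul_one] at h2
      exact h2
    have e2 : a * (x * x) ≠ x * x := by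
      intro h
      apply ha1
      have : a * (x * x) = 1 * (x * x) := by rw [h, one_mul]
      exact mul_right_cancel this
    have e3 : a * (x * x) ≠ a := by
      intro h
      apply hs1
      have : a * (x * x) = a * 1 := by rw [h, mul_one]
      exact mul_left_cancel this
    rcases eq_of_card_four hZ4 Z.one_mem hs ha has' (Ne.symm hs1) (Ne.symm ha1) (Ne.symm e1)
      (Ne.symm has) (Ne.symm e2) (Ne.symm e3) hb with h | h | h | h
    · exact absurd h hb1
    · exact absurd h hbs
    · left; rw [h]; exact hZe a ha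
    · right
      rw [h, ← mul_assoc, hZe a ha, one_mul]
  by_cases hK : ∀ u : T, u * x = x * u → u ∈ S0
  · -- the centraliser of `x` is small
    let Φ : T →* Z := commHom Z hZc hcm x
    have hker : (Φ.ker : Set T) ⊆ S0 := by
      intro t ht
      apply hK
      have h1 : Φ t = 1 := ht
      have h2 : t * x * t⁻¹ * x⁻¹ = 1 := by
        have := congrArg Subtype.val h1
        exact this
      calc t * x = (t * x * t⁻¹ * x⁻¹) * x * t := by group
        _ = x * t := by rw [h2, one_mul]
    have hkc : Nat.card Φ.ker ≤ 8 := by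
      have : Nat.card Φ.ker = (Φ.ker : Set T).ncard := rfl
      rw [this]
      exact le_trans (Set.ncard_le_ncard hker (Set.toFinite _)) hS0card
    have hrc : Nat.card Φ.range ≤ 4 := by
      rw [← hZ4]
      exact Nat.card_le_card_of_injective _ (Subgroup.subtype_injective _)
    have hT : Nat.card T = Nat.card Φ.ker * Nat.card Φ.range := by
      rw [← Subgroup.index_ker, Subgroup.card_mul_index]
    rw [hT]
    nlinarith
  · push Not at hK
    obtain ⟨u, hux, huS⟩ := hK
    let Φ : T →* Z × Z := (commHom Z hZc hcm x).prod (commHom Z hZc hcm u)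
    -- the second commutator of an element commuting with `x`
    have hclaim2 : ∀ t : T, t * x = x * t → t ∉ S0 → u * t ∉ S0 →
        t * u * t⁻¹ * u⁻¹ ≠ 1 ∧ t * u * t⁻¹ * u⁻¹ ≠ x * x := by
      intro t ht htS hutS
      have hutx : (u * t) * x = x * (u * t) := by
        rw [mul_assoc, ht, ← mul_assoc, hux, mul_assoc]
      obtain ⟨a1, a2⟩ := hclaim1 u hux huS
      obtain ⟨b1, b2⟩ := hclaim1 t ht htS
      obtain ⟨c1, c2⟩ := hclaim1 (u * t) hutx hutS
      have hg := hcm t u
      have hc : (u * t) * (u * t) = (t * u * t⁻¹ * u⁻¹) * ((u * u) * (t * t)) := by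
        have h1 := hZc _ hg u
        calc (u * t) * (u * t) = u * (t * u * t⁻¹ * u⁻¹) * u * t * t := by group
          _ = (u * (t * u * t⁻¹ * u⁻¹)) * u * t * t := by group
          _ = ((t * u * t⁻¹ * u⁻¹) * u) * u * t * t := by rw [h1]
          _ = (t * u * t⁻¹ * u⁻¹) * ((u * u) * (t * t)) := by group
      have hab := hNN _ (hsq u) _ (hsq t) a1 a2 b1 b2
      constructor
      · intro h
        rw [h, one_mul] at hc
        rcases hab with h' | h'
        · exact c1 (hc.trans h')
        · exact c2 (hc.trans h')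
      · intro h
        rw [h] at hc
        rcases hab with h' | h'
        · rw [h', mul_one] at hc
          exact c2 hc
        · rw [h', hZe _ hs] at hc
          exact c1 hc
    have hΦ : ∀ t : T, Φ t = (commHom Z hZc hcm x t, commHom Z hZc hcm u t) := fun t => rfl
    have hcomm_of : ∀ t : T, t * x * t⁻¹ * x⁻¹ = 1 → t * x = x * t := by
      intro t h2
      calc t * x = (t * x * t⁻¹ * x⁻¹) * x * t := by group
        _ = x * t := by rw [h2, one_mul]
    have hker : (Φ.ker : Set T) ⊆ S0 ∪ (fun w => u⁻¹ * w) '' S0 := by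
      intro t ht
      have h1 : Φ t = 1 := ht
      rw [hΦ] at h1
      have h2 : t * x * t⁻¹ * x⁻¹ = 1 := congrArg Subtype.val (congrArg Prod.fst h1)
      have h3 : t * u * t⁻¹ * u⁻¹ = 1 := congrArg Subtype.val (congrArg Prod.snd h1)
      have htx := hcomm_of t h2
      by_cases htS : t ∈ S0
      · exact Or.inl htS
      · right
        by_cases hutS : u * t ∈ S0
        · exact ⟨u * t, hutS, by group⟩
        · exact absurd h3 (hclaim2 t htx htS hutS).1
    have hkc : Nat.card Φ.ker ≤ 16 := by
      have : Nat.card Φ.ker = (Φ.ker : Set T).ncard := rfl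
      rw [this]
      have h1 := Set.ncard_le_ncard hker (Set.toFinite _)
      have h2 := Set.ncard_union_le S0 ((fun w => u⁻¹ * w) '' S0)
      have h3 : ((fun w => u⁻¹ * w) '' S0).ncard ≤ S0.ncard :=
        Set.ncard_image_le (Set.toFinite _)
      omega
    have hnot : ((1 : Z), (⟨x * x, hs⟩ : Z)) ∉ Φ.range := by
      rintro ⟨t, ht⟩
      rw [hΦ] at ht
      have h2 : t * x * t⁻¹ * x⁻¹ = 1 := congrArg Subtype.val (congrArg Prod.fst ht)
      have h3 : t * u * t⁻¹ * u⁻¹ = x * x := congrArg Subtype.val (congrArg Prod.snd ht)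
      have htx := hcomm_of t h2
      by_cases htS : t ∈ S0
      · have h4 := hS0comm t htS u hux
        have h5 : t * u * t⁻¹ * u⁻¹ = 1 := by rw [h4]; group
        exact hs1 (h3.symm.trans h5)
      · by_cases hutS : u * t ∈ S0
        · have h4 := hS0comm (u * t) hutS u hux
          have h5 : t * u = u * t := by
            have : u * t * u = u * (u * t) := h4
            have h6 : u * (t * u) = u * (u * t) := by rw [← mul_assoc]; exact this
            exact mul_left_cancel h6
          have h7 : t * u * t⁻¹ * u⁻¹ = 1 := by rw [h5]; group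
          exact hs1 (h3.symm.trans h7)
        · exact (hclaim2 t htx htS hutS).2 h3
    have hZZ : Nat.card (Z × Z) = 16 := by rw [Nat.card_prod, hZ4]
    have hfinZ : Finite Z := inferInstance
    have hrc : Nat.card Φ.range ≤ 8 := by
      have hdvd : Nat.card Φ.range ∣ 16 := by
        rw [← hZZ]; exact Subgroup.card_subgroup_dvd_card _
      have hne : Nat.card Φ.range ≠ 16 := by
        intro h
        have htop : Φ.range = ⊤ := Subgroup.eq_top_of_card_eq _ (by rw [h, hZZ])
        apply hnot
        rw [htop]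
        exact Subgroup.mem_top _
      obtain ⟨k, hk⟩ := hdvd
      have hk0 : k ≠ 0 := by rintro rfl; omega
      have hk1 : k ≠ 1 := by rintro rfl; omega
      have hk2 : Nat.card Φ.range * 2 ≤ Nat.card Φ.range * k :=
        Nat.mul_le_mul_left _ (by omega)
      omega
    have hT : Nat.card T = Nat.card Φ.ker * Nat.card Φ.range := by
      rw [← Subgroup.index_ker, Subgroup.card_mul_index]
    rw [hT]
    nlinarith

/-- A self-map with `f^[9] = id` such that `f^[3]` has no fixed point lives on a set of
cardinality divisible by `9`. -/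
theorem nine_dvd_card {X : Type*} [Finite X] (f : X → X) (h9 : ∀ x, f^[9] x = x)
    (h3 : ∀ x, f^[3] x ≠ x) : 9 ∣ Nat.card X := by
  classical
  rcases isEmpty_or_nonempty X with hX | hX
  · rw [Nat.card_of_isEmpty]; exact dvd_zero 9
  let σ : Equiv.Perm X :=
    { toFun := f
      invFun := f^[8]
      left_inv := fun x => by
        have : f^[8] (f x) = f^[9] x := by rw [← Function.iterate_succ_apply]
        rw [this, h9]
      right_inv := fun x => by
        have : f (f^[8] x) = f^[9] x := (Function.iterate_succ_apply' f 8 x).symm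
        rw [this, h9] }
  have hσ : ∀ (n : ℕ) (x : X), (σ ^ n) x = f^[n] x := by
    intro n x
    rw [← Equiv.Perm.iterate_eq_pow]
    rfl
  have hσ9 : σ ^ 9 = 1 := by
    ext x
    rw [hσ, h9]; rfl
  have hfree : ∀ x : X, MulAction.stabilizer (Subgroup.zpowers σ) x = ⊥ := by
    intro x
    rw [Subgroup.eq_bot_iff_forall]
    rintro ⟨g, hg⟩ hgx
    obtain ⟨k, rfl⟩ := Subgroup.mem_zpowers_iff.1 hg
    have hgx' : (σ ^ k) x = x := hgx
    have h1 : σ ^ k = σ ^ (k % 9) := zpow_eq_zpow_emod k (by exact_mod_cast hσ9)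
    have hnn : 0 ≤ k % 9 := Int.emod_nonneg k (by norm_num)
    have hlt : k % 9 < 9 := Int.emod_lt_of_pos k (by norm_num)
    obtain ⟨r, hr⟩ := Int.eq_ofNat_of_zero_le hnn
    have h2 : σ ^ k = σ ^ r := by rw [h1, hr, zpow_natCast]
    have hr9 : r < 9 := by omega
    apply Subtype.ext
    show σ ^ k = 1
    rw [h2]
    rw [h2, hσ] at hgx'
    have hp9 : Function.IsPeriodicPt f 9 x := h9 x
    have hpr : Function.IsPeriodicPt f r x := hgx'
    have hg := hpr.gcd hp9
    interval_cases r
    · rfl
    all_goals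
      exfalso
      first
        | exact h3 x hg
        | exact h3 x hpr
        | (have h1' : Function.IsPeriodicPt f 1 x := hg
           exact h3 x (h1'.mul_const 3))
  have hcardG : Nat.card (Subgroup.zpowers σ) = 9 := by
    rw [Nat.card_zpowers]
    have hdvd : orderOf σ ∣ 9 := orderOf_dvd_of_pow_eq_one hσ9
    obtain ⟨x⟩ := hX
    have hne3 : σ ^ 3 ≠ 1 := by
      intro h
      apply h3 x
      rw [← hσ, h]; rfl
    have h9' : (9 : ℕ) = 3 ^ 2 := by norm_num
    rw [h9'] at hdvd
    obtain ⟨j, hj, hjo⟩ := (Nat.dvd_prime_pow Nat.prime_three).1 hdvd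
    interval_cases j
    · exfalso
      apply hne3
      have := pow_orderOf_eq_one σ
      rw [hjo, pow_zero, pow_one] at this
      rw [this, one_pow]
    · exfalso
      apply hne3
      have := pow_orderOf_eq_one σ
      rw [hjo, pow_one] at this
      exact this
    · rw [hjo]; norm_num
  have e := MulAction.selfEquivOrbitsQuotientProd hfree
  rw [Nat.card_congr e, Nat.card_prod, hcardG]
  exact dvd_mul_left 9 _

end Cfsg.Agent.Helper50
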