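import Mathlib
import Cfsg.Agent.Helper50.R2a

/-!
# 2-groups with three involutions, all central, permuted by an automorphism of 3-power order

`R2 ψ` : `T` is a 2-group whose involutions are central, there are exactly three of them, and `ψ`
is an automorphism of `3`-power order moving each of them.  Main result (`R2.cube`): `ψ ^ 3 = 1`.
-/

set_option autoImplicit false
set_option linter.unusedSectionVars false
set_option linter.unusedVariables false

universe u

namespace Cfsg.Agent.Helper50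

theorem mulAut_pow_apply {T : Type*} [Group T] (ψ : MulAut T) (n : ℕ) (t : T) :
    (ψ ^ n) t = (⇑ψ)^[n] t := by
  induction n generalizing t with
  | zero => rfl
  | succ n ih => rw [pow_succ, MulAut.mul_apply, ih, Function.iterate_succ_apply]

/-- The elements of square one, when they are central. -/
def invSub (T : Type*) [Group T] (h : ∀ s : T, s * s = 1 → s ∈ Subgroup.center T) :
    Subgroup T where
  carrier := {s | s * s = 1}
  one_mem' := mul_one 1
  mul_mem' := by
    intro a b ha hb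
    have h1 : b * a = a * b := Subgroup.mem_center_iff.1 (h a ha) b
    show a * b * (a * b) = 1
    calc a * b * (a * b) = a * (b * a) * b := by group
      _ = a * (a * b) * b := by rw [h1]
      _ = (a * a) * (b * b) := by group
      _ = 1 := by rw [show a * a = 1 from ha, show b * b = 1 from hb, one_mul]
  inv_mem' := by
    intro a ha
    show a⁻¹ * a⁻¹ = 1
    calc a⁻¹ * a⁻¹ = (a * a)⁻¹ := by group
      _ = 1 := by rw [show a * a = 1 from ha, inv_one]

theorem mem_invSub {T : Type*} [Group T] (h : ∀ s : T, s * s = 1 → s ∈ Subgroup.center T)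
    (s : T) : s ∈ invSub T h ↔ s * s = 1 := Iff.rfl

/-- A 2-group whose involutions are central and, together with the identity, four in number,
with an automorphism of `3`-power order moving every involution. -/
structure R2 {T : Type*} [Group T] (ψ : MulAut T) : Prop where
  two : IsPGroup 2 T
  cent : ∀ s : T, s * s = 1 → s ∈ Subgroup.center T
  card : Nat.card {s : T // s * s = 1} = 4
  pow : ∃ a : ℕ, ψ ^ 3 ^ a = 1
  mov : ∀ s : T, s * s = 1 → ψ s = s → s = 1

/-- A fixed-point-free self-map of `3`-power order lives on a set of cardinality `≡ 1 (mod 3)`. -/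
theorem card_mod_three_of_fpf {V : Type*} [Finite V] (g : V → V) (a : ℕ)
    (hg : ∀ v, g^[3 ^ a] v = v) (v0 : V) (hfix : ∀ v, g v = v ↔ v = v0) :
    Nat.card V % 3 = 1 := by
  classical
  have : Fintype V := Fintype.ofFinite V
  have : Fact (Nat.Prime 3) := ⟨Nat.prime_three⟩
  let f : Function.End V := g
  have hf : f ^ 3 ^ a = 1 := by
    funext v
    have h1 : ∀ (n : ℕ) (w : V), (f ^ n) w = g^[n] w := by
      intro n
      induction n with
      | zero => intro w; rfl
      | succ n ih =>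
        intro w
        rw [pow_succ, Function.iterate_succ_apply]
        exact ih (g w)
    rw [h1, hg]
    rfl
  have key := Equiv.Perm.card_fixedPoints_modEq (f := f) (p := 3) (n := a) hf
  have hfp : Fintype.card (Function.fixedPoints f) = 1 := by
    rw [Fintype.card_eq_one_iff]
    refine ⟨⟨v0, (hfix v0).2 rfl⟩, ?_⟩
    rintro ⟨v, hv⟩
    exact Subtype.ext ((hfix v).1 hv)
  rw [hfp] at key
  rw [Nat.card_eq_fintype_card]
  exact key

namespace R2

variable {T : Type*} [Group T] [Finite T] {ψ : MulAut T}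

theorem exists_invol_pow (H : R2 ψ) {t : T} (ht : t ≠ 1) :
    ∃ n : ℕ, t ^ n * t ^ n = 1 ∧ t ^ n ≠ 1 := by
  have : Fact (Nat.Prime 2) := ⟨Nat.prime_two⟩
  obtain ⟨k, hk⟩ := (IsPGroup.iff_orderOf.1 H.two) t
  have hk0 : k ≠ 0 := by
    rintro rfl
    rw [pow_zero, orderOf_eq_one_iff] at hk
    exact ht hk
  obtain ⟨j, rfl⟩ := Nat.exists_eq_succ_of_ne_zero hk0
  refine ⟨2 ^ j, ?_, ?_⟩
  · rw [← pow_add, ← two_mul, ← pow_succ', ← hk]
    exact pow_orderOf_eq_one t
  · apply pow_ne_one_of_lt_orderOf (by positivity)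
    rw [hk]
    exact Nat.pow_lt_pow_right (by norm_num) (Nat.lt_succ_self j)

theorem fpf (H : R2 ψ) {t : T} (ht : ψ t = t) : t = 1 := by
  by_contra ht1
  obtain ⟨n, h1, h2⟩ := H.exists_invol_pow ht1
  exact h2 (H.mov _ h1 (by rw [map_pow, ht]))

theorem exists_invol (H : R2 ψ) : ∃ s : T, s * s = 1 ∧ s ≠ 1 := by
  by_contra hcon
  push Not at hcon
  have h1 : Nat.card {s : T // s * s = 1} = 1 := by
    rw [Nat.card_eq_one_iff_unique]
    refine ⟨⟨fun a b => Subtype.ext ?_⟩, ⟨⟨1, mul_one 1⟩⟩⟩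
    rw [hcon a.1 a.2, hcon b.1 b.2]
  rw [H.card] at h1
  omega

theorem card_invSub (H : R2 ψ) : Nat.card (invSub T H.cent) = 4 := H.card

theorem sq_psi (H : R2 ψ) {s : T} (hs : s * s = 1) : ψ s * ψ s = 1 := by
  rw [← map_mul, hs, map_one]

theorem psi_ne (H : R2 ψ) {s : T} (hs : s * s = 1) (hs1 : s ≠ 1) : ψ s ≠ s :=
  fun h => hs1 (H.mov s hs h)

theorem psi_ne_one (H : R2 ψ) {s : T} (hs1 : s ≠ 1) : ψ s ≠ 1 := by
  intro h
  apply hs1
  have : ψ s = ψ 1 := by rw [h, map_one]
  exact ψ.injective this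

theorem psi2_ne (H : R2 ψ) {s : T} (hs : s * s = 1) (hs1 : s ≠ 1) : ψ (ψ s) ≠ s := by
  intro h
  obtain ⟨a, ha⟩ := H.pow
  have hp2 : Function.IsPeriodicPt (⇑ψ) 2 s := h
  have hp3 : Function.IsPeriodicPt (⇑ψ) (3 ^ a) s := by
    show (⇑ψ)^[3 ^ a] s = s
    rw [← mulAut_pow_apply, ha]
    rfl
  have hg := hp2.gcd hp3
  have hco : Nat.gcd 2 (3 ^ a) = 1 := Nat.Coprime.pow_right a (by norm_num)
  rw [hco] at hg
  exact H.psi_ne hs hs1 hg

theorem inv_enum (H : R2 ψ) {s : T} (hs : s * s = 1) (hs1 : s ≠ 1) {z : T} (hz : z * z = 1) :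
    z = 1 ∨ z = s ∨ z = ψ s ∨ z = ψ (ψ s) := by
  have h1 := H.sq_psi hs
  have h2 := H.sq_psi h1
  have n1 := H.psi_ne_one hs1
  have n2 := H.psi_ne_one n1
  exact eq_of_card_four (Z := invSub T H.cent) H.card_invSub (Subgroup.one_mem _) hs h1 h2
    (Ne.symm hs1) (Ne.symm n1) (Ne.symm n2) (Ne.symm (H.psi_ne hs hs1))
    (Ne.symm (H.psi2_ne hs hs1)) (Ne.symm (H.psi_ne h1 n1)) hz

theorem psi3_inv (H : R2 ψ) {s : T} (hs : s * s = 1) : ψ (ψ (ψ s)) = s := by
  by_cases hs1 : s = 1
  · rw [hs1, map_one, map_one, map_one]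
  have h1 := H.sq_psi hs
  have h2 := H.sq_psi h1
  have h3 := H.sq_psi h2
  have n1 := H.psi_ne_one hs1
  have n2 := H.psi_ne_one n1
  have n3 := H.psi_ne_one n2
  rcases H.inv_enum hs hs1 h3 with h | h | h | h
  · exact absurd h n3
  · exact h
  · exact absurd (ψ.injective h) (H.psi2_ne hs hs1)
  · exact absurd (ψ.injective (ψ.injective h)) (H.psi_ne hs hs1)

theorem prod_inv (H : R2 ψ) {s : T} (hs : s * s = 1) : s * ψ s * ψ (ψ s) = 1 := by
  by_cases hs1 : s = 1
  · rw [hs1, map_one, map_one, mul_one, mul_one]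
  have h1 := H.sq_psi hs
  have h2 := H.sq_psi h1
  have n1 := H.psi_ne_one hs1
  have hp : (s * ψ s) * (s * ψ s) = 1 :=
    (mem_invSub H.cent _).1 ((invSub T H.cent).mul_mem hs h1)
  rcases H.inv_enum hs hs1 hp with h | h | h | h
  · -- `ψ s = s⁻¹ = s`
    exfalso
    have : ψ s = s := by
      have h' : s * ψ s = s * s := by rw [h, hs]
      exact mul_left_cancel h'
    exact H.psi_ne hs hs1 this
  · exfalso
    have : s * ψ s = s * 1 := by rw [h, mul_one]
    exact n1 (mul_left_cancel this)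
  · exfalso
    have : s * ψ s = 1 * ψ s := by rw [h, one_mul]
    exact hs1 (mul_right_cancel this)
  · rw [h]; exact h2

theorem le_of_invariant (H : R2 ψ) (S : Subgroup T) (hS : ∀ t ∈ S, ψ t ∈ S) (hne : S ≠ ⊥) :
    ∀ z : T, z * z = 1 → z ∈ S := by
  obtain ⟨t, ht1⟩ := (Subgroup.ne_bot_iff_exists_ne_one.1 hne)
  have ht1' : (t : T) ≠ 1 := fun h => ht1 (Subtype.ext h)
  obtain ⟨n, h1, h2⟩ := H.exists_invol_pow ht1'
  have hsS : (t : T) ^ n ∈ S := S.pow_mem t.2 n
  intro z hz
  rcases H.inv_enum h1 h2 hz with h | h | h | h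
  · rw [h]; exact S.one_mem
  · rw [h]; exact hsS
  · rw [h]; exact hS _ hsS
  · rw [h]; exact hS _ (hS _ hsS)

/-- `ψ` is fixed-point-free modulo the involutions. -/
theorem fpf_mod (H : R2 ψ) {t : T} (ht : (t⁻¹ * ψ t) * (t⁻¹ * ψ t) = 1) : t * t = 1 := by
  have hz1 := H.sq_psi ht
  have hp := H.prod_inv ht
  have e1 : (ψ (ψ (t⁻¹ * ψ t)))⁻¹ = (t⁻¹ * ψ t) * ψ (t⁻¹ * ψ t) :=
    (eq_inv_of_mul_eq_one_left hp).symm
  have e2 : (ψ (t⁻¹ * ψ t))⁻¹ = ψ (t⁻¹ * ψ t) := inv_eq_of_mul_eq_one_left hz1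
  have e3 : ψ (t * (ψ (t⁻¹ * ψ t))⁻¹) = t * (ψ (t⁻¹ * ψ t))⁻¹ := by
    rw [map_mul, map_inv, e1, e2]
    have : ψ t = t * (t⁻¹ * ψ t) := by group
    calc ψ t * ((t⁻¹ * ψ t) * ψ (t⁻¹ * ψ t))
        = t * ((t⁻¹ * ψ t) * (t⁻¹ * ψ t)) * ψ (t⁻¹ * ψ t) := by group
      _ = t * ψ (t⁻¹ * ψ t) := by rw [ht, mul_one]
  have e4 := H.fpf e3
  have e5 : t = ψ (t⁻¹ * ψ t) := by
    have := mul_inv_eq_one.1 e4
    exact this
  rw [e5]
  exact hz1

/-- Restriction to a nontrivial invariant subgroup. -/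
theorem exists_restrict (H : R2 ψ) (S : Subgroup T) (hS : ∀ t ∈ S, ψ t ∈ S) (hne : S ≠ ⊥) :
    ∃ ψ' : MulAut S, (∀ t : S, ((ψ' t : S) : T) = ψ t) ∧ R2 ψ' := by
  let φ : S →* S := (ψ.toMonoidHom.comp S.subtype).codRestrict S (fun t => hS t t.2)
  have hφ : ∀ t : S, ((φ t : S) : T) = ψ t := fun t => rfl
  have hinj : Function.Injective φ := by
    intro a b hab
    have := congrArg Subtype.val hab
    rw [hφ, hφ] at this
    exact Subtype.ext (ψ.injective this)
  have hbij : Function.Bijective φ := Finite.injective_iff_bijective.1 hinj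
  let ψ' : MulAut S := MulEquiv.ofBijective φ hbij
  have hψ' : ∀ t : S, ((ψ' t : S) : T) = ψ t := fun t => rfl
  have hiter : ∀ (n : ℕ) (t : S), (((⇑ψ')^[n] t : S) : T) = (⇑ψ)^[n] t := by
    intro n
    induction n with
    | zero => intro t; rfl
    | succ n ih =>
      intro t
      rw [Function.iterate_succ_apply, Function.iterate_succ_apply, ih, hψ']
  refine ⟨ψ', hψ', ?_⟩
  refine ⟨H.two.to_subgroup S, ?_, ?_, ?_, ?_⟩
  · intro s hs
    have hs' : (s : T) * (s : T) = 1 := by
      have := congrArg Subtype.val hs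
      exact this
    have hc := H.cent _ hs'
    rw [Subgroup.mem_center_iff]
    intro g
    apply Subtype.ext
    exact Subgroup.mem_center_iff.1 hc g
  · rw [← H.card]
    refine Nat.card_congr (Equiv.ofBijective
      (fun s : {s : S // s * s = 1} => (⟨(s.1 : T), by
        have := congrArg Subtype.val s.2
        exact this⟩ : {s : T // s * s = 1})) ⟨?_, ?_⟩)
    · intro a b hab
      have : ((a.1 : S) : T) = ((b.1 : S) : T) :=
        congrArg (fun x : {s : T // s * s = 1} => (x : T)) hab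
      exact Subtype.ext (Subtype.ext this)
    · rintro ⟨z, hz⟩
      have hzS := H.le_of_invariant S hS hne z hz
      exact ⟨⟨⟨z, hzS⟩, Subtype.ext hz⟩, rfl⟩
  · obtain ⟨a, ha⟩ := H.pow
    refine ⟨a, ?_⟩
    ext t
    rw [mulAut_pow_apply, hiter, ← mulAut_pow_apply, ha]
    rfl
  · intro s hs hfix
    have hs' : (s : T) * (s : T) = 1 := by
      have := congrArg Subtype.val hs
      exact this
    have hfix' : ψ (s : T) = s := by
      have := congrArg Subtype.val hfix
      rw [hψ'] at this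
      exact this
    exact Subtype.ext (H.mov _ hs' hfix')

/-- The key step: an automorphism `θ = f ^ 3` of order dividing three commuting with `ψ`,
trivial on the involutions and on every proper `ψ`-invariant subgroup, is trivial. -/
theorem core (H : R2 ψ) (θ f : MulAut T) (hfψ : ∀ t, f (ψ t) = ψ (f t))
    (hf3 : ∀ t, f (f (f t)) = θ t) (hθ3 : ∀ t, θ (θ (θ t)) = t)
    (hθsub : ∀ S : Subgroup T, (∀ t ∈ S, ψ t ∈ S) → S ≠ ⊤ → ∀ t ∈ S, θ t = t)
    (hθZ : ∀ s : T, s * s = 1 → θ s = s) : ∀ t : T, θ t = t := by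
  classical
  have : Fact (Nat.Prime 2) := ⟨Nat.prime_two⟩
  have hθψ : ∀ t, θ (ψ t) = ψ (θ t) := by
    intro t
    rw [← hf3, ← hf3, hfψ, hfψ, hfψ]
  -- the trick
  have htrick : ∀ t : T, θ (t⁻¹ * θ t) = t⁻¹ * θ t → θ t = t := by
    intro t hk
    obtain ⟨k, hkdef⟩ : ∃ k, k = t⁻¹ * θ t := ⟨_, rfl⟩
    rw [← hkdef] at hk
    have h1 : θ t = t * k := by rw [hkdef]; group
    have h2 : θ (θ t) = t * k * k := by rw [h1, map_mul, hk, h1]
    have h3 : θ (θ (θ t)) = t * k * k * k := by rw [h2, map_mul, map_mul, hk, h1]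
    rw [hθ3] at h3
    have h4 : k ^ 3 = 1 := by
      have : t * (k * k * k) = t * 1 := by
        rw [mul_one]
        calc t * (k * k * k) = t * k * k * k := by group
          _ = t := h3.symm
      have h5 := mul_left_cancel this
      rw [pow_succ, pow_two]; exact h5
    obtain ⟨j, hj⟩ := (IsPGroup.iff_orderOf.1 H.two) k
    have hdvd : orderOf k ∣ 3 := orderOf_dvd_of_pow_eq_one h4
    have hj0 : j = 0 := by
      by_contra hj0
      have h2dvd : 2 ∣ orderOf k := by rw [hj]; exact dvd_pow_self 2 hj0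
      have := dvd_trans h2dvd hdvd
      omega
    rw [hj0, pow_zero, orderOf_eq_one_iff] at hj
    rw [h1, hj, mul_one]
  -- (a) the subgroup generated by the `t⁻¹ θ(t)`
  obtain ⟨G, hGdef⟩ : ∃ G : Subgroup T, G = Subgroup.closure {g | ∃ t : T, g = t⁻¹ * θ t} :=
    ⟨_, rfl⟩
  have hGgen : ∀ t : T, t⁻¹ * θ t ∈ G := fun t => by
    rw [hGdef]; exact Subgroup.subset_closure ⟨t, rfl⟩
  have hGψ : ∀ g ∈ G, ψ g ∈ G := by
    intro g hg
    rw [hGdef] at hg
    refine Subgroup.closure_induction (p := fun g _ => ψ g ∈ G) ?_ ?_ ?_ ?_ hg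
    · rintro g ⟨t, rfl⟩
      have : ψ (t⁻¹ * θ t) = (ψ t)⁻¹ * θ (ψ t) := by rw [map_mul, map_inv, hθψ]
      rw [this]
      exact hGgen (ψ t)
    · rw [map_one]; exact G.one_mem
    · intro x y _ _ hx hy
      rw [map_mul]; exact G.mul_mem hx hy
    · intro x _ hx
      rw [map_inv]; exact G.inv_mem hx
  by_cases hG : G = ⊤
  swap
  · intro t
    exact htrick t (hθsub G hGψ hG _ (hGgen t))
  -- (b) the subgroup generated by squares and commutators
  obtain ⟨A, hAdef⟩ : ∃ A : Subgroup T, A = Subgroup.closure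
      ({g | ∃ x : T, g = x * x} ∪ {g | ∃ x y : T, g = x * y * x⁻¹ * y⁻¹}) := ⟨_, rfl⟩
  have hsqA : ∀ x : T, x * x ∈ A := fun x => by
    rw [hAdef]; exact Subgroup.subset_closure (Or.inl ⟨x, rfl⟩)
  have hcmA : ∀ x y : T, x * y * x⁻¹ * y⁻¹ ∈ A := fun x y => by
    rw [hAdef]; exact Subgroup.subset_closure (Or.inr ⟨x, y, rfl⟩)
  have hAψ : ∀ u ∈ A, ψ u ∈ A := by
    intro u hu
    rw [hAdef] at hu
    refine Subgroup.closure_induction (p := fun g _ => ψ g ∈ A) ?_ ?_ ?_ ?_ hu
    · rintro g (⟨x, rfl⟩ | ⟨x, y, rfl⟩)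
      · rw [map_mul]; exact hsqA (ψ x)
      · rw [map_mul, map_mul, map_mul, map_inv, map_inv]; exact hcmA (ψ x) (ψ y)
    · rw [map_one]; exact A.one_mem
    · intro x y _ _ hx hy
      rw [map_mul]; exact A.mul_mem hx hy
    · intro x _ hx
      rw [map_inv]; exact A.inv_mem hx
  have hAtop : A ≠ ⊤ := by
    obtain ⟨m, hm⟩ := IsPGroup.iff_card.1 H.two
    have hm0 : m ≠ 0 := by
      rintro rfl
      rw [pow_zero] at hm
      obtain ⟨s, hs, hs1⟩ := H.exists_invol
      have hsub : Subsingleton T := (Nat.card_eq_one_iff_unique.1 hm).1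
      exact hs1 (Subsingleton.elim _ _)
    obtain ⟨j, rfl⟩ := Nat.exists_eq_succ_of_ne_zero hm0
    obtain ⟨M, hM⟩ := Sylow.exists_subgroup_card_pow_prime (G := T) 2 (n := j)
      (by rw [hm]; exact pow_dvd_pow 2 (Nat.le_succ j))
    have hidx : M.index = 2 := by
      have h1 := M.card_mul_index
      rw [hM, hm, pow_succ] at h1
      exact Nat.eq_of_mul_eq_mul_left (by positivity) h1
    have hAM : A ≤ M := by
      rw [hAdef, Subgroup.closure_le]
      rintro g (⟨x, rfl⟩ | ⟨x, y, rfl⟩)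
      · exact Subgroup.mul_self_mem_of_index_two hidx x
      · have : x * y * x⁻¹ * y⁻¹ = (x * y) * (y * x)⁻¹ := by group
        show x * y * x⁻¹ * y⁻¹ ∈ M
        rw [this, Subgroup.mul_mem_iff_of_index_two hidx, Subgroup.inv_mem_iff,
          Subgroup.mul_mem_iff_of_index_two hidx, Subgroup.mul_mem_iff_of_index_two hidx]
        tauto
    intro hA
    rw [hA] at hAM
    have : M = ⊤ := top_le_iff.1 hAM
    rw [this, Subgroup.index_top] at hidx
    omega
  have hθA : ∀ u ∈ A, θ u = u := hθsub A hAψ hAtop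
  -- (c) `A` is central
  have hAc : ∀ u ∈ A, ∀ g : T, g * u = u * g := by
    intro u hu
    have key : ∀ g ∈ G, g * u = u * g := by
      intro g hg
      rw [hGdef] at hg
      refine Subgroup.closure_induction (p := fun g _ => g * u = u * g) ?_ ?_ ?_ ?_ hg
      · rintro g ⟨t, rfl⟩
        have h1 : t * u * t⁻¹ ∈ A := by
          have : t * u * t⁻¹ = (t * u * t⁻¹ * u⁻¹) * u := by group
          rw [this]
          exact A.mul_mem (hcmA t u) hu
        have h2 := hθA _ h1
        rw [map_mul, map_mul, map_inv, hθA u hu] at h2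
        calc t⁻¹ * θ t * u = t⁻¹ * (θ t * u * (θ t)⁻¹) * θ t := by group
          _ = t⁻¹ * (t * u * t⁻¹) * θ t := by rw [h2]
          _ = u * (t⁻¹ * θ t) := by group
      · rw [one_mul, mul_one]
      · intro x y _ _ hx hy
        calc x * y * u = x * (y * u) := by group
          _ = x * (u * y) := by rw [hy]
          _ = (x * u) * y := by group
          _ = (u * x) * y := by rw [hx]
          _ = u * (x * y) := by group
      · intro x _ hx
        calc x⁻¹ * u = x⁻¹ * (u * x) * x⁻¹ := by group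
          _ = x⁻¹ * (x * u) * x⁻¹ := by rw [hx]
          _ = u * x⁻¹ := by group
    intro g
    exact key g (by rw [hG]; exact Subgroup.mem_top g)
  -- (d) commutators are involutions and fourth powers are trivial
  have hcc : ∀ x y : T, (x * y * x⁻¹ * y⁻¹) * (x * y * x⁻¹ * y⁻¹) = 1 := by
    intro x y
    have h1 := hAc _ (hcmA x y) x
    have h2 := hAc _ (hsqA x) y
    calc (x * y * x⁻¹ * y⁻¹) * (x * y * x⁻¹ * y⁻¹)
        = (x * y * x⁻¹ * y⁻¹) * x * y * x⁻¹ * y⁻¹ := by group
      _ = x * (x * y * x⁻¹ * y⁻¹) * y * x⁻¹ * y⁻¹ := by rw [h1]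
      _ = (x * x) * y * (x * x)⁻¹ * y⁻¹ := by group
      _ = y * (x * x) * (x * x)⁻¹ * y⁻¹ := by rw [h2]
      _ = 1 := by group
  have hq : ∀ a b : T, (a * b) * (a * b) * ((a * b) * (a * b))
      = (a * a) * (a * a) * ((b * b) * (b * b)) := by
    intro a b
    have hc := hcc b a
    have hc1 := hAc _ (hcmA b a) a
    have h1 : (a * b) * (a * b) = (b * a * b⁻¹ * a⁻¹) * ((a * a) * (b * b)) := by
      calc (a * b) * (a * b) = a * (b * a * b⁻¹ * a⁻¹) * a * b * b := by group
        _ = (b * a * b⁻¹ * a⁻¹) * a * a * b * b := by rw [hc1]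
        _ = (b * a * b⁻¹ * a⁻¹) * ((a * a) * (b * b)) := by group
    rw [h1]
    have hc2 := hAc _ (hcmA b a) ((a * a) * (b * b))
    have h3 := hAc _ (hsqA a) (b * b)
    calc (b * a * b⁻¹ * a⁻¹) * ((a * a) * (b * b)) * ((b * a * b⁻¹ * a⁻¹) * ((a * a) * (b * b)))
        = (b * a * b⁻¹ * a⁻¹) * (((a * a) * (b * b)) * (b * a * b⁻¹ * a⁻¹))
          * ((a * a) * (b * b)) := by group
      _ = (b * a * b⁻¹ * a⁻¹) * ((b * a * b⁻¹ * a⁻¹) * ((a * a) * (b * b)))
          * ((a * a) * (b * b)) := by rw [hc2]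
      _ = ((b * a * b⁻¹ * a⁻¹) * (b * a * b⁻¹ * a⁻¹)) * ((a * a) * ((b * b) * (a * a)) * (b * b)) := by
          group
      _ = (a * a) * ((a * a) * (b * b)) * (b * b) := by rw [hc, one_mul, h3]
      _ = (a * a) * (a * a) * ((b * b) * (b * b)) := by group
  let P4 : T →* T :=
    { toFun := fun x => (x * x) * (x * x)
      map_one' := by simp
      map_mul' := hq }
  have hP4 : ∀ x, P4 x = (x * x) * (x * x) := fun x => rfl
  have h4 : ∀ x : T, (x * x) * (x * x) = 1 := by
    intro x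
    have hx : x ∈ G := by rw [hG]; exact Subgroup.mem_top x
    have hle : G ≤ P4.ker := by
      rw [hGdef, Subgroup.closure_le]
      rintro g ⟨t, rfl⟩
      show P4 (t⁻¹ * θ t) = 1
      rw [map_mul, map_inv, hP4, hP4]
      have h5 : (θ t * θ t) * (θ t * θ t) = θ ((t * t) * (t * t)) := by simp only [map_mul]
      rw [h5, hθA _ (A.mul_mem (hsqA t) (hsqA t))]
      group
    exact hle hx
  -- (e) the bound
  have hcard : Nat.card T ≤ 128 :=
    aniso_card_le (invSub T H.cent)
      (fun z hz t => (Subgroup.mem_center_iff.1 (H.cent z hz) t).symm)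
      H.card_invSub (fun z hz => hz) (fun t ht => ht) (fun t => h4 t) (fun s t => hcc s t)
  -- (f) the action on the quotient by the involutions
  obtain ⟨Z, hZdef⟩ : ∃ Z : Subgroup T, Z = invSub T H.cent := ⟨_, rfl⟩
  have hZmem : ∀ z : T, z ∈ Z ↔ z * z = 1 := fun z => by rw [hZdef]; rfl
  have hZcard : Nat.card Z = 4 := by rw [hZdef]; exact H.card_invSub
  have hZn : Z.Normal := ⟨fun z hz g => by
    have h1 := Subgroup.mem_center_iff.1 (H.cent z ((hZmem z).1 hz)) g
    have : g * z * g⁻¹ = z := by rw [h1]; group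
    rw [this]; exact hz⟩
  have hZmap : ∀ φ : MulAut T, Z ≤ Z.comap φ.toMonoidHom := by
    intro φ z hz
    show φ z ∈ Z
    rw [hZmem, ← map_mul, (hZmem z).1 hz, map_one]
  obtain ⟨bar, hbar⟩ : ∃ bar : MulAut T → (T ⧸ Z →* T ⧸ Z),
      ∀ (φ : MulAut T) (t : T), bar φ (QuotientGroup.mk t) = QuotientGroup.mk (φ t) :=
    ⟨fun φ => QuotientGroup.map Z Z φ.toMonoidHom (hZmap φ), fun φ t => rfl⟩
  have hbf3 : ∀ v, bar f (bar f (bar f v)) = bar θ v := by
    intro v
    induction v using QuotientGroup.induction_on with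
    | H t => rw [hbar, hbar, hbar, hbar, hf3]
  have hbθ3 : ∀ v, bar θ (bar θ (bar θ v)) = v := by
    intro v
    induction v using QuotientGroup.induction_on with
    | H t => rw [hbar, hbar, hbar, hθ3]
  have hbθψ : ∀ v, bar θ (bar ψ v) = bar ψ (bar θ v) := by
    intro v
    induction v using QuotientGroup.induction_on with
    | H t => rw [hbar, hbar, hbar, hbar, hθψ]
  have hbfθ : ∀ v, bar θ (bar f v) = bar f (bar θ v) := by
    intro v
    rw [← hbf3, ← hbf3]
  have hbf9 : ∀ v, (bar f)^[9] v = v := by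
    intro v
    show bar f (bar f (bar f (bar f (bar f (bar f (bar f (bar f (bar f v)))))))) = v
    rw [hbf3, hbf3, hbf3, hbθ3]
  have hbfinj : Function.Injective (bar f) := by
    intro x y hxy
    have hx := hbf9 x
    have hy := hbf9 y
    rw [Function.iterate_succ_apply] at hx hy
    rw [← hx, ← hy, hxy]
  have hψfix : ∀ v, bar ψ v = v ↔ v = 1 := by
    intro v
    constructor
    · induction v using QuotientGroup.induction_on with
      | H t =>
        intro h
        rw [hbar] at h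
        have h1 : t⁻¹ * ψ t ∈ Z := QuotientGroup.eq.1 h.symm
        have h2 := H.fpf_mod ((hZmem _).1 h1)
        exact (QuotientGroup.eq_one_iff t).2 ((hZmem t).2 h2)
    · rintro rfl
      exact map_one _
  obtain ⟨a, ha⟩ := H.pow
  have hbiter : ∀ (n : ℕ) (t : T), (bar ψ)^[n] (QuotientGroup.mk t)
      = QuotientGroup.mk ((⇑ψ)^[n] t) := by
    intro n
    induction n with
    | zero => intro t; rfl
    | succ n ih =>
      intro t
      rw [Function.iterate_succ_apply, Function.iterate_succ_apply, hbar, ih]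
  have hψpow : ∀ v, (bar ψ)^[3 ^ a] v = v := by
    intro v
    induction v using QuotientGroup.induction_on with
    | H t =>
      rw [hbiter, ← mulAut_pow_apply, ha]
      rfl
  have hV3 : Nat.card (T ⧸ Z) % 3 = 1 := card_mod_three_of_fpf (bar ψ) a hψpow 1 hψfix
  -- the fixed points of `θ` on the quotient
  obtain ⟨W, hWdef⟩ : ∃ W : Subgroup (T ⧸ Z), W = MonoidHom.eqLocus (bar θ) (MonoidHom.id _) :=
    ⟨_, rfl⟩
  have hWmem : ∀ v, v ∈ W ↔ bar θ v = v := fun v => by rw [hWdef]; rfl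
  have hWψ : ∀ v ∈ W, bar ψ v ∈ W := by
    intro v hv
    rw [hWmem] at hv ⊢
    rw [hbθψ, hv]
  have hW3 : Nat.card W % 3 = 1 := by
    have hiter : ∀ (n : ℕ) (w : W),
        (((fun w : W => (⟨bar ψ w, hWψ w w.2⟩ : W))^[n] w : W) : T ⧸ Z) = (bar ψ)^[n] w := by
      intro n
      induction n with
      | zero => intro w; rfl
      | succ n ih =>
        intro w
        rw [Function.iterate_succ_apply, Function.iterate_succ_apply, ih]
    refine card_mod_three_of_fpf (fun w : W => (⟨bar ψ w, hWψ w w.2⟩ : W)) a ?_ 1 ?_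
    · intro w
      apply Subtype.ext
      rw [hiter, hψpow]
    · intro w
      constructor
      · intro h
        have h1 : bar ψ (w : T ⧸ Z) = w := congrArg Subtype.val h
        exact Subtype.ext ((hψfix _).1 h1)
      · rintro rfl
        apply Subtype.ext
        exact map_one _
  -- the complement
  have hXf : ∀ v : T ⧸ Z, bar θ v ≠ v → bar θ (bar f v) ≠ bar f v := by
    intro v hv h
    rw [hbfθ] at h
    exact hv (hbfinj h)
  let fX : {v : T ⧸ Z // bar θ v ≠ v} → {v : T ⧸ Z // bar θ v ≠ v} :=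
    fun v => ⟨bar f v.1, hXf v.1 v.2⟩
  have hfXiter : ∀ (n : ℕ) (x : {v : T ⧸ Z // bar θ v ≠ v}),
      ((fX^[n] x : {v : T ⧸ Z // bar θ v ≠ v}) : T ⧸ Z) = (bar f)^[n] x := by
    intro n
    induction n with
    | zero => intro x; rfl
    | succ n ih =>
      intro x
      rw [Function.iterate_succ_apply, Function.iterate_succ_apply, ih]
  have h9 : 9 ∣ Nat.card {v : T ⧸ Z // bar θ v ≠ v} := by
    refine nine_dvd_card fX ?_ ?_
    · intro x
      apply Subtype.ext
      rw [hfXiter, hbf9]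
    · intro x h
      have h1 := congrArg Subtype.val h
      rw [hfXiter] at h1
      have h2 : bar f (bar f (bar f (x : T ⧸ Z))) = x := h1
      rw [hbf3] at h2
      exact x.2 h2
  have hsplit : Nat.card (T ⧸ Z) = Nat.card W + Nat.card {v : T ⧸ Z // bar θ v ≠ v} := by
    have e := (Equiv.sumCompl (fun v : T ⧸ Z => bar θ v = v)).symm
    rw [Nat.card_congr e, Nat.card_sum]
    congr 1
    exact Nat.card_congr (Equiv.subtypeEquivRight (fun v => (hWmem v).symm))
  have hcardT : Nat.card T = Nat.card (T ⧸ Z) * 4 := by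
    rw [Subgroup.card_eq_card_quotient_mul_card_subgroup Z, hZcard]
  have hX0 : Nat.card {v : T ⧸ Z // bar θ v ≠ v} = 0 := by
    obtain ⟨m, hm⟩ := IsPGroup.iff_card.1 H.two
    have hVdvd : Nat.card (T ⧸ Z) ∣ 2 ^ m := by
      rw [← hm, hcardT]; exact dvd_mul_right _ _
    obtain ⟨j, -, hj⟩ := (Nat.dvd_prime_pow Nat.prime_two).1 hVdvd
    have hWdvd : Nat.card W ∣ 2 ^ j := by
      rw [← hj]; exact Subgroup.card_subgroup_dvd_card W
    obtain ⟨i, hij, hi⟩ := (Nat.dvd_prime_pow Nat.prime_two).1 hWdvd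
    have hj5 : j ≤ 5 := by
      by_contra hcon
      have h6 : 2 ^ 6 ≤ 2 ^ j := Nat.pow_le_pow_right (by norm_num) (by omega)
      rw [hcardT, hj] at hcard
      omega
    obtain ⟨k, hk⟩ := h9
    rw [hj, hi, hk] at hsplit
    rw [hj] at hV3
    rw [hi] at hW3
    rw [hk]
    interval_cases j <;> interval_cases i <;> omega
  have hall : ∀ v : T ⧸ Z, bar θ v = v := by
    intro v
    by_contra hv
    have hfin : Finite {v : T ⧸ Z // bar θ v ≠ v} := inferInstance
    rcases Nat.card_eq_zero.1 hX0 with h | h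
    · exact h.false ⟨v, hv⟩
    · exact not_finite {v : T ⧸ Z // bar θ v ≠ v}
  intro t
  apply htrick
  have h1 := hall (QuotientGroup.mk t)
  rw [hbar] at h1
  have h2 : t⁻¹ * θ t ∈ Z := QuotientGroup.eq.1 h1.symm
  exact hθZ _ ((hZmem _).1 h2)

theorem cube_aux : ∀ (n : ℕ) (T : Type u) [Group T] [Finite T] (ψ : MulAut T),
    Nat.card T = n → R2 ψ → ∀ t : T, ψ (ψ (ψ t)) = t := by
  intro n
  induction n using Nat.strong_induction_on with
  | _ n ih =>
    intro T _ _ ψ hn H
    have hsub : ∀ S : Subgroup T, (∀ t ∈ S, ψ t ∈ S) → S ≠ ⊤ →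
        ∀ t ∈ S, ψ (ψ (ψ t)) = t := by
      intro S hS hStop t ht
      by_cases hSbot : S = ⊥
      · rw [hSbot, Subgroup.mem_bot] at ht
        rw [ht, map_one, map_one, map_one]
      obtain ⟨ψ', hψ', H'⟩ := H.exists_restrict S hS hSbot
      have hlt : Nat.card S < n := by
        rw [← hn]
        by_contra hcon
        have hle := Subgroup.card_le_card_group S
        exact hStop (Subgroup.eq_top_of_card_eq S (by omega))
      have h1 := ih (Nat.card S) hlt S ψ' rfl H' ⟨t, ht⟩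
      have h2 := congrArg Subtype.val h1
      rw [hψ', hψ', hψ'] at h2
      exact h2
    have hpow3 : ∀ (k : ℕ) (t : T), (ψ ^ 3 ^ (k + 1)) t
        = (ψ ^ 3 ^ k) ((ψ ^ 3 ^ k) ((ψ ^ 3 ^ k) t)) := by
      intro k t
      have : ψ ^ 3 ^ (k + 1) = ψ ^ 3 ^ k * (ψ ^ 3 ^ k * ψ ^ 3 ^ k) := by
        rw [← pow_add, ← pow_add, pow_succ]
        congr 1
        ring
      rw [this, MulAut.mul_apply, MulAut.mul_apply]
    have hcommψ : ∀ (k : ℕ) (t : T), (ψ ^ k) (ψ t) = ψ ((ψ ^ k) t) := by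
      intro k t
      have h1 : (ψ ^ k) (ψ t) = (ψ ^ (k + 1)) t := by rw [pow_succ, MulAut.mul_apply]
      have h2 : ψ ((ψ ^ k) t) = (ψ ^ (k + 1)) t := by rw [pow_succ', MulAut.mul_apply]
      rw [h1, h2]
    have hone : ∀ t : T, (ψ ^ 3 ^ 0) t = ψ t := by
      intro t
      rw [pow_zero, pow_one]
    have hθsub : ∀ (k : ℕ) (S : Subgroup T), (∀ t ∈ S, ψ t ∈ S) → S ≠ ⊤ →
        ∀ t ∈ S, (ψ ^ 3 ^ (k + 1)) t = t := by
      intro k
      induction k with
      | zero =>
        intro S hS hStop t ht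
        rw [hpow3, hone, hone, hone]
        exact hsub S hS hStop t ht
      | succ k ihk =>
        intro S hS hStop t ht
        rw [hpow3, ihk S hS hStop t ht, ihk S hS hStop t ht, ihk S hS hStop t ht]
    have hθZ : ∀ (k : ℕ) (s : T), s * s = 1 → (ψ ^ 3 ^ (k + 1)) s = s := by
      intro k
      induction k with
      | zero =>
        intro s hs
        rw [hpow3, hone, hone, hone]
        exact H.psi3_inv hs
      | succ k ihk =>
        intro s hs
        rw [hpow3, ihk s hs, ihk s hs, ihk s hs]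
    have hstep : ∀ d : ℕ, ψ ^ 3 ^ (d + 2) = 1 → ψ ^ 3 ^ (d + 1) = 1 := by
      intro d hd
      have hc := H.core (ψ ^ 3 ^ (d + 1)) (ψ ^ 3 ^ d) (hcommψ _)
        (fun t => (hpow3 d t).symm)
        (fun t => by
          rw [← hpow3 (d + 1) t, hd]
          rfl)
        (hθsub d) (hθZ d)
      ext t
      rw [hc t]
      rfl
    have hkey : ∀ d : ℕ, ψ ^ 3 ^ (d + 1) = 1 → ψ ^ 3 ^ 1 = 1 := by
      intro d
      induction d with
      | zero => exact id
      | succ d ihd =>
        intro h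
        exact ihd (hstep d h)
    obtain ⟨a, ha⟩ := H.pow
    have h31 : ψ ^ 3 ^ 1 = 1 := by
      cases a with
      | zero =>
        exfalso
        rw [pow_zero, pow_one] at ha
        obtain ⟨s, hs, hs1⟩ := H.exists_invol
        exact hs1 (H.mov s hs (by rw [ha]; rfl))
      | succ d => exact hkey d ha
    intro t
    have h1 := hpow3 0 t
    rw [hone, hone, hone, h31] at h1
    exact h1.symm

/-- **The automorphism has order three.** -/
theorem cube (H : R2 ψ) : ∀ t : T, ψ (ψ (ψ t)) = t :=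
  cube_aux (Nat.card T) T ψ rfl H

end R2

end Cfsg.Agent.Helper50
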