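import Mathlib
import Cfsg.Agent.Helper50.R2b

/-!
# The abelian case of `R2`

An abelian 2-group with exactly three involutions and an automorphism of `3`-power order moving
each of them is homocyclic of rank two.
-/

set_option autoImplicit false
set_option linter.unusedSectionVars false
set_option linter.unusedVariables false

namespace Cfsg.Agent.Helper50

/-- A subtype all of whose elements are one of two given ones has at most two elements. -/
theorem card_le_two_of {X : Type*} (P : X → Prop) (a b : X) (h : ∀ x, P x → x = a ∨ x = b) :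
    Nat.card {x // P x} ≤ 2 := by
  have h1 : {x | P x} ⊆ ({a, b} : Set X) := by
    intro x hx
    rcases h x hx with h | h
    · exact Or.inl h
    · exact Or.inr h
  have h2 : Nat.card {x // P x} = Set.ncard {x | P x} := Nat.card_coe_set_eq _
  rw [h2]
  calc Set.ncard {x | P x} ≤ Set.ncard ({a, b} : Set X) := Set.ncard_le_ncard h1 (Set.toFinite _)
    _ ≤ Set.ncard ({b} : Set X) + 1 := Set.ncard_insert_le _ _
    _ = 2 := by rw [Set.ncard_singleton]

/-- A subtype all of whose elements are one of three given ones has at most three elements. -/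
theorem card_le_three_of {X : Type*} (P : X → Prop) (a b c : X)
    (h : ∀ x, P x → x = a ∨ x = b ∨ x = c) : Nat.card {x // P x} ≤ 3 := by
  have h1 : {x | P x} ⊆ ({a, b, c} : Set X) := by
    intro x hx
    rcases h x hx with h | h | h
    · exact Or.inl h
    · exact Or.inr (Or.inl h)
    · exact Or.inr (Or.inr h)
  have h2 : Nat.card {x // P x} = Set.ncard {x | P x} := Nat.card_coe_set_eq _
  rw [h2]
  have h3 : Set.ncard ({b, c} : Set X) ≤ 2 := by
    calc Set.ncard ({b, c} : Set X) ≤ Set.ncard ({c} : Set X) + 1 := Set.ncard_insert_le _ _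
      _ = 2 := by rw [Set.ncard_singleton]
  calc Set.ncard {x | P x} ≤ Set.ncard ({a, b, c} : Set X) :=
        Set.ncard_le_ncard h1 (Set.toFinite _)
    _ ≤ Set.ncard ({b, c} : Set X) + 1 := Set.ncard_insert_le _ _
    _ ≤ 3 := by omega

/-- In an abelian group with four elements of square one, a subgroup of exponent dividing `2 ^ n`
has at most `4 ^ n` elements. -/
theorem card_le_four_pow {T : Type*} [CommGroup T] [Finite T]
    (h4 : Nat.card {s : T // s * s = 1} = 4) :
    ∀ (n : ℕ) (S : Subgroup T), (∀ s ∈ S, s ^ 2 ^ n = 1) → Nat.card S ≤ 4 ^ n := by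
  intro n
  induction n with
  | zero =>
    intro S hS
    have : S = ⊥ := by
      rw [Subgroup.eq_bot_iff_forall]
      intro s hs
      have := hS s hs
      simpa using this
    rw [this, Subgroup.card_bot]
    norm_num
  | succ n ih =>
    intro S hS
    let f : S →* T := (powMonoidHom 2).comp S.subtype
    have hf : ∀ s : S, f s = (s : T) ^ 2 := fun s => rfl
    have hrange : Nat.card f.range ≤ 4 ^ n := by
      apply ih
      rintro _ ⟨s, rfl⟩
      rw [hf, ← pow_mul, ← pow_succ']
      exact hS s s.2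
    have hker : Nat.card f.ker ≤ 4 := by
      rw [← h4]
      refine Nat.card_le_card_of_injective
        (fun k : f.ker => (⟨((k : S) : T), by
          have := k.2
          rw [MonoidHom.mem_ker, hf, pow_two] at this
          exact this⟩ : {s : T // s * s = 1})) ?_
      intro a b hab
      have : ((a : S) : T) = ((b : S) : T) :=
        congrArg (fun x : {s : T // s * s = 1} => (x : T)) hab
      exact Subtype.ext (Subtype.ext this)
    have hcard : Nat.card S = Nat.card f.ker * Nat.card f.range := by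
      rw [Subgroup.card_eq_card_quotient_mul_card_subgroup f.ker,
        Nat.card_congr (QuotientGroup.quotientKerEquivRange f).toEquiv, mul_comm]
    rw [hcard, pow_succ]
    calc Nat.card f.ker * Nat.card f.range ≤ 4 * 4 ^ n := Nat.mul_le_mul hker hrange
      _ = 4 ^ n * 4 := by ring

/-- The unique involution of a cyclic 2-group. -/
theorem eq_pow_of_mem_zpowers {T : Type*} [Group T] {x : T} {n : ℕ} (hn : 1 ≤ n)
    (hx : orderOf x = 2 ^ n) {g : T} (hg : g ∈ Subgroup.zpowers x) (hg2 : g * g = 1)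
    (hg1 : g ≠ 1) : g = x ^ 2 ^ (n - 1) := by
  have hfin : IsOfFinOrder x := by
    rw [← orderOf_pos_iff, hx]; positivity
  obtain ⟨e, rfl⟩ : ∃ e : ℕ, x ^ e = g :=
    (Submonoid.mem_powers_iff _ _).1 (hfin.mem_powers_iff_mem_zpowers.2 hg)
  have h2e : x ^ (2 * e) = 1 := by rw [two_mul, pow_add]; exact hg2
  have hdvd : 2 ^ n ∣ 2 * e := by rw [← hx]; exact orderOf_dvd_of_pow_eq_one h2e
  obtain ⟨n', rfl⟩ : ∃ n', n = n' + 1 := ⟨n - 1, by omega⟩
  rw [pow_succ, mul_comm] at hdvd
  have hdvd' : 2 ^ n' ∣ e := Nat.dvd_of_mul_dvd_mul_left (by norm_num) hdvd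
  obtain ⟨m, rfl⟩ := hdvd'
  have hz2 : (x ^ 2 ^ n') ^ 2 = 1 := by
    rw [← pow_mul, ← pow_succ, ← hx]; exact pow_orderOf_eq_one x
  rw [Nat.add_sub_cancel]
  rw [pow_mul] at hg1 ⊢
  rcases Nat.even_or_odd' m with ⟨k, rfl | rfl⟩
  · exfalso; apply hg1; rw [pow_mul, hz2, one_pow]
  · rw [pow_succ, pow_mul, hz2, one_pow, one_mul]

/-- **The abelian case**: `T ≅ Z_{2^n} × Z_{2^n}`. -/
theorem R2.abelian {T : Type*} [CommGroup T] [Finite T] {ψ : MulAut T} (H : R2 ψ) :
    ∃ n : ℕ, 1 ≤ n ∧ Nonempty (T ≃* Multiplicative (ZMod (2 ^ n) × ZMod (2 ^ n))) := by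
  classical
  obtain ⟨x, hxmax⟩ := Finite.exists_max (fun t : T => orderOf t)
  obtain ⟨n, hn⟩ := (IsPGroup.iff_orderOf.1 H.two) x
  have hexp : ∀ t : T, t ^ 2 ^ n = 1 := by
    intro t
    obtain ⟨k, hk⟩ := (IsPGroup.iff_orderOf.1 H.two) t
    have hle := hxmax t
    rw [hk, hn] at hle
    have hkn : k ≤ n := (Nat.pow_le_pow_iff_right (by norm_num)).1 hle
    obtain ⟨d, rfl⟩ := Nat.exists_eq_add_of_le hkn
    rw [pow_add, pow_mul, ← hk, pow_orderOf_eq_one, one_pow]
  have hn1 : 1 ≤ n := by
    by_contra hcon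
    have hn0 : n = 0 := by omega
    obtain ⟨s, hs, hs1⟩ := H.exists_invol
    have := hexp s
    rw [hn0, pow_zero, pow_one] at this
    exact hs1 this
  refine ⟨n, hn1, ?_⟩
  have hcardT : Nat.card T ≤ 4 ^ n := by
    have := card_le_four_pow H.card n ⊤ (fun s _ => hexp s)
    rwa [Subgroup.card_top] at this
  obtain ⟨y, hy⟩ : ∃ y, y = ψ x := ⟨_, rfl⟩
  have hoy : orderOf y = 2 ^ n := by rw [hy, MulEquiv.orderOf_eq, hn]
  have hN : NeZero (2 ^ n) := ⟨by positivity⟩
  have hind : ∀ a b : ℕ, x ^ a * y ^ b = 1 → 2 ^ n ∣ a ∧ 2 ^ n ∣ b := by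
    intro a b hab
    by_cases hg : x ^ a = 1
    · rw [hg, one_mul] at hab
      exact ⟨hn ▸ orderOf_dvd_of_pow_eq_one hg, hoy ▸ orderOf_dvd_of_pow_eq_one hab⟩
    · exfalso
      obtain ⟨g, hgdef⟩ : ∃ g, g = x ^ a := ⟨_, rfl⟩
      rw [← hgdef] at hg hab
      have hgx : g ∈ Subgroup.zpowers x := by
        rw [hgdef]; exact Subgroup.pow_mem _ (Subgroup.mem_zpowers x) a
      have hgy : g ∈ Subgroup.zpowers y := by
        have : g = (y ^ b)⁻¹ := eq_inv_of_mul_eq_one_left hab
        rw [this]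
        exact Subgroup.inv_mem _ (Subgroup.pow_mem _ (Subgroup.mem_zpowers y) b)
      obtain ⟨k, hk⟩ := (IsPGroup.iff_orderOf.1 H.two) g
      have hk0 : k ≠ 0 := by
        rintro rfl
        rw [pow_zero, orderOf_eq_one_iff] at hk
        exact hg hk
      obtain ⟨j, rfl⟩ := Nat.exists_eq_succ_of_ne_zero hk0
      obtain ⟨h, hhdef⟩ : ∃ h, h = g ^ 2 ^ j := ⟨_, rfl⟩
      have hh2 : h * h = 1 := by
        rw [hhdef, ← pow_add, ← two_mul, ← pow_succ', ← hk]; exact pow_orderOf_eq_one g
      have hh1 : h ≠ 1 := by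
        intro h1
        rw [hhdef] at h1
        have h2 := orderOf_dvd_of_pow_eq_one h1
        rw [hk] at h2
        have h3 := Nat.le_of_dvd (by positivity) h2
        have h4 : 2 ^ j < 2 ^ (j + 1) := Nat.pow_lt_pow_right (by norm_num) (by omega)
        omega
      have hhx : h = x ^ 2 ^ (n - 1) :=
        eq_pow_of_mem_zpowers hn1 hn (by rw [hhdef]; exact Subgroup.pow_mem _ hgx _) hh2 hh1
      have hhy : h = y ^ 2 ^ (n - 1) :=
        eq_pow_of_mem_zpowers hn1 hoy (by rw [hhdef]; exact Subgroup.pow_mem _ hgy _) hh2 hh1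
      have hfix : ψ h = h := by
        conv_lhs => rw [hhx]
        rw [map_pow, ← hy, ← hhy]
      exact hh1 (H.mov h hh2 hfix)
  have hpmx : ∀ k : ℕ, x ^ (k % 2 ^ n) = x ^ k := fun k => by
    have := pow_mod_orderOf x k
    rwa [hn] at this
  have hpmy : ∀ k : ℕ, y ^ (k % 2 ^ n) = y ^ k := fun k => by
    have := pow_mod_orderOf y k
    rwa [hoy] at this
  let F : Multiplicative (ZMod (2 ^ n) × ZMod (2 ^ n)) →* T :=
    MonoidHom.mk'
      (fun p => x ^ (Multiplicative.toAdd p).1.val * y ^ (Multiplicative.toAdd p).2.val) (by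
      intro p q
      have hx : ∀ a b : ZMod (2 ^ n), x ^ (a + b).val = x ^ a.val * x ^ b.val := by
        intro a b
        rw [ZMod.val_add, hpmx, pow_add]
      have hy' : ∀ a b : ZMod (2 ^ n), y ^ (a + b).val = y ^ a.val * y ^ b.val := by
        intro a b
        rw [ZMod.val_add, hpmy, pow_add]
      show x ^ (Multiplicative.toAdd (p * q)).1.val * y ^ (Multiplicative.toAdd (p * q)).2.val
        = x ^ (Multiplicative.toAdd p).1.val * y ^ (Multiplicative.toAdd p).2.val
          * (x ^ (Multiplicative.toAdd q).1.val * y ^ (Multiplicative.toAdd q).2.val)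
      rw [toAdd_mul, Prod.fst_add, Prod.snd_add, hx, hy']
      exact mul_mul_mul_comm _ _ _ _)
  have hFinj : Function.Injective F := by
    rw [injective_iff_map_eq_one]
    intro p hp
    have hp' : x ^ (Multiplicative.toAdd p).1.val * y ^ (Multiplicative.toAdd p).2.val = 1 := hp
    obtain ⟨h1, h2⟩ := hind _ _ hp'
    have e1 : (Multiplicative.toAdd p).1 = 0 := by
      rw [← ZMod.val_eq_zero]
      exact Nat.eq_zero_of_dvd_of_lt h1 (ZMod.val_lt _)
    have e2 : (Multiplicative.toAdd p).2 = 0 := by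
      rw [← ZMod.val_eq_zero]
      exact Nat.eq_zero_of_dvd_of_lt h2 (ZMod.val_lt _)
    apply Multiplicative.toAdd.injective
    exact Prod.ext e1 e2
  have hcardM : Nat.card (Multiplicative (ZMod (2 ^ n) × ZMod (2 ^ n))) = 4 ^ n := by
    rw [Nat.card_congr Multiplicative.toAdd, Nat.card_prod, Nat.card_zmod, ← mul_pow]
    norm_num
  have hbij : Function.Bijective F :=
    hFinj.bijective_of_nat_card_le (by rw [hcardM]; exact hcardT)
  exact ⟨(MulEquiv.ofBijective F hbij).symm⟩

end Cfsg.Agent.Helper50
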