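import Mathlib
import Cfsg.Agent.Helper50.Burn3
import Cfsg.Agent.Helper50.R2c

/-!
# 2-groups with a fixed-point-free automorphism of order three and a commuting involutory
automorphism with exactly four fixed points

`A6 α ρ` : `T` is a 2-group, `ρ³ = 1` without nontrivial fixed points, `α² = 1`, `αρ = ρα` and
`α` has exactly four fixed points.  This file: basic facts, central quotients, the abelian case.
-/

set_option autoImplicit false
set_option linter.unusedSectionVars false
set_option linter.unusedVariables false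

open scoped commutatorElement

namespace Cfsg.Agent.Helper50

/-- The fixed points of an automorphism. -/
def fixSub {T : Type*} [Group T] (α : MulAut T) : Subgroup T where
  carrier := {t | α t = t}
  one_mem' := map_one α
  mul_mem' := by
    intro a b ha hb
    show α (a * b) = a * b
    rw [map_mul, show α a = a from ha, show α b = b from hb]
  inv_mem' := by
    intro a ha
    show α a⁻¹ = a⁻¹
    rw [map_inv, show α a = a from ha]

theorem mem_fixSub {T : Type*} [Group T] (α : MulAut T) (t : T) : t ∈ fixSub α ↔ α t = t :=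
  Iff.rfl

/-- An involutory automorphism of a 2-group has a nontrivial fixed point on every nontrivial
invariant subgroup. -/
theorem exists_fixed_ne_one {T : Type*} [Group T] [Finite T] (hT : IsPGroup 2 T) (α : MulAut T)
    (hsq : ∀ t, α (α t) = t) (S : Subgroup T) (hS : ∀ s ∈ S, α s ∈ S) (hne : S ≠ ⊥) :
    ∃ s ∈ S, s ≠ 1 ∧ α s = s := by
  have : Fact (Nat.Prime 2) := ⟨Nat.prime_two⟩
  have key := card_modEq_card_fixed (α := S) (fun s => ⟨α s, hS s s.2⟩) 2
    (fun a => Subtype.ext (by
      show α (α (a : T)) = a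
      exact hsq a))
  by_contra hcon
  push Not at hcon
  have hfix : Nat.card {a : S // (⟨α a, hS a a.2⟩ : S) = a} = 1 := by
    rw [Nat.card_eq_one_iff_unique]
    refine ⟨⟨?_⟩, ⟨⟨1, Subtype.ext (by simp)⟩⟩⟩
    rintro ⟨a, ha⟩ ⟨b, hb⟩
    have ha' : (a : T) = 1 := by
      by_contra h1
      exact hcon a a.2 h1 (congrArg Subtype.val ha)
    have hb' : (b : T) = 1 := by
      by_contra h1
      exact hcon b b.2 h1 (congrArg Subtype.val hb)
    exact Subtype.ext (Subtype.ext (ha'.trans hb'.symm))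
  rw [hfix] at key
  obtain ⟨k, hk⟩ := IsPGroup.iff_card.1 (hT.to_subgroup S)
  have hk0 : k ≠ 0 := by
    rintro rfl
    rw [pow_zero] at hk
    exact hne (Subgroup.card_eq_one.1 hk)
  rw [hk] at key
  obtain ⟨j, rfl⟩ := Nat.exists_eq_succ_of_ne_zero hk0
  rw [pow_succ] at key
  unfold Nat.ModEq at key
  omega

/-- `ρ` is fixed-point-free of order three, `α` a commuting involutory automorphism with four
fixed points, on a 2-group. -/
structure A6 {T : Type*} [Group T] (α ρ : MulAut T) : Prop where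
  two : IsPGroup 2 T
  fp : Fpf3 ρ
  sq : ∀ t : T, α (α t) = t
  comm : ∀ t : T, α (ρ t) = ρ (α t)
  card : Nat.card {t : T // α t = t} = 4

namespace A6

variable {T : Type*} [Group T] [Finite T] {α ρ : MulAut T}

theorem card_fixSub (H : A6 α ρ) : Nat.card (fixSub α) = 4 := H.card

theorem rho_fix (H : A6 α ρ) {t : T} (ht : α t = t) : α (ρ t) = ρ t := by rw [H.comm, ht]

theorem exists_fix (H : A6 α ρ) : ∃ e : T, α e = e ∧ e ≠ 1 := by
  have h1 : 1 < Nat.card (fixSub α) := by rw [H.card_fixSub]; norm_num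
  have hnt : Nontrivial (fixSub α) := Finite.one_lt_card_iff_nontrivial.1 h1
  obtain ⟨⟨e, he⟩, he1⟩ := exists_ne (1 : fixSub α)
  exact ⟨e, he, fun h => he1 (Subtype.ext h)⟩

theorem fix_enum (H : A6 α ρ) {e : T} (he : α e = e) (he1 : e ≠ 1) {z : T} (hz : α z = z) :
    z = 1 ∨ z = e ∨ z = ρ e ∨ z = ρ (ρ e) := by
  have h1 := H.rho_fix he
  have h2 := H.rho_fix h1
  have n1 : ρ e ≠ 1 := fun h => he1 (ρ.injective (h.trans (map_one ρ).symm))
  have n2 : ρ (ρ e) ≠ 1 := fun h => n1 (ρ.injective (h.trans (map_one ρ).symm))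
  have d1 : ρ e ≠ e := fun h => he1 (H.fp.fpf e h)
  have d2 : ρ (ρ e) ≠ ρ e := fun h => n1 (H.fp.fpf _ h)
  have d3 : ρ (ρ e) ≠ e := by
    intro h
    have h3 := congrArg ρ h
    rw [H.fp.cube] at h3
    exact d1 h3.symm
  exact eq_of_card_four (Z := fixSub α) H.card_fixSub (Subgroup.one_mem _) he h1 h2
    (Ne.symm he1) (Ne.symm n1) (Ne.symm n2) (Ne.symm d1) (Ne.symm d3) (Ne.symm d2) hz

/-- The fixed points of `α` lie in every nontrivial invariant subgroup. -/
theorem le_of_invariant (H : A6 α ρ) (S : Subgroup T) (hα : ∀ s ∈ S, α s ∈ S)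
    (hρ : ∀ s ∈ S, ρ s ∈ S) (hne : S ≠ ⊥) : fixSub α ≤ S := by
  obtain ⟨s, hs, hs1, hfix⟩ := exists_fixed_ne_one H.two α H.sq S hα hne
  intro z hz
  rcases H.fix_enum hfix hs1 hz with h | h | h | h
  · rw [h]; exact S.one_mem
  · rw [h]; exact hs
  · rw [h]; exact hρ _ hs
  · rw [h]; exact hρ _ (hρ _ hs)

theorem nontrivial (H : A6 α ρ) : Nontrivial T := by
  obtain ⟨e, -, he1⟩ := H.exists_fix
  exact ⟨⟨e, 1, he1⟩⟩

theorem fix_central (H : A6 α ρ) {v : T} (hv : α v = v) : v ∈ Subgroup.center T := by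
  have : Fact (Nat.Prime 2) := ⟨Nat.prime_two⟩
  have := H.nontrivial
  have hZnt : Nontrivial (Subgroup.center T) := H.two.center_nontrivial
  have hne : Subgroup.center T ≠ ⊥ := (Subgroup.nontrivial_iff_ne_bot _).1 hZnt
  exact H.le_of_invariant _ (fun s hs => mulAut_mem_center α hs)
    (fun s hs => mulAut_mem_center ρ hs) hne hv

theorem fix_sq (H : A6 α ρ) {v : T} (hv : α v = v) : v * v = 1 := by
  obtain ⟨e, he, he1⟩ := H.exists_fix
  obtain ⟨m, hm1, hm2⟩ := exists_pow_invol H.two he1
  have he' : α (e ^ m) = e ^ m := by rw [map_pow, he]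
  have sρ : ∀ x : T, x * x = 1 → ρ x * ρ x = 1 := fun x hx => by rw [← map_mul, hx, map_one]
  rcases H.fix_enum he' hm1 hv with h | h | h | h
  · rw [h, mul_one]
  · rw [h]; exact hm2
  · rw [h]; exact sρ _ hm2
  · rw [h]; exact sρ _ (sρ _ hm2)

/-- Quotients by invariant central subgroups. -/
theorem quot (H : A6 α ρ) (N : Subgroup T) [N.Normal] (hNc : N ≤ Subgroup.center T)
    (hα : ∀ t, α t ∈ N ↔ t ∈ N) (hρ : ∀ t, ρ t ∈ N ↔ t ∈ N) (hne : N ≠ ⊤) :
    A6 (quotAut N α hα) (quotAut N ρ hρ) := by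
  have : Fact (Nat.Prime 2) := ⟨Nat.prime_two⟩
  have hfp := H.fp.quot N hρ
  have hsq : ∀ v : T ⧸ N, quotAut N α hα (quotAut N α hα v) = v := by
    intro v
    induction v using QuotientGroup.induction_on with
    | H t => rw [quotAut_mk, quotAut_mk, H.sq]
  have hcomm : ∀ v : T ⧸ N,
      quotAut N α hα (quotAut N ρ hρ v) = quotAut N ρ hρ (quotAut N α hα v) := by
    intro v
    induction v using QuotientGroup.induction_on with
    | H t => rw [quotAut_mk, quotAut_mk, quotAut_mk, quotAut_mk, H.comm]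
  have htwo : IsPGroup 2 (T ⧸ N) := H.two.to_quotient N
  refine ⟨htwo, hfp, hsq, hcomm, ?_⟩
  obtain ⟨F, hF⟩ : ∃ F : Subgroup (T ⧸ N), F = fixSub (quotAut N α hα) := ⟨_, rfl⟩
  have hFmem : ∀ v, v ∈ F ↔ quotAut N α hα v = v := fun v => by rw [hF]; rfl
  have hFcard : Nat.card {v : T ⧸ N // quotAut N α hα v = v} = Nat.card F := by rw [hF]; rfl
  rw [hFcard]
  have hQnt : (⊤ : Subgroup (T ⧸ N)) ≠ ⊥ := by
    intro h
    apply hne
    rw [eq_top_iff]
    intro t _
    have h1 : (QuotientGroup.mk t : T ⧸ N) ∈ (⊤ : Subgroup (T ⧸ N)) := Subgroup.mem_top _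
    rw [h, Subgroup.mem_bot] at h1
    exact (QuotientGroup.eq_one_iff t).1 h1
  obtain ⟨s, -, hs1, hsfix⟩ := exists_fixed_ne_one htwo (quotAut N α hα) hsq ⊤
    (fun _ _ => Subgroup.mem_top _) hQnt
  have hFne : F ≠ ⊥ := by
    intro h
    have h1 : s ∈ F := (hFmem s).2 hsfix
    rw [h, Subgroup.mem_bot] at h1
    exact hs1 h1
  have hFρ : ∀ v ∈ F, quotAut N ρ hρ v ∈ F := by
    intro v hv
    rw [hFmem] at hv ⊢
    rw [hcomm, hv]
  have hmod := fpf3_card_mod hfp F hFρ
  have hle : Nat.card F ≤ 4 := by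
    obtain ⟨Z2, hZ2⟩ : ∃ Z2 : Subgroup T, Z2 = F.comap (QuotientGroup.mk' N) := ⟨_, rfl⟩
    have hZ2mem : ∀ t : T, t ∈ Z2 ↔ t⁻¹ * α t ∈ N := by
      intro t
      rw [hZ2, Subgroup.mem_comap, hFmem]
      show quotAut N α hα (QuotientGroup.mk t) = QuotientGroup.mk t ↔ _
      rw [quotAut_mk]
      constructor
      · intro h; exact QuotientGroup.eq.1 h.symm
      · intro h; exact (QuotientGroup.eq.2 h).symm
    let δ : Z2 →* N :=
      { toFun := fun t => ⟨(t : T)⁻¹ * α t, (hZ2mem t).1 t.2⟩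
        map_one' := Subtype.ext (by simp)
        map_mul' := by
          intro a b
          apply Subtype.ext
          show ((a : T) * b)⁻¹ * α ((a : T) * b) = ((a : T)⁻¹ * α a) * ((b : T)⁻¹ * α b)
          have hc := Subgroup.mem_center_iff.1 (hNc ((hZ2mem a).1 a.2)) (b : T)⁻¹
          rw [map_mul, mul_inv_rev]
          calc (b : T)⁻¹ * (a : T)⁻¹ * (α a * α b)
              = ((b : T)⁻¹ * ((a : T)⁻¹ * α a)) * α b := by group
            _ = (((a : T)⁻¹ * α a) * (b : T)⁻¹) * α b := by rw [hc]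
            _ = ((a : T)⁻¹ * α a) * ((b : T)⁻¹ * α b) := by group }
    have hker : Nat.card δ.ker ≤ 4 := by
      rw [← H.card]
      refine Nat.card_le_card_of_injective
        (fun k : δ.ker => (⟨((k : Z2) : T), by
          have h1 := k.2
          rw [MonoidHom.mem_ker] at h1
          have h2 : ((k : Z2) : T)⁻¹ * α ((k : Z2) : T) = 1 := congrArg Subtype.val h1
          exact (inv_mul_eq_one.1 h2).symm⟩ : {t : T // α t = t})) ?_
      intro a b hab
      have h3 : ((a : Z2) : T) = ((b : Z2) : T) :=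
        congrArg (fun x : {t : T // α t = t} => (x : T)) hab
      exact Subtype.ext (Subtype.ext h3)
    have hrange : Nat.card δ.range ≤ Nat.card N := Subgroup.card_le_card_group _
    have hZ2card : Nat.card Z2 = Nat.card δ.ker * Nat.card δ.range := by
      rw [Subgroup.card_eq_card_quotient_mul_card_subgroup δ.ker,
        Nat.card_congr (QuotientGroup.quotientKerEquivRange δ).toEquiv, mul_comm]
    have hidx : Z2.index = F.index := by
      rw [hZ2]
      exact Subgroup.index_comap_of_surjective F (QuotientGroup.mk'_surjective N)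
    have h1 := Z2.card_mul_index
    have h2 := F.card_mul_index
    have h3 := Subgroup.card_eq_card_quotient_mul_card_subgroup N
    have hidx0 : 0 < F.index := Nat.pos_of_ne_zero Subgroup.index_ne_zero_of_finite
    have hN0 : 0 < Nat.card N := Nat.card_pos
    have h4 : Nat.card Z2 = Nat.card F * Nat.card N := by
      have h5 : Nat.card Z2 * F.index = Nat.card F * Nat.card N * F.index := by
        calc Nat.card Z2 * F.index = Nat.card Z2 * Z2.index := by rw [hidx]
          _ = Nat.card T := h1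
          _ = Nat.card (T ⧸ N) * Nat.card N := h3
          _ = (Nat.card F * F.index) * Nat.card N := by rw [h2]
          _ = Nat.card F * Nat.card N * F.index := by ring
      exact Nat.eq_of_mul_eq_mul_right hidx0 h5
    have h5 : Nat.card F * Nat.card N ≤ 4 * Nat.card N := by
      rw [← h4, hZ2card]; exact Nat.mul_le_mul hker hrange
    exact Nat.le_of_mul_le_mul_right h5 hN0
  obtain ⟨k, hk⟩ := IsPGroup.iff_card.1 (htwo.to_subgroup F)
  have hk0 : k ≠ 0 := by
    rintro rfl
    rw [pow_zero] at hk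
    exact hFne (Subgroup.card_eq_one.1 hk)
  rw [hk] at hle hmod ⊢
  have hk3 : k < 3 := by
    by_contra hcon
    have : 2 ^ 3 ≤ 2 ^ k := Nat.pow_le_pow_right (by norm_num) (by omega)
    omega
  interval_cases k <;> omega

end A6

end Cfsg.Agent.Helper50
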