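import Mathlib
import Cfsg.Agent.Helper50.A6a

/-!
# The abelian case of `A6`, and generation of rank-two homocyclic groups
-/

set_option autoImplicit false
set_option linter.unusedSectionVars false
set_option linter.unusedVariables false

open scoped commutatorElement

namespace Cfsg.Agent.Helper50

/-- In the abelian case of `R2` the group is generated by an element and its image. -/
theorem R2.abelian_gen {T : Type*} [CommGroup T] [Finite T] {ψ : MulAut T} (H : R2 ψ) :
    ∃ x : T, ∀ t : T, ∃ a b : ℕ, t = x ^ a * (ψ x) ^ b := by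
  classical
  obtain ⟨x, hxmax⟩ := Finite.exists_max (fun t : T => orderOf t)
  obtain ⟨n, hn⟩ := (IsPGroup.iff_orderOf.1 H.two) x
  have hexp : ∀ t : T, t ^ 2 ^ n = 1 := by
    intro t
    obtain ⟨k, hk⟩ := (IsPGroup.iff_orderOf.1 H.two) t
    have hle := hxmax t
    rw [hk, hn] at hle
    have hkn : k ≤ n := (Nat.pow_le_pow_iff_right (by norm_num)).1 hle
    obtain ⟨d, rfl⟩ := Nat.exists_eq_add_of_le hkn
    rw [pow_add, pow_mul, ← hk, pow_orderOf_eq_one, one_pow]
  have hn1 : 1 ≤ n := by
    by_contra hcon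
    have hn0 : n = 0 := by omega
    obtain ⟨s, hs, hs1⟩ := H.exists_invol
    have := hexp s
    rw [hn0, pow_zero, pow_one] at this
    exact hs1 this
  have hcardT : Nat.card T ≤ 4 ^ n := by
    have := card_le_four_pow H.card n ⊤ (fun s _ => hexp s)
    rwa [Subgroup.card_top] at this
  obtain ⟨y, hy⟩ : ∃ y, y = ψ x := ⟨_, rfl⟩
  have hoy : orderOf y = 2 ^ n := by rw [hy, MulEquiv.orderOf_eq, hn]
  have hN : NeZero (2 ^ n) := ⟨by positivity⟩
  have hind : ∀ a b : ℕ, x ^ a * y ^ b = 1 → 2 ^ n ∣ a ∧ 2 ^ n ∣ b := by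
    intro a b hab
    by_cases hg : x ^ a = 1
    · rw [hg, one_mul] at hab
      exact ⟨hn ▸ orderOf_dvd_of_pow_eq_one hg, hoy ▸ orderOf_dvd_of_pow_eq_one hab⟩
    · exfalso
      obtain ⟨g, hgdef⟩ : ∃ g, g = x ^ a := ⟨_, rfl⟩
      rw [← hgdef] at hg hab
      have hgx : g ∈ Subgroup.zpowers x := by
        rw [hgdef]; exact Subgroup.pow_mem _ (Subgroup.mem_zpowers x) a
      have hgy : g ∈ Subgroup.zpowers y := by
        have : g = (y ^ b)⁻¹ := eq_inv_of_mul_eq_one_left hab
        rw [this]
        exact Subgroup.inv_mem _ (Subgroup.pow_mem _ (Subgroup.mem_zpowers y) b)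
      obtain ⟨k, hk⟩ := (IsPGroup.iff_orderOf.1 H.two) g
      have hk0 : k ≠ 0 := by
        rintro rfl
        rw [pow_zero, orderOf_eq_one_iff] at hk
        exact hg hk
      obtain ⟨j, rfl⟩ := Nat.exists_eq_succ_of_ne_zero hk0
      obtain ⟨h, hhdef⟩ : ∃ h, h = g ^ 2 ^ j := ⟨_, rfl⟩
      have hh2 : h * h = 1 := by
        rw [hhdef, ← pow_add, ← two_mul, ← pow_succ', ← hk]; exact pow_orderOf_eq_one g
      have hh1 : h ≠ 1 := by
        intro h1
        rw [hhdef] at h1
        have h2 := orderOf_dvd_of_pow_eq_one h1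
        rw [hk] at h2
        have h3 := Nat.le_of_dvd (by positivity) h2
        have h4 : 2 ^ j < 2 ^ (j + 1) := Nat.pow_lt_pow_right (by norm_num) (by omega)
        omega
      have hhx : h = x ^ 2 ^ (n - 1) :=
        eq_pow_of_mem_zpowers hn1 hn (by rw [hhdef]; exact Subgroup.pow_mem _ hgx _) hh2 hh1
      have hhy : h = y ^ 2 ^ (n - 1) :=
        eq_pow_of_mem_zpowers hn1 hoy (by rw [hhdef]; exact Subgroup.pow_mem _ hgy _) hh2 hh1
      have hfix : ψ h = h := by
        conv_lhs => rw [hhx]
        rw [map_pow, ← hy, ← hhy]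
      exact hh1 (H.mov h hh2 hfix)
  have hpmx : ∀ k : ℕ, x ^ (k % 2 ^ n) = x ^ k := fun k => by
    have := pow_mod_orderOf x k
    rwa [hn] at this
  have hpmy : ∀ k : ℕ, y ^ (k % 2 ^ n) = y ^ k := fun k => by
    have := pow_mod_orderOf y k
    rwa [hoy] at this
  let F : Multiplicative (ZMod (2 ^ n) × ZMod (2 ^ n)) →* T :=
    MonoidHom.mk'
      (fun p => x ^ (Multiplicative.toAdd p).1.val * y ^ (Multiplicative.toAdd p).2.val) (by
      intro p q
      have hx : ∀ a b : ZMod (2 ^ n), x ^ (a + b).val = x ^ a.val * x ^ b.val := by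
        intro a b
        rw [ZMod.val_add, hpmx, pow_add]
      have hy' : ∀ a b : ZMod (2 ^ n), y ^ (a + b).val = y ^ a.val * y ^ b.val := by
        intro a b
        rw [ZMod.val_add, hpmy, pow_add]
      show x ^ (Multiplicative.toAdd (p * q)).1.val * y ^ (Multiplicative.toAdd (p * q)).2.val
        = x ^ (Multiplicative.toAdd p).1.val * y ^ (Multiplicative.toAdd p).2.val
          * (x ^ (Multiplicative.toAdd q).1.val * y ^ (Multiplicative.toAdd q).2.val)
      rw [toAdd_mul, Prod.fst_add, Prod.snd_add, hx, hy']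
      exact mul_mul_mul_comm _ _ _ _)
  have hFinj : Function.Injective F := by
    rw [injective_iff_map_eq_one]
    intro p hp
    have hp' : x ^ (Multiplicative.toAdd p).1.val * y ^ (Multiplicative.toAdd p).2.val = 1 := hp
    obtain ⟨h1, h2⟩ := hind _ _ hp'
    have e1 : (Multiplicative.toAdd p).1 = 0 := by
      rw [← ZMod.val_eq_zero]
      exact Nat.eq_zero_of_dvd_of_lt h1 (ZMod.val_lt _)
    have e2 : (Multiplicative.toAdd p).2 = 0 := by
      rw [← ZMod.val_eq_zero]
      exact Nat.eq_zero_of_dvd_of_lt h2 (ZMod.val_lt _)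
    apply Multiplicative.toAdd.injective
    exact Prod.ext e1 e2
  have hcardM : Nat.card (Multiplicative (ZMod (2 ^ n) × ZMod (2 ^ n))) = 4 ^ n := by
    rw [Nat.card_congr Multiplicative.toAdd, Nat.card_prod, Nat.card_zmod, ← mul_pow]
    norm_num
  have hbij : Function.Bijective F :=
    hFinj.bijective_of_nat_card_le (by rw [hcardM]; exact hcardT)
  refine ⟨x, fun t => ?_⟩
  obtain ⟨p, hp⟩ := hbij.2 t
  refine ⟨(Multiplicative.toAdd p).1.val, (Multiplicative.toAdd p).2.val, ?_⟩
  rw [← hy]
  exact hp.symm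

namespace A6

variable {T : Type*} [Group T] [Finite T] {α ρ : MulAut T}

/-- **The abelian case**: elementary abelian of order 16, or of rank two. -/
theorem abelian (H : A6 α ρ) (hab : ∀ a b : T, a * b = b * a) :
    ((∀ t : T, t * t = 1) ∧ Nat.card T = 16) ∨ R2 ρ := by
  have : Fact (Nat.Prime 2) := ⟨Nat.prime_two⟩
  have hcent : ∀ s : T, s * s = 1 → s ∈ Subgroup.center T := fun s _ =>
    Subgroup.mem_center_iff.2 (fun g => hab g s)
  obtain ⟨Ω, hΩ⟩ : ∃ Ω : Subgroup T, Ω = invSub T hcent := ⟨_, rfl⟩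
  have hΩmem : ∀ s : T, s ∈ Ω ↔ s * s = 1 := fun s => by rw [hΩ]; rfl
  have hVΩ : fixSub α ≤ Ω := fun v hv => (hΩmem v).2 (H.fix_sq hv)
  have hΩle : Nat.card Ω ≤ 16 := by
    let μ : Ω →* fixSub α :=
      { toFun := fun s => ⟨(s : T) * α s, by
          show α ((s : T) * α s) = (s : T) * α s
          rw [map_mul, H.sq, hab]⟩
        map_one' := Subtype.ext (by simp)
        map_mul' := by
          intro a b
          apply Subtype.ext
          show ((a : T) * b) * α ((a : T) * b) = ((a : T) * α a) * ((b : T) * α b)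
          rw [map_mul]
          calc (a : T) * b * (α a * α b) = a * (b * α a) * α b := by group
            _ = a * (α a * b) * α b := by rw [hab (b : T) (α a)]
            _ = ((a : T) * α a) * ((b : T) * α b) := by group }
    have hker : Nat.card μ.ker ≤ 4 := by
      rw [← H.card]
      refine Nat.card_le_card_of_injective
        (fun k : μ.ker => (⟨((k : Ω) : T), by
          have h1 := k.2
          rw [MonoidHom.mem_ker] at h1
          have h2 : ((k : Ω) : T) * α ((k : Ω) : T) = 1 := congrArg Subtype.val h1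
          have h3 : ((k : Ω) : T) * ((k : Ω) : T) = 1 := (hΩmem _).1 (k : Ω).2
          have h4 : α ((k : Ω) : T) = ((k : Ω) : T)⁻¹ := eq_inv_of_mul_eq_one_right h2
          have h5 : ((k : Ω) : T)⁻¹ = ((k : Ω) : T) := inv_eq_of_mul_eq_one_left h3
          rw [h4, h5]⟩ : {t : T // α t = t})) ?_
      intro a b hab'
      have h3 : ((a : Ω) : T) = ((b : Ω) : T) :=
        congrArg (fun x : {t : T // α t = t} => (x : T)) hab'
      exact Subtype.ext (Subtype.ext h3)
    have hrange : Nat.card μ.range ≤ 4 := by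
      have := Subgroup.card_le_card_group μ.range
      rw [H.card_fixSub] at this
      exact this
    have hc : Nat.card Ω = Nat.card μ.ker * Nat.card μ.range := by
      rw [Subgroup.card_eq_card_quotient_mul_card_subgroup μ.ker,
        Nat.card_congr (QuotientGroup.quotientKerEquivRange μ).toEquiv, mul_comm]
    rw [hc]
    calc Nat.card μ.ker * Nat.card μ.range ≤ 4 * 4 := Nat.mul_le_mul hker hrange
      _ = 16 := by norm_num
  have hΩρ : ∀ s ∈ Ω, ρ s ∈ Ω := fun s hs => by
    rw [hΩmem] at hs ⊢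
    rw [← map_mul, hs, map_one]
  have hΩmod := fpf3_card_mod H.fp Ω hΩρ
  have hΩge : 4 ≤ Nat.card Ω := by
    have := Subgroup.card_le_of_le hVΩ
    rw [H.card_fixSub] at this
    exact this
  obtain ⟨k, hk⟩ := IsPGroup.iff_card.1 (H.two.to_subgroup Ω)
  have hΩ416 : Nat.card Ω = 4 ∨ Nat.card Ω = 16 := by
    rw [hk] at hΩle hΩmod hΩge ⊢
    have hk5 : k < 5 := by
      by_contra hcon
      have : 2 ^ 5 ≤ 2 ^ k := Nat.pow_le_pow_right (by norm_num) (by omega)
      omega
    interval_cases k <;> omega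
  rcases hΩ416 with h4 | h16
  · right
    refine ⟨H.two, hcent, ?_, ⟨1, ?_⟩, fun s _ hfix => H.fp.fpf s hfix⟩
    · rw [← h4, hΩ]; rfl
    · ext t
      show (ρ ^ 3 ^ 1) t = t
      rw [pow_one, pow_succ, pow_two]
      exact H.fp.cube t
  · left
    by_contra hcon
    have hex : ∃ t₀ : T, t₀ * t₀ ≠ 1 := by
      by_contra hall
      push Not at hall
      apply hcon
      refine ⟨hall, ?_⟩
      have : Ω = ⊤ := by
        rw [eq_top_iff]; intro t _; exact (hΩmem t).2 (hall t)
      rw [← h16, this, Subgroup.card_top]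
    obtain ⟨t₀, ht₀⟩ := hex
    let K : Subgroup T :=
      { carrier := {x | α x = x⁻¹}
        one_mem' := by show α 1 = 1⁻¹; rw [map_one, inv_one]
        mul_mem' := by
          intro a b ha hb
          show α (a * b) = (a * b)⁻¹
          rw [map_mul, show α a = a⁻¹ from ha, show α b = b⁻¹ from hb, mul_inv_rev, hab]
        inv_mem' := by
          intro a ha
          show α a⁻¹ = a⁻¹⁻¹
          rw [map_inv, show α a = a⁻¹ from ha] }
    have hKmem : ∀ x, x ∈ K ↔ α x = x⁻¹ := fun x => Iff.rfl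
    let d : T →* T :=
      { toFun := fun x => x⁻¹ * α x
        map_one' := by simp
        map_mul' := by
          intro a b
          rw [map_mul, mul_inv_rev]
          calc b⁻¹ * a⁻¹ * (α a * α b) = b⁻¹ * (a⁻¹ * α a) * α b := by group
            _ = (a⁻¹ * α a) * b⁻¹ * α b := by rw [hab b⁻¹ (a⁻¹ * α a)]
            _ = a⁻¹ * α a * (b⁻¹ * α b) := by group }
    have hd : ∀ x, d x = x⁻¹ * α x := fun x => rfl
    have hDK : d.range ≤ K := by
      rintro _ ⟨x, rfl⟩
      rw [hKmem, hd, map_mul, map_inv, H.sq, mul_inv_rev, inv_inv]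
    have hdker : Nat.card d.ker = 4 := by
      rw [← H.card]
      refine Nat.card_congr (Equiv.subtypeEquivRight (fun x => ?_))
      rw [MonoidHom.mem_ker, hd, inv_mul_eq_one]
      exact eq_comm
    have hTcard : Nat.card T = 4 * Nat.card d.range := by
      rw [Subgroup.card_eq_card_quotient_mul_card_subgroup d.ker,
        Nat.card_congr (QuotientGroup.quotientKerEquivRange d).toEquiv, hdker, mul_comm]
    have hKtop : K ≠ ⊤ := by
      intro hK
      have hle : Ω ≤ fixSub α := by
        intro s hs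
        have h1 : α s = s⁻¹ := (hKmem s).1 (by rw [hK]; exact Subgroup.mem_top s)
        show α s = s
        rw [h1]; exact inv_eq_of_mul_eq_one_left ((hΩmem s).1 hs)
      have := Subgroup.card_le_of_le hle
      rw [H.card_fixSub, h16] at this
      omega
    have hKρ : ∀ x ∈ K, ρ x ∈ K := by
      intro x hx
      rw [hKmem] at hx ⊢
      rw [H.comm, hx, map_inv]
    have hDρ : ∀ x ∈ d.range, ρ x ∈ d.range := by
      rintro _ ⟨x, rfl⟩
      refine ⟨ρ x, ?_⟩
      rw [hd, hd, map_mul, map_inv, H.comm]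
    have hKmod := fpf3_card_mod H.fp K hKρ
    have hDmod := fpf3_card_mod H.fp d.range hDρ
    have hKD : d.range = K := by
      apply Subgroup.eq_of_le_of_card_ge hDK
      obtain ⟨i, hi⟩ := IsPGroup.iff_card.1 (H.two.to_subgroup K)
      obtain ⟨j, hj⟩ := IsPGroup.iff_card.1 (H.two.to_subgroup d.range)
      have hlt : Nat.card K < Nat.card T := by
        by_contra hcon2
        exact hKtop (Subgroup.eq_top_of_card_eq K
          (le_antisymm (Subgroup.card_le_card_group K) (not_lt.1 hcon2)))
      have hle := Subgroup.card_le_of_le hDK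
      rw [hTcard, hi, hj] at hlt
      rw [hi, hj] at hle ⊢
      rw [hi] at hKmod
      rw [hj] at hDmod
      have hji : j ≤ i := (Nat.pow_le_pow_iff_right (by norm_num)).1 hle
      have hij : i < j + 2 := by
        have h1 : 2 ^ i < 2 ^ (j + 2) := by rw [pow_add]; omega
        exact (Nat.pow_lt_pow_iff_right (by norm_num)).1 h1
      have h2 : i = j ∨ i = j + 1 := by omega
      rcases h2 with h | h
      · rw [h]
      · exfalso
        rw [h, pow_succ] at hKmod
        omega
    have hΩK : ∀ s : T, s * s = 1 → s ∈ K → α s = s := by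
      intro s hs hsK
      rw [(hKmem s).1 hsK]; exact inv_eq_of_mul_eq_one_left hs
    let sqK : K →* T :=
      { toFun := fun k => (k : T) * k
        map_one' := by simp
        map_mul' := by
          intro a b
          show ((a : T) * b) * ((a : T) * b) = ((a : T) * a) * ((b : T) * b)
          calc ((a : T) * b) * ((a : T) * b) = a * (b * a) * b := by group
            _ = a * (a * b) * b := by rw [hab (b : T) a]
            _ = ((a : T) * a) * ((b : T) * b) := by group }
    have hsqK : ∀ k : K, sqK k = (k : T) * k := fun k => rfl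
    have hsqne : sqK.range ≠ ⊥ := by
      intro hbot
      have hKV : K ≤ fixSub α := by
        intro k hk
        have h1 : sqK ⟨k, hk⟩ ∈ sqK.range := ⟨_, rfl⟩
        rw [hbot, Subgroup.mem_bot, hsqK] at h1
        exact hΩK k h1 hk
      have h2 := Subgroup.card_le_of_le hKV
      rw [H.card_fixSub, ← hKD] at h2
      have h3 : Nat.card T ≤ 16 := by rw [hTcard]; omega
      have h4 : Ω = ⊤ := Subgroup.eq_top_of_card_eq Ω
        (le_antisymm (Subgroup.card_le_card_group Ω) (by rw [h16]; exact h3))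
      have h5 : t₀ ∈ Ω := by rw [h4]; exact Subgroup.mem_top _
      exact ht₀ ((hΩmem t₀).1 h5)
    have hsqα : ∀ x ∈ sqK.range, α x ∈ sqK.range := by
      rintro _ ⟨k, rfl⟩
      refine ⟨⟨α k, ?_⟩, ?_⟩
      · rw [hKmem, (hKmem _).1 k.2, map_inv, (hKmem _).1 k.2]
      · rw [hsqK, hsqK, map_mul]
    have hsqρ : ∀ x ∈ sqK.range, ρ x ∈ sqK.range := by
      rintro _ ⟨k, rfl⟩
      refine ⟨⟨ρ k, hKρ k k.2⟩, ?_⟩
      rw [hsqK, hsqK, map_mul]
    have hVsq : fixSub α ≤ sqK.range := H.le_of_invariant _ hsqα hsqρ hsqne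
    have hexw : ∃ w : T, w * w = 1 ∧ α w ≠ w := by
      by_contra hall
      push Not at hall
      have hle : Ω ≤ fixSub α := fun s hs => hall s ((hΩmem s).1 hs)
      have := Subgroup.card_le_of_le hle
      rw [H.card_fixSub, h16] at this
      omega
    obtain ⟨w, hw, hwfix⟩ := hexw
    have hv1 : α (w⁻¹ * α w) = w⁻¹ * α w := by
      rw [map_mul, map_inv, H.sq]
      have hαw : α w * α w = 1 := by rw [← map_mul, hw, map_one]
      rw [inv_eq_of_mul_eq_one_left hαw, inv_eq_of_mul_eq_one_left hw]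
      exact hab _ _
    obtain ⟨k, hk⟩ := hVsq hv1
    rw [hsqK] at hk
    have hfix : α (w * k) = w * k := by
      rw [map_mul, (hKmem _).1 k.2]
      have h1 : α w = w * ((k : T) * k) := by rw [hk]; group
      rw [h1]; group
    have h1 : w * k ∈ K := by
      rw [hKmem, hfix]
      exact (inv_eq_of_mul_eq_one_left (H.fix_sq hfix)).symm
    have h2 : w ∈ K := by
      have := K.mul_mem h1 (K.inv_mem k.2)
      rwa [mul_inv_cancel_right] at this
    exact hwfix (hΩK w hw h2)

end A6

end Cfsg.Agent.Helper50
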