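import Mathlib
import Cfsg.Agent.Helper50.A6b

/-!
# The nonabelian case of `A6`: the group has order 64
-/

set_option autoImplicit false
set_option linter.unusedSectionVars false
set_option linter.unusedVariables false

open scoped commutatorElement

universe u

namespace Cfsg.Agent.Helper50

namespace A6

variable {T : Type u} [Group T] [Finite T] {α ρ : MulAut T}

/-- **The nonabelian case**: the group has order 64. -/
theorem card_of_nonabelian (H : A6 α ρ) (hna : ∃ a b : T, a * b ≠ b * a) : Nat.card T = 64 := by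
  have : Fact (Nat.Prime 2) := ⟨Nat.prime_two⟩
  obtain ⟨Z, hZ⟩ : ∃ Z : Subgroup T, Z = Subgroup.center T := ⟨_, rfl⟩
  have hZn : Z.Normal := by rw [hZ]; infer_instance
  have hZc : ∀ z ∈ Z, ∀ g : T, g * z = z * g := fun z hz g => by
    rw [hZ] at hz; exact Subgroup.mem_center_iff.1 hz g
  have hcomm_c : ∀ a b : T, ⁅a, b⁆ ∈ Z := fun a b => by
    rw [hZ]; exact fpf3_comm_mem_center H.two H.fp a b
  have hZα : ∀ t, α t ∈ Z ↔ t ∈ Z := fun t => by
    rw [hZ]
    exact ⟨fun ht => by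
      have h1 := mulAut_mem_center α⁻¹ ht
      rwa [MulAut.inv_apply_self] at h1, fun ht => mulAut_mem_center α ht⟩
  have hZρ : ∀ t, ρ t ∈ Z ↔ t ∈ Z := fun t => by
    rw [hZ]
    exact ⟨fun ht => by
      have h1 := mulAut_mem_center ρ⁻¹ ht
      rwa [MulAut.inv_apply_self] at h1, fun ht => mulAut_mem_center ρ ht⟩
  have hfc : ∀ v : T, α v = v → v ∈ Z := fun v hv => by rw [hZ]; exact H.fix_central hv
  have hZtop : Z ≠ ⊤ := by
    intro h
    obtain ⟨a, b, hab⟩ := hna
    apply hab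
    have h1 : b ∈ Z := by rw [h]; exact Subgroup.mem_top b
    exact hZc b h1 a
  have HQ := H.quot Z (by rw [hZ]) hZα hZρ hZtop
  have hQab : ∀ p q : T ⧸ Z, p * q = q * p := by
    intro p q
    induction p using QuotientGroup.induction_on with
    | H a =>
      induction q using QuotientGroup.induction_on with
      | H b =>
        rw [← QuotientGroup.mk_mul, ← QuotientGroup.mk_mul]
        apply QuotientGroup.eq.2
        have h1 : (a * b)⁻¹ * (b * a) = ⁅b⁻¹, a⁻¹⁆ := by
          simp only [commutatorElement_def]; group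
        rw [h1]; exact hcomm_c _ _
  rcases HQ.abelian hQab with ⟨hexp, hQ16⟩ | hR2
  swap
  · exfalso
    obtain ⟨xb, hgen⟩ : ∃ x : T ⧸ Z, ∀ t : T ⧸ Z, ∃ a b : ℕ,
        t = x ^ a * (quotAut Z ρ hZρ x) ^ b := by
      let _ : CommGroup (T ⧸ Z) := { (inferInstance : Group (T ⧸ Z)) with mul_comm := hQab }
      exact R2.abelian_gen hR2
    obtain ⟨x, rfl⟩ := QuotientGroup.mk_surjective xb
    have hxρ : Commute x (ρ x) := fpf3_comm H.fp x
    have hform : ∀ t : T, ∃ a b : ℕ, ∃ z ∈ Z, t = x ^ a * (ρ x) ^ b * z := by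
      intro t
      obtain ⟨a, b, hab⟩ := hgen (QuotientGroup.mk t)
      rw [quotAut_mk, ← QuotientGroup.mk_pow, ← QuotientGroup.mk_pow, ← QuotientGroup.mk_mul]
        at hab
      have h1 := QuotientGroup.eq.1 hab.symm
      exact ⟨a, b, _, h1, by group⟩
    have hxc : x ∈ Z := by
      rw [hZ, Subgroup.mem_center_iff]
      intro g
      obtain ⟨a, b, z, hz, rfl⟩ := hform g
      have c1 : Commute (x ^ a) x := (Commute.refl x).pow_left a
      have c2 : Commute ((ρ x) ^ b) x := hxρ.symm.pow_left b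
      have c3 : Commute z x := (hZc z hz x).symm
      exact ((c1.mul_left c2).mul_left c3).eq
    have hρxc : ρ x ∈ Z := (hZρ x).2 hxc
    obtain ⟨a, b, hab⟩ := hna
    apply hab
    obtain ⟨i, j, z, hz, rfl⟩ := hform b
    have h1 : x ^ i * (ρ x) ^ j * z ∈ Z :=
      Z.mul_mem (Z.mul_mem (Z.pow_mem hxc i) (Z.pow_mem hρxc j)) hz
    exact hZc _ h1 a
  have hsqZ : ∀ t : T, t * t ∈ Z := by
    intro t
    have h1 := hexp (QuotientGroup.mk t)
    rw [← QuotientGroup.mk_mul] at h1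
    exact (QuotientGroup.eq_one_iff _).1 h1
  have hTcard : Nat.card T = 16 * Nat.card Z := by
    rw [Subgroup.card_eq_card_quotient_mul_card_subgroup Z, hQ16]
  have hexw : ∃ w : T, w⁻¹ * α w ∉ Z := by
    by_contra hall
    push Not at hall
    have hall' : ∀ v : T ⧸ Z, quotAut Z α hZα v = v := by
      intro v
      induction v using QuotientGroup.induction_on with
      | H t => rw [quotAut_mk]; exact (QuotientGroup.eq.2 (hall t)).symm
    have h1 : Nat.card {v : T ⧸ Z // quotAut Z α hZα v = v} = Nat.card (T ⧸ Z) :=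
      Nat.card_congr (Equiv.subtypeUnivEquiv hall')
    rw [HQ.card, hQ16] at h1
    omega
  obtain ⟨w, hw⟩ := hexw
  obtain ⟨u, hu⟩ : ∃ u, u = w⁻¹ * α w := ⟨_, rfl⟩
  rw [← hu] at hw
  have hαw : α w = w * u := by rw [hu]; group
  have hαu : α u = u⁻¹ := by rw [hu, map_mul, map_inv, H.sq]; group
  have huu : u * u ∈ Z := hsqZ u
  have hww : w * w ∈ Z := hsqZ w
  let δ : Z →* T :=
    { toFun := fun y => (y : T)⁻¹ * α y
      map_one' := by simp
      map_mul' := by
        intro a b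
        show ((a : T) * b)⁻¹ * α ((a : T) * b) = ((a : T)⁻¹ * α a) * ((b : T)⁻¹ * α b)
        have hc : (b : T)⁻¹ * ((a : T)⁻¹ * α a) = ((a : T)⁻¹ * α a) * (b : T)⁻¹ :=
          hZc _ (Z.mul_mem (Z.inv_mem a.2) ((hZα a).2 a.2)) _
        rw [map_mul, mul_inv_rev]
        calc (b : T)⁻¹ * (a : T)⁻¹ * (α a * α b)
            = ((b : T)⁻¹ * ((a : T)⁻¹ * α a)) * α b := by group
          _ = (((a : T)⁻¹ * α a) * (b : T)⁻¹) * α b := by rw [hc]
          _ = ((a : T)⁻¹ * α a) * ((b : T)⁻¹ * α b) := by group }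
  have hδ : ∀ y : Z, δ y = (y : T)⁻¹ * α y := fun y => rfl
  have hδZ : δ.range ≤ Z := by
    rintro _ ⟨y, rfl⟩
    rw [hδ]; exact Z.mul_mem (Z.inv_mem y.2) ((hZα y).2 y.2)
  have hδker : Nat.card δ.ker = 4 := by
    rw [← H.card]
    refine Nat.card_congr (Equiv.ofBijective
      (fun k : δ.ker => (⟨((k : Z) : T), by
        have h1 := k.2
        rw [MonoidHom.mem_ker, hδ] at h1
        exact (inv_mul_eq_one.1 h1).symm⟩ : {t : T // α t = t})) ⟨?_, ?_⟩)
    · intro a b hab
      have h3 : ((a : Z) : T) = ((b : Z) : T) :=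
        congrArg (fun x : {t : T // α t = t} => (x : T)) hab
      exact Subtype.ext (Subtype.ext h3)
    · rintro ⟨v, hv⟩
      have hvZ : v ∈ Z := by rw [hZ]; exact H.fix_central hv
      refine ⟨⟨⟨v, hvZ⟩, ?_⟩, rfl⟩
      rw [MonoidHom.mem_ker, hδ]
      show v⁻¹ * α v = 1
      rw [hv, inv_mul_cancel]
  have hZcard : Nat.card Z = 4 * Nat.card δ.range := by
    rw [Subgroup.card_eq_card_quotient_mul_card_subgroup δ.ker,
      Nat.card_congr (QuotientGroup.quotientKerEquivRange δ).toEquiv, hδker, mul_comm]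
  let K : Subgroup T :=
    { carrier := {z | z ∈ Z ∧ α z = z⁻¹}
      one_mem' := ⟨Z.one_mem, by rw [map_one, inv_one]⟩
      mul_mem' := by
        rintro a b ⟨ha, ha'⟩ ⟨hb, hb'⟩
        refine ⟨Z.mul_mem ha hb, ?_⟩
        rw [map_mul, ha', hb', mul_inv_rev]
        exact hZc _ (Z.inv_mem hb) a⁻¹
      inv_mem' := by
        rintro a ⟨ha, ha'⟩
        exact ⟨Z.inv_mem ha, by rw [map_inv, ha']⟩ }
  have hKmem : ∀ z, z ∈ K ↔ z ∈ Z ∧ α z = z⁻¹ := fun z => Iff.rfl
  have hKZ : K ≤ Z := fun z hz => hz.1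
  have hδK : δ.range ≤ K := by
    rintro _ ⟨y, rfl⟩
    refine ⟨hδZ ⟨y, rfl⟩, ?_⟩
    rw [hδ, map_mul, map_inv, H.sq, mul_inv_rev, inv_inv]
  have huK : u * u ∈ K := ⟨huu, by rw [map_mul, hαu, mul_inv_rev]⟩
  have huδ : u * u ∉ δ.range := by
    rintro ⟨y, hy⟩
    rw [hδ] at hy
    have hyc := hZc y y.2
    have h1 : α (u * y) = u * y := by
      have h2 : α (y : T) = y * (u * u) := by rw [← hy]; group
      rw [map_mul, hαu, h2]
      calc u⁻¹ * ((y : T) * (u * u)) = (u⁻¹ * y) * (u * u) := by group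
        _ = (y * u⁻¹) * (u * u) := by rw [hyc u⁻¹]
        _ = y * u := by group
        _ = u * y := (hyc u).symm
    have h3 : u * y ∈ Z := hfc _ h1
    have h4 : u ∈ Z := by
      have := Z.mul_mem h3 (Z.inv_mem y.2)
      rwa [mul_inv_cancel_right] at this
    exact hw h4
  have hKρ : ∀ x ∈ K, ρ x ∈ K := by
    rintro x ⟨hx, hx'⟩
    exact ⟨(hZρ x).2 hx, by rw [H.comm, hx', map_inv]⟩
  have hδρ : ∀ x ∈ δ.range, ρ x ∈ δ.range := by
    rintro _ ⟨y, rfl⟩
    refine ⟨⟨ρ y, (hZρ y).2 y.2⟩, ?_⟩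
    rw [hδ, hδ, map_mul, map_inv, H.comm]
  have hKmod := fpf3_card_mod H.fp K hKρ
  have hδmod := fpf3_card_mod H.fp δ.range hδρ
  have hKeq : K = Z := by
    apply Subgroup.eq_of_le_of_card_ge hKZ
    obtain ⟨i, hi⟩ := IsPGroup.iff_card.1 (H.two.to_subgroup K)
    obtain ⟨j, hj⟩ := IsPGroup.iff_card.1 (H.two.to_subgroup δ.range)
    have hlt : Nat.card δ.range < Nat.card K := by
      by_contra hcon
      have h1 : δ.range = K := Subgroup.eq_of_le_of_card_ge hδK (not_lt.1 hcon)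
      exact huδ (by rw [h1]; exact huK)
    rw [hZcard, hi, hj]
    rw [hi, hj] at hlt
    rw [hi] at hKmod
    rw [hj] at hδmod
    have hji : j < i := (Nat.pow_lt_pow_iff_right (by norm_num)).1 hlt
    have h2 : j + 2 ≤ i := by
      by_contra hcon
      have hi' : i = j + 1 := by omega
      rw [hi', pow_succ] at hKmod
      omega
    calc 4 * 2 ^ j = 2 ^ (j + 2) := by rw [pow_add]; ring
      _ ≤ 2 ^ i := Nat.pow_le_pow_right (by norm_num) h2
  have hinvZ : ∀ z ∈ Z, α z = z⁻¹ := fun z hz => ((hKmem z).1 (by rw [hKeq]; exact hz)).2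
  obtain ⟨c, hc⟩ : ∃ c, c = ⁅u⁻¹, w⁻¹⁆ := ⟨_, rfl⟩
  have hcZ : c ∈ Z := by rw [hc]; exact hcomm_c _ _
  have hcz := hZc c hcZ
  have huw : u * w = w * u * c := by
    rw [hc]; simp only [commutatorElement_def]; group
  have hcc : c * c = 1 := by
    have huuZ := hZc _ huu
    have e1 : (u * u) * w = w * (u * u) * (c * c) := by
      calc (u * u) * w = u * (u * w) := by group
        _ = u * (w * u * c) := by rw [huw]
        _ = (u * w) * u * c := by group
        _ = (w * u * c) * u * c := by rw [huw]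
        _ = w * u * (c * u) * c := by group
        _ = w * u * (u * c) * c := by rw [hcz u]
        _ = w * (u * u) * (c * c) := by group
    have e2 : (u * u) * w = w * (u * u) := (huuZ w).symm
    rw [e2] at e1
    exact (mul_eq_left.1 e1.symm)
  have hcfix : α c = c := by
    rw [hinvZ c hcZ]; exact inv_eq_of_mul_eq_one_left hcc
  have hrel : u * u = (w * w)⁻¹ * (w * w)⁻¹ * c⁻¹ := by
    have h1 : α (w * w) = (w * w)⁻¹ := hinvZ _ hww
    rw [map_mul, hαw] at h1
    have h2 : (w * u) * (w * u) = w * w * (u * u) * c := by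
      calc (w * u) * (w * u) = w * (u * w) * u := by group
        _ = w * (w * u * c) * u := by rw [huw]
        _ = w * w * u * (c * u) := by group
        _ = w * w * u * (u * c) := by rw [hcz u]
        _ = w * w * (u * u) * c := by group
    rw [h2] at h1
    calc u * u = (w * w)⁻¹ * (w * w * (u * u) * c) * c⁻¹ := by group
      _ = (w * w)⁻¹ * (w * w)⁻¹ * c⁻¹ := by rw [h1]
  by_cases hZ4 : Nat.card Z = 4
  · rw [hTcard, hZ4]
  · exfalso
    have hδne : δ.range ≠ ⊥ := by
      intro h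
      rw [h, Subgroup.card_bot] at hZcard
      exact hZ4 (by rw [hZcard])
    have hδα : ∀ x ∈ δ.range, α x ∈ δ.range := by
      rintro _ ⟨y, rfl⟩
      refine ⟨⟨α y, (hZα y).2 y.2⟩, ?_⟩
      rw [hδ, hδ, map_mul, map_inv]
    have hVδ := H.le_of_invariant _ hδα hδρ hδne
    apply huδ
    rw [hrel]
    have h1 : (w * w)⁻¹ * (w * w)⁻¹ ∈ δ.range := by
      refine ⟨⟨w * w, hww⟩, ?_⟩
      rw [hδ]
      show (w * w)⁻¹ * α (w * w) = _
      rw [hinvZ _ hww]
    have h2 : c⁻¹ ∈ δ.range := Subgroup.inv_mem _ (hVδ hcfix)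
    exact Subgroup.mul_mem _ h1 h2

/-- **Classification.** -/
theorem main (H : A6 α ρ) :
    ((∀ t : T, t * t = 1) ∧ Nat.card T = 16) ∨
      (∃ n : ℕ, 1 ≤ n ∧ Nonempty (T ≃* Multiplicative (ZMod (2 ^ n) × ZMod (2 ^ n)))) ∨
      (Nat.card T = 64 ∧ ∃ a b : T, a * b ≠ b * a) := by
  by_cases hab : ∀ a b : T, a * b = b * a
  · rcases H.abelian hab with h | h
    · exact Or.inl h
    · right; left
      let _ : CommGroup T := { (inferInstance : Group T) with mul_comm := hab }
      exact R2.abelian h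
  · push Not at hab
    exact Or.inr (Or.inr ⟨H.card_of_nonabelian hab, hab⟩)

end A6

end Cfsg.Agent.Helper50
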