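import Cfsg.Prelude.Def_BaumannBlocks
import Cfsg.Agent.Helper50.CD

set_option autoImplicit false

/-!
Bridge between the Chermak–Delgado library `Helper50/CD.lean` and the Prelude notions
`Cfsg.IsCentralizerLarge`, `Cfsg.IsCentrallyLarge`, `Cfsg.IsMinimalCentrallyLarge`,
`Cfsg.maxAbelianSubgroups`.
-/

namespace Cfsg.Agent.Helper50

open scoped Pointwise

variable {S : Type*} [Group S]

/-- `|R| |Z(R)|` -/
noncomputable def czm (R : Subgroup S) : ℕ := Nat.card R * Nat.card ↥(Subgroup.center ↥R)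

theorem isCentralizerLarge_iff (R : Subgroup S) :
    Cfsg.IsCentralizerLarge R ↔ cdm R = Cfsg.maxCentralizerProduct S := Iff.rfl

theorem isCentrallyLarge_iff (R : Subgroup S) :
    Cfsg.IsCentrallyLarge R ↔ czm R = Cfsg.maxCentralProduct S := Iff.rfl

theorem card_center_eq (R : Subgroup S) :
    Nat.card ↥(Subgroup.center ↥R) = Nat.card ↥(R ⊓ Subgroup.centralizer (R : Set S)) := by
  have h : (Subgroup.center ↥R).map R.subtype = R ⊓ Subgroup.centralizer (R : Set S) := by
    ext x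
    simp only [Subgroup.mem_map, Subgroup.mem_center_iff, Subgroup.mem_inf,
      Subgroup.mem_centralizer_iff, SetLike.mem_coe, Subgroup.coe_subtype]
    constructor
    · rintro ⟨z, hz, rfl⟩
      refine ⟨z.2, fun h hh => ?_⟩
      have := hz ⟨h, hh⟩
      exact congrArg Subtype.val this
    · rintro ⟨hx, hc⟩
      refine ⟨⟨x, hx⟩, fun g => ?_, rfl⟩
      apply Subtype.ext
      exact hc g g.2
  rw [← h]
  exact (Subgroup.card_map_of_injective R.subtype_injective).symm

theorem czm_eq (R : Subgroup S) :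
    czm R = Nat.card R * Nat.card ↥(R ⊓ Subgroup.centralizer (R : Set S)) := by
  unfold czm; rw [card_center_eq]

variable [Finite S]

theorem czm_le_cdm (R : Subgroup S) : czm R ≤ cdm R := by
  rw [czm_eq]
  exact Nat.mul_le_mul_left _ (Subgroup.card_le_of_le inf_le_right)

theorem bddAbove_cdm :
    BddAbove {k : ℕ | ∃ R : Subgroup S,
      Nat.card ↥R * Nat.card ↥(Subgroup.centralizer (R : Set S)) = k} := by
  refine ⟨Nat.card S * Nat.card S, ?_⟩
  rintro k ⟨R, rfl⟩
  exact Nat.mul_le_mul (Subgroup.card_le_card_group _) (Subgroup.card_le_card_group _)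

theorem bddAbove_czm :
    BddAbove {k : ℕ | ∃ R : Subgroup S,
      Nat.card ↥R * Nat.card ↥(Subgroup.center ↥R) = k} := by
  refine ⟨Nat.card S * Nat.card S, ?_⟩
  rintro k ⟨R, rfl⟩
  refine Nat.mul_le_mul (Subgroup.card_le_card_group _) ?_
  exact le_trans (Subgroup.card_le_card_group _) (Subgroup.card_le_card_group _)

theorem cdm_le_max (X : Subgroup S) : cdm X ≤ Cfsg.maxCentralizerProduct S :=
  le_csSup bddAbove_cdm ⟨X, rfl⟩

theorem czm_le_max (X : Subgroup S) : czm X ≤ Cfsg.maxCentralProduct S :=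
  le_csSup bddAbove_czm ⟨X, rfl⟩

theorem exists_isCentralizerLarge : ∃ R : Subgroup S, Cfsg.IsCentralizerLarge R := by
  have h := Nat.sSup_mem (s := {k : ℕ | ∃ R : Subgroup S,
      Nat.card ↥R * Nat.card ↥(Subgroup.centralizer (R : Set S)) = k}) ⟨_, ⟨⊥, rfl⟩⟩ bddAbove_cdm
  obtain ⟨R, hR⟩ := h
  exact ⟨R, hR⟩

theorem exists_isCentrallyLarge : ∃ R : Subgroup S, Cfsg.IsCentrallyLarge R := by
  have h := Nat.sSup_mem (s := {k : ℕ | ∃ R : Subgroup S,
      Nat.card ↥R * Nat.card ↥(Subgroup.center ↥R) = k}) ⟨_, ⟨⊥, rfl⟩⟩ bddAbove_czm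
  obtain ⟨R, hR⟩ := h
  exact ⟨R, hR⟩

/-- `f(S) = f₁(S)` -/
theorem maxCentralProduct_eq : Cfsg.maxCentralProduct S = Cfsg.maxCentralizerProduct S := by
  apply le_antisymm
  · obtain ⟨R, hR⟩ := exists_isCentrallyLarge (S := S)
    rw [isCentrallyLarge_iff] at hR
    rw [← hR]
    exact le_trans (czm_le_cdm R) (cdm_le_max R)
  · obtain ⟨R, hR⟩ := exists_isCentralizerLarge (S := S)
    rw [isCentralizerLarge_iff] at hR
    have hC := cdm_centralizer_eq cdm_le_max hR
    have hX := cdm_sup_eq cdm_le_max hR hC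
    have hle : Subgroup.centralizer ((R ⊔ Subgroup.centralizer (R : Set S) : Subgroup S) : Set S)
        ≤ R ⊔ Subgroup.centralizer (R : Set S) := by
      rw [centralizer_sup]
      exact le_trans inf_le_left le_sup_right
    have h2 : czm (R ⊔ Subgroup.centralizer (R : Set S))
        = cdm (R ⊔ Subgroup.centralizer (R : Set S)) := by
      rw [czm_eq]
      unfold cdm
      rw [inf_eq_right.mpr hle]
    rw [← hX, ← h2]
    exact czm_le_max _

theorem isCentrallyLarge_iff' (R : Subgroup S) :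
    Cfsg.IsCentrallyLarge R ↔ czm R = Cfsg.maxCentralizerProduct S := by
  rw [isCentrallyLarge_iff, maxCentralProduct_eq]

/-- a centrally large subgroup is centralizer large and contains its centralizer -/
theorem isCentrallyLarge_large_and_le {Q : Subgroup S} (hQ : Cfsg.IsCentrallyLarge Q) :
    Cfsg.IsCentralizerLarge Q ∧ Subgroup.centralizer (Q : Set S) ≤ Q := by
  rw [isCentrallyLarge_iff'] at hQ
  have h1 : cdm Q = Cfsg.maxCentralizerProduct S :=
    le_antisymm (cdm_le_max Q) (hQ ▸ czm_le_cdm Q)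
  refine ⟨h1, ?_⟩
  have h2 : czm Q = cdm Q := by rw [hQ, h1]
  rw [czm_eq] at h2
  unfold cdm at h2
  have h3 := Nat.eq_of_mul_eq_mul_left Nat.card_pos h2
  have h4 : Q ⊓ Subgroup.centralizer (Q : Set S) = Subgroup.centralizer (Q : Set S) :=
    Subgroup.eq_of_le_of_card_ge inf_le_right h3.ge
  rw [← h4]
  exact inf_le_left

theorem isCentrallyLarge_of_large_of_le {Q : Subgroup S} (hQ : Cfsg.IsCentralizerLarge Q)
    (hle : Subgroup.centralizer (Q : Set S) ≤ Q) : Cfsg.IsCentrallyLarge Q := by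
  rw [isCentrallyLarge_iff', czm_eq, inf_eq_right.mpr hle]
  exact hQ

theorem isCentrallyLarge_iff_large_and_le (Q : Subgroup S) :
    Cfsg.IsCentrallyLarge Q ↔
      Cfsg.IsCentralizerLarge Q ∧ Subgroup.centralizer (Q : Set S) ≤ Q :=
  ⟨fun h => isCentrallyLarge_large_and_le h, fun h => isCentrallyLarge_of_large_of_le h.1 h.2⟩

/-- the join of two centrally large subgroups is their product set and is centrally large -/
theorem isCentrallyLarge_sup {Q R : Subgroup S} (hQ : Cfsg.IsCentrallyLarge Q)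
    (hR : Cfsg.IsCentrallyLarge R) :
    ((Q ⊔ R : Subgroup S) : Set S) = (Q : Set S) * (R : Set S) ∧ Cfsg.IsCentrallyLarge (Q ⊔ R) := by
  obtain ⟨hQ1, hQ2⟩ := isCentrallyLarge_large_and_le hQ
  obtain ⟨hR1, hR2⟩ := isCentrallyLarge_large_and_le hR
  refine ⟨coe_sup_eq_mulSet_of_cdm_max cdm_le_max hQ1 hR1, ?_⟩
  apply isCentrallyLarge_of_large_of_le (cdm_sup_eq cdm_le_max hQ1 hR1)
  rw [centralizer_sup]
  exact le_trans inf_le_left (le_trans hQ2 le_sup_left)

/-- the join of a nonempty family of centrally large subgroups is centrally large -/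
theorem isCentrallyLarge_sSup {𝒮 : Set (Subgroup S)} (hne : 𝒮.Nonempty)
    (h𝒮 : ∀ R ∈ 𝒮, Cfsg.IsCentrallyLarge R) : Cfsg.IsCentrallyLarge (sSup 𝒮) := by
  obtain ⟨R₀, hR₀⟩ := hne
  have hfin : ({X : Subgroup S | Cfsg.IsCentrallyLarge X ∧ X ≤ sSup 𝒮}).Finite := Set.toFinite _
  obtain ⟨X, ⟨hX1, hX2⟩, hXmax⟩ := Set.exists_max_image _ (fun X : Subgroup S => Nat.card X) hfin
    ⟨R₀, h𝒮 R₀ hR₀, le_sSup hR₀⟩
  have hle : sSup 𝒮 ≤ X := by
    apply sSup_le
    intro R hR
    have h1 := (isCentrallyLarge_sup hX1 (h𝒮 R hR)).2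
    have h2 : X ⊔ R ≤ sSup 𝒮 := sup_le hX2 (le_sSup hR)
    have h3 := hXmax (X ⊔ R) ⟨h1, h2⟩
    have h4 : X = X ⊔ R := Subgroup.eq_of_le_of_card_ge le_sup_left h3
    rw [h4]
    exact le_sup_right
  rw [le_antisymm hle hX2]
  exact hX1

theorem isCentrallyLarge_centrallyLargeJoin : Cfsg.IsCentrallyLarge (Cfsg.centrallyLargeJoin S) :=
  isCentrallyLarge_sSup exists_isCentrallyLarge (fun _ h => h)

/-- every centrally large subgroup contains a minimal centrally large subgroup -/
theorem exists_isMinimalCentrallyLarge_le {Q : Subgroup S} (hQ : Cfsg.IsCentrallyLarge Q) :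
    ∃ R : Subgroup S, Cfsg.IsMinimalCentrallyLarge R ∧ R ≤ Q := by
  have hfin : ({X : Subgroup S | Cfsg.IsCentrallyLarge X ∧ X ≤ Q}).Finite := Set.toFinite _
  obtain ⟨X, ⟨hX1, hX2⟩, hXmin⟩ := Set.exists_min_image _ (fun X : Subgroup S => Nat.card X) hfin
    ⟨Q, hQ, le_rfl⟩
  refine ⟨X, ⟨hX1, fun R' hR' hR'' => ?_⟩, hX2⟩
  exact Subgroup.eq_of_le_of_card_ge hR' (hXmin R' ⟨hR'', le_trans hR' hX2⟩)

theorem exists_isMinimalCentrallyLarge : ∃ R : Subgroup S, Cfsg.IsMinimalCentrallyLarge R := by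
  obtain ⟨Q, hQ⟩ := exists_isCentrallyLarge (S := S)
  obtain ⟨R, hR, -⟩ := exists_isMinimalCentrallyLarge_le hQ
  exact ⟨R, hR⟩

theorem isCentrallyLarge_minimalCentrallyLargeJoin :
    Cfsg.IsCentrallyLarge (Cfsg.minimalCentrallyLargeJoin S) :=
  isCentrallyLarge_sSup exists_isMinimalCentrallyLarge (fun _ h => h.1)

omit [Finite S] in
/-- `A ⊔ ⟨x⟩` is abelian when `A` is abelian and `x` centralizes `A`. -/
theorem isMulCommutative_sup_zpowers {A : Subgroup S} (hA : IsMulCommutative A) {x : S}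
    (hx : x ∈ Subgroup.centralizer (A : Set S)) : IsMulCommutative ↥(A ⊔ Subgroup.zpowers x) := by
  rw [← Subgroup.le_centralizer_iff_isMulCommutative, centralizer_sup]
  have h1 : A ≤ Subgroup.centralizer (A : Set S) := Subgroup.le_centralizer_iff_isMulCommutative.mpr hA
  have h2 : Subgroup.zpowers x ≤ Subgroup.centralizer (A : Set S) := by
    rw [Subgroup.zpowers_le]; exact hx
  have h3 : A ≤ Subgroup.centralizer (Subgroup.zpowers x : Set S) := Subgroup.le_centralizer_iff.mp h2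
  have h4 : Subgroup.zpowers x ≤ Subgroup.centralizer (Subgroup.zpowers x : Set S) :=
    Subgroup.le_centralizer_iff_isMulCommutative.mpr inferInstance
  exact sup_le (le_inf h1 h3) (le_inf h2 h4)

/-- an abelian subgroup of largest order is self-centralizing -/
theorem centralizer_eq_of_mem_maxAbelianSubgroups {A : Subgroup S}
    (hA : A ∈ Cfsg.maxAbelianSubgroups S) : Subgroup.centralizer (A : Set S) = A := by
  obtain ⟨hA1, hA2⟩ := hA
  apply le_antisymm
  · intro x hx
    have h1 := hA2 _ (isMulCommutative_sup_zpowers hA1 hx)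
    have h2 : A = A ⊔ Subgroup.zpowers x := Subgroup.eq_of_le_of_card_ge le_sup_left h1
    rw [h2]
    exact Subgroup.mem_sup_right (Subgroup.mem_zpowers x)
  · exact Subgroup.le_centralizer_iff_isMulCommutative.mpr hA1

theorem exists_mem_maxAbelianSubgroups : ∃ A : Subgroup S, A ∈ Cfsg.maxAbelianSubgroups S := by
  have hfin : ({X : Subgroup S | IsMulCommutative X}).Finite := Set.toFinite _
  obtain ⟨X, hX1, hXmax⟩ := Set.exists_max_image _ (fun X : Subgroup S => Nat.card X) hfin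
    ⟨⊥, by
      show IsMulCommutative ↥(⊥ : Subgroup S)
      rw [← Subgroup.le_centralizer_iff_isMulCommutative]
      exact bot_le⟩
  exact ⟨X, hX1, fun B hB => hXmax B hB⟩

end Cfsg.Agent.Helper50
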