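import Mathlib
import Cfsg.Agent.Helper50.Fpf3

/-!
# Class two calculus for a group of order 64 with a fixed-point-free automorphism of order three

`Fpf64 ρ` records the conclusions of `fpf3_struct`.  Under it commutators are central of order
two and bimultiplicative, and `ρ` acts on them in a twisted way:
`⁅t, ρ e⁆ = ⁅ρ t, e⁆ = ρ (ρ ⁅t, e⁆)`.
-/

set_option autoImplicit false
set_option linter.unusedSectionVars false
set_option linter.unusedVariables false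

open scoped commutatorElement

namespace Cfsg.Agent.Helper50

/-- A group of order 64 with a fixed-point-free automorphism `ρ` of order three whose centre is a
four-group containing all squares. -/
structure Fpf64 {T : Type*} [Group T] (ρ : MulAut T) : Prop where
  fp : Fpf3 ρ
  card : Nat.card T = 64
  cardZ : Nat.card (Subgroup.center T) = 4
  expZ : ∀ z ∈ Subgroup.center T, z * z = 1
  sq : ∀ t : T, t * t ∈ Subgroup.center T

namespace Fpf64

variable {T : Type*} [Group T] {ρ : MulAut T}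

theorem comm_mem (H : Fpf64 ρ) (s t : T) : ⁅s, t⁆ ∈ Subgroup.center T := by
  have e : ⁅s, t⁆ = (s * s) * ((s⁻¹ * t) * (s⁻¹ * t)) * (t⁻¹ * t⁻¹) := by
    simp only [commutatorElement_def]; group
  rw [e]
  exact Subgroup.mul_mem _ (Subgroup.mul_mem _ (H.sq s) (H.sq _)) (H.sq _)

theorem comm_sq (H : Fpf64 ρ) (s t : T) : ⁅s, t⁆ * ⁅s, t⁆ = 1 := H.expZ _ (H.comm_mem s t)

theorem inv_eq (H : Fpf64 ρ) {z : T} (hz : z ∈ Subgroup.center T) : z⁻¹ = z :=
  inv_eq_of_mul_eq_one_right (H.expZ z hz)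

theorem comm_symm (H : Fpf64 ρ) (s t : T) : ⁅s, t⁆ = ⁅t, s⁆ := by
  rw [← commutatorElement_inv]
  exact H.inv_eq (H.comm_mem t s)

theorem comm_mul_left (H : Fpf64 ρ) (a b c : T) : ⁅a * b, c⁆ = ⁅a, c⁆ * ⁅b, c⁆ := by
  have h1 : ⁅a * b, c⁆ = a * ⁅b, c⁆ * a⁻¹ * ⁅a, c⁆ := by
    simp only [commutatorElement_def]; group
  have h2 : a * ⁅b, c⁆ = ⁅b, c⁆ * a := Subgroup.mem_center_iff.1 (H.comm_mem b c) a
  rw [h1, h2, mul_inv_cancel_right]
  exact Subgroup.mem_center_iff.1 (H.comm_mem a c) ⁅b, c⁆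

theorem comm_mul_right (H : Fpf64 ρ) (a b c : T) : ⁅a, b * c⁆ = ⁅a, b⁆ * ⁅a, c⁆ := by
  rw [H.comm_symm a (b * c), H.comm_mul_left, H.comm_symm b a, H.comm_symm c a]

theorem comm_center_left (H : Fpf64 ρ) {z : T} (hz : z ∈ Subgroup.center T) (t : T) :
    ⁅z, t⁆ = 1 := by
  rw [commutatorElement_eq_one_iff_mul_comm]
  exact (Subgroup.mem_center_iff.1 hz t).symm

theorem comm_center_right (H : Fpf64 ρ) {z : T} (hz : z ∈ Subgroup.center T) (t : T) :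
    ⁅t, z⁆ = 1 := by
  rw [H.comm_symm, H.comm_center_left hz]

theorem sq_mul (H : Fpf64 ρ) (a b : T) : (a * b) * (a * b) = (a * a) * (b * b) * ⁅b, a⁆ := by
  have h2 : a * ⁅b, a⁆ = ⁅b, a⁆ * a := Subgroup.mem_center_iff.1 (H.comm_mem b a) a
  have h3 : (a * a) * (b * b) * ⁅b, a⁆ = a * (a * ⁅b, a⁆) * b * b := by
    have h4 : (b * b) * ⁅b, a⁆ = ⁅b, a⁆ * (b * b) :=
      Subgroup.mem_center_iff.1 (H.comm_mem b a) (b * b)
    calc (a * a) * (b * b) * ⁅b, a⁆ = (a * a) * ((b * b) * ⁅b, a⁆) := by group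
      _ = (a * a) * (⁅b, a⁆ * (b * b)) := by rw [h4]
      _ = a * (a * ⁅b, a⁆) * b * b := by group
  rw [h3, h2]
  simp only [commutatorElement_def]; group

section fin

variable [Finite T]

theorem comm_rho_self (H : Fpf64 ρ) (t : T) : ⁅t, ρ t⁆ = 1 := by
  rw [commutatorElement_eq_one_iff_mul_comm]
  exact fpf3_comm H.fp t

theorem comm_rho_swap (H : Fpf64 ρ) (t e : T) : ⁅t, ρ e⁆ = ⁅ρ t, e⁆ := by
  have h1 : ⁅t * e, ρ (t * e)⁆ = 1 := H.comm_rho_self (t * e)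
  rw [map_mul, H.comm_mul_left, H.comm_mul_right, H.comm_mul_right, H.comm_rho_self,
    H.comm_rho_self, one_mul, mul_one] at h1
  have h2 : ⁅t, ρ e⁆ = ⁅e, ρ t⁆⁻¹ := eq_inv_of_mul_eq_one_left h1
  rw [h2, commutatorElement_inv]

theorem comm_rho_left (H : Fpf64 ρ) (t e : T) : ⁅ρ t, e⁆ = ρ (ρ ⁅t, e⁆) := by
  have h1 := H.comm_rho_swap (ρ t) (ρ (ρ e))
  rw [H.fp.cube] at h1
  rw [h1, map_commutatorElement, map_commutatorElement]

theorem comm_rho_right (H : Fpf64 ρ) (t e : T) : ⁅t, ρ e⁆ = ρ (ρ ⁅t, e⁆) := by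
  rw [H.comm_rho_swap, H.comm_rho_left]

theorem rho_mem (H : Fpf64 ρ) {z : T} (hz : z ∈ Subgroup.center T) : ρ z ∈ Subgroup.center T :=
  mulAut_mem_center ρ hz

/-- `c * ρ c = ρ (ρ c)` on the centre. -/
theorem prodZ (H : Fpf64 ρ) {c : T} (hc : c ∈ Subgroup.center T) : c * ρ c = ρ (ρ c) := by
  rw [fpf3_rr H.fp c, H.inv_eq (Subgroup.mul_mem _ hc (H.rho_mem hc))]

theorem rho_ne (H : Fpf64 ρ) {c : T} (hc : c ≠ 1) : ρ c ≠ c := fun h => hc (H.fp.fpf c h)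

theorem rho_ne_one (H : Fpf64 ρ) {c : T} (hc : c ≠ 1) : ρ c ≠ 1 := by
  intro h
  apply hc
  have := congrArg ρ (congrArg ρ h)
  rw [H.fp.cube, map_one, map_one] at this
  exact this

theorem rr_ne (H : Fpf64 ρ) {c : T} (hc : c ≠ 1) : ρ (ρ c) ≠ c := by
  intro h
  have := congrArg ρ h
  rw [H.fp.cube] at this
  exact H.rho_ne hc this.symm

/-- The centre is `{1, c, ρ c, ρ (ρ c)}` for every nontrivial central `c`. -/
theorem center_enum (H : Fpf64 ρ) {c : T} (hc : c ∈ Subgroup.center T) (hc1 : c ≠ 1) {z : T}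
    (hz : z ∈ Subgroup.center T) : z = 1 ∨ z = c ∨ z = ρ c ∨ z = ρ (ρ c) := by
  classical
  by_contra hcon
  push Not at hcon
  obtain ⟨h1, h2, h3, h4⟩ := hcon
  have hrc : ρ c ≠ 1 := H.rho_ne_one hc1
  have hrrc : ρ (ρ c) ≠ 1 := H.rho_ne_one hrc
  have hcr : c ≠ ρ c := fun h => H.rho_ne hc1 h.symm
  have hcrr : c ≠ ρ (ρ c) := fun h => H.rr_ne hc1 h.symm
  have hrrr : ρ c ≠ ρ (ρ c) := fun h => H.rho_ne hrc h.symm
  have : Fintype (Subgroup.center T) := Fintype.ofFinite _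
  let s : Finset (Subgroup.center T) :=
    {⟨1, Subgroup.one_mem _⟩, ⟨c, hc⟩, ⟨ρ c, H.rho_mem hc⟩, ⟨ρ (ρ c), H.rho_mem (H.rho_mem hc)⟩,
      ⟨z, hz⟩}
  have hs : s.card = 5 := by
    rw [Finset.card_insert_of_notMem, Finset.card_insert_of_notMem, Finset.card_insert_of_notMem,
      Finset.card_insert_of_notMem, Finset.card_singleton]
    · simp only [Finset.mem_singleton, Subtype.mk.injEq]
      exact fun h => h4 h.symm
    · simp only [Finset.mem_insert, Finset.mem_singleton, Subtype.mk.injEq]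
      rintro (h | h)
      · exact hrrr h
      · exact h3 h.symm
    · simp only [Finset.mem_insert, Finset.mem_singleton, Subtype.mk.injEq]
      rintro (h | h | h)
      · exact hcr h
      · exact hcrr h
      · exact h2 h.symm
    · simp only [Finset.mem_insert, Finset.mem_singleton, Subtype.mk.injEq]
      rintro (h | h | h | h)
      · exact hc1 h.symm
      · exact hrc h.symm
      · exact hrrc h.symm
      · exact h1 h.symm
  have hle := Finset.card_le_univ s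
  rw [hs, ← Nat.card_eq_fintype_card, H.cardZ] at hle
  omega

/-- `ρ` is fixed-point-free modulo the centre. -/
theorem fpf_mod (H : Fpf64 ρ) {t : T} (ht : t⁻¹ * ρ t ∈ Subgroup.center T) :
    t ∈ Subgroup.center T := by
  have hd := ht
  have hu : ρ (t⁻¹ * ρ t) ∈ Subgroup.center T := H.rho_mem hd
  have e1 : ρ (t⁻¹ * ρ t) * ρ (ρ (t⁻¹ * ρ t)) = t⁻¹ * ρ t := by
    rw [H.prodZ hu, H.fp.cube]
  have e2 : ρ (t * (ρ (t⁻¹ * ρ t))⁻¹) = t * (ρ (t⁻¹ * ρ t))⁻¹ := by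
    rw [H.inv_eq hu]
    have e3 : ρ (t * ρ (t⁻¹ * ρ t)) = ρ t * ρ (ρ (t⁻¹ * ρ t)) := by rw [map_mul]
    rw [e3]
    have e4 : ρ t = t * (t⁻¹ * ρ t) := by group
    rw [← e1] at e4
    have hcomm : ρ (t⁻¹ * ρ t) * ρ (ρ (t⁻¹ * ρ t)) * ρ (ρ (t⁻¹ * ρ t))
        = ρ (t⁻¹ * ρ t) := by
      rw [mul_assoc, H.expZ _ (H.rho_mem hu), mul_one]
    calc ρ t * ρ (ρ (t⁻¹ * ρ t))
        = t * (ρ (t⁻¹ * ρ t) * ρ (ρ (t⁻¹ * ρ t))) * ρ (ρ (t⁻¹ * ρ t)) := by rw [← e4]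
      _ = t * (ρ (t⁻¹ * ρ t) * ρ (ρ (t⁻¹ * ρ t)) * ρ (ρ (t⁻¹ * ρ t))) := by group
      _ = t * ρ (t⁻¹ * ρ t) := by rw [hcomm]
  have e5 := H.fp.fpf _ e2
  have e6 : t = ρ (t⁻¹ * ρ t) := by
    have := mul_inv_eq_one.1 e5
    exact this
  rw [e6]
  exact hu

end fin

end Fpf64

end Cfsg.Agent.Helper50
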