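import Mathlib
import Cfsg.Agent.Helper50.Fpf3b

/-!
# An involutory automorphism inverting a fixed-point-free automorphism of order three

In the situation of `Fpf64 ρ`, let `x` be an automorphism with `x² = 1` and `x ρ = ρ⁻¹ x`.
Then `x` fixes exactly one nontrivial central element `w`, its fixed points form a nonabelian
subgroup of order eight, and there is a noncentral involution.
-/

set_option autoImplicit false
set_option linter.unusedSectionVars false
set_option linter.unusedVariables false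

open scoped commutatorElement

namespace Cfsg.Agent.Helper50

namespace Fpf64

variable {T : Type*} [Group T] [Finite T] {ρ : MulAut T}

/-- The action of `x` on the centre: a unique nontrivial fixed point `w` and a moved point `u`. -/
theorem exists_fixed (H : Fpf64 ρ) (x : MulAut T) (hx2 : ∀ t, x (x t) = t)
    (hxr : ∀ t, x (ρ t) = ρ (ρ (x t))) :
    ∃ w u : T, w ∈ Subgroup.center T ∧ w ≠ 1 ∧ x w = w ∧
      (∀ z ∈ Subgroup.center T, x z = z → z = 1 ∨ z = w) ∧ u ∈ Subgroup.center T ∧ x u ≠ u := by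
  obtain ⟨c, hc, hc1⟩ : ∃ c ∈ Subgroup.center T, c ≠ 1 := by
    by_contra hcon
    push Not at hcon
    have hbot : Subgroup.center T = ⊥ := by
      rw [Subgroup.eq_bot_iff_forall]
      exact hcon
    have := H.cardZ
    rw [hbot, Subgroup.card_bot] at this
    omega
  have hrc : ρ c ≠ 1 := H.rho_ne_one hc1
  have hrrc : ρ (ρ c) ≠ 1 := H.rho_ne_one hrc
  have hcr : ρ c ≠ c := H.rho_ne hc1
  have hcrr : ρ (ρ c) ≠ c := H.rr_ne hc1
  have hrrr : ρ (ρ c) ≠ ρ c := H.rho_ne hrc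
  have hxc : x c ∈ Subgroup.center T := mulAut_mem_center x hc
  have hxc1 : x c ≠ 1 := by
    intro h
    apply hc1
    have := congrArg x h
    rw [hx2, map_one] at this
    exact this
  have e1 : x (ρ c) = ρ (ρ (x c)) := hxr c
  have e2 : x (ρ (ρ c)) = ρ (ρ (x (ρ c))) := hxr (ρ c)
  rcases H.center_enum hc hc1 hxc with h | h | h | h
  · exact absurd h hxc1
  · -- `x c = c`
    rw [h] at e1
    rw [e1, H.fp.cube] at e2
    refine ⟨c, ρ c, hc, hc1, h, ?_, H.rho_mem hc, by rw [e1]; exact hrrr⟩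
    intro z hz hxz
    rcases H.center_enum hc hc1 hz with rfl | rfl | rfl | rfl
    · exact Or.inl rfl
    · exact Or.inr rfl
    · rw [e1] at hxz; exact absurd hxz hrrr
    · rw [e2] at hxz; exact absurd hxz.symm hrrr
  · -- `x c = ρ c`
    rw [h, H.fp.cube] at e1
    rw [e1] at e2
    refine ⟨ρ (ρ c), c, H.rho_mem (H.rho_mem hc), hrrc, e2, ?_, hc, by rw [h]; exact hcr⟩
    intro z hz hxz
    rcases H.center_enum hc hc1 hz with rfl | rfl | rfl | rfl
    · exact Or.inl rfl
    · rw [h] at hxz; exact absurd hxz hcr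
    · rw [e1] at hxz; exact absurd hxz.symm hcr
    · exact Or.inr rfl
  · -- `x c = ρ (ρ c)`
    rw [h, H.fp.cube] at e1
    rw [e1, H.fp.cube] at e2
    refine ⟨ρ c, c, H.rho_mem hc, hrc, e1, ?_, hc, by rw [h]; exact hcrr⟩
    intro z hz hxz
    rcases H.center_enum hc hc1 hz with rfl | rfl | rfl | rfl
    · exact Or.inl rfl
    · rw [h] at hxz; exact absurd hxz hcrr
    · exact Or.inr rfl
    · rw [e2] at hxz; exact absurd hxz.symm hcrr

/-- The "norm" of a moved central element is the fixed element `w`. -/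
theorem norm_eq (H : Fpf64 ρ) (x : MulAut T) (hx2 : ∀ t, x (x t) = t) {w : T}
    (hfix : ∀ z ∈ Subgroup.center T, x z = z → z = 1 ∨ z = w) {z : T}
    (hz : z ∈ Subgroup.center T) (hxz : x z ≠ z) : z * x z = w := by
  have hxzc : x z ∈ Subgroup.center T := mulAut_mem_center x hz
  have h1 : x (z * x z) = z * x z := by
    rw [map_mul, hx2]
    exact Subgroup.mem_center_iff.1 hz (x z)
  rcases hfix _ (Subgroup.mul_mem _ hz hxzc) h1 with h | h
  · exfalso
    apply hxz
    have : x z = z⁻¹ := eq_inv_of_mul_eq_one_right h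
    rw [this, H.inv_eq hz]
  · exact h

/-- Every element of the form `t * x t` becomes a fixed point of `x` after a central
correction. -/
theorem exists_corr (H : Fpf64 ρ) (x : MulAut T) (hx2 : ∀ t, x (x t) = t) {w u : T}
    (hfix : ∀ z ∈ Subgroup.center T, x z = z → z = 1 ∨ z = w)
    (hu : u ∈ Subgroup.center T) (hxu : x u ≠ u) (t : T) :
    ∃ z ∈ Subgroup.center T, x (t * x t * z) = t * x t * z := by
  have hk : (t * x t)⁻¹ * (x t * t) ∈ Subgroup.center T := by
    have : (t * x t)⁻¹ * (x t * t) = ⁅(x t)⁻¹, t⁻¹⁆ := by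
      simp only [commutatorElement_def]; group
    rw [this]
    exact H.comm_mem _ _
  have hxk : x ((t * x t)⁻¹ * (x t * t)) = (t * x t)⁻¹ * (x t * t) := by
    have e : x ((t * x t)⁻¹ * (x t * t)) = ((t * x t)⁻¹ * (x t * t))⁻¹ := by
      simp only [map_mul, map_inv, hx2]; group
    rw [e, H.inv_eq hk]
  have hsplit : x t * t = t * x t * ((t * x t)⁻¹ * (x t * t)) := by group
  rcases hfix _ hk hxk with h | h
  · refine ⟨1, Subgroup.one_mem _, ?_⟩
    rw [h, mul_one] at hsplit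
    rw [mul_one, map_mul, hx2, hsplit]
  · refine ⟨u, hu, ?_⟩
    rw [h] at hsplit
    have hn := H.norm_eq x hx2 hfix hu hxu
    have hxuc : x u ∈ Subgroup.center T := mulAut_mem_center x hu
    rw [map_mul, map_mul, hx2, hsplit, ← hn]
    have : u * x u * x u = u := by rw [mul_assoc, H.expZ _ hxuc, mul_one]
    rw [mul_assoc (t * x t), this]

/-- Two non-commuting fixed points of `x`. -/
theorem exists_pair (H : Fpf64 ρ) (x : MulAut T) (hx2 : ∀ t, x (x t) = t)
    (hxr : ∀ t, x (ρ t) = ρ (ρ (x t))) {w u : T} (hw : w ∈ Subgroup.center T) (hw1 : w ≠ 1)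
    (hfix : ∀ z ∈ Subgroup.center T, x z = z → z = 1 ∨ z = w)
    (hu : u ∈ Subgroup.center T) (hxu : x u ≠ u) :
    ∃ a b : T, x a = a ∧ x b = b ∧ ⁅a, b⁆ = w := by
  -- step 1
  obtain ⟨s, t, hg1, hgw⟩ : ∃ s t : T, ⁅s, t * x t⁆ ≠ 1 ∧ ⁅s, t * x t⁆ ≠ w := by
    by_contra hcon
    push Not at hcon
    have hall : ∀ s t : T, ⁅s, t * x t⁆ = 1 := by
      intro s t
      by_contra hne
      have h1 := hcon s t hne
      have h2 : ⁅ρ s, t * x t⁆ = ρ (ρ w) := by rw [H.comm_rho_left, h1]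
      have h3 : ⁅ρ s, t * x t⁆ ≠ 1 := by
        rw [h2]
        exact H.rho_ne_one (H.rho_ne_one hw1)
      have h4 := hcon (ρ s) t h3
      rw [h2] at h4
      exact H.rr_ne hw1 h4
    have hcen : ∀ t : T, t * x t ∈ Subgroup.center T := by
      intro t
      rw [Subgroup.mem_center_iff]
      intro s
      exact commutatorElement_eq_one_iff_mul_comm.1 (hall s t)
    have hall2 : ∀ t : T, ρ t ∈ Subgroup.center T := by
      intro t
      apply H.fpf_mod
      have h1 := hcen t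
      have h2 := hcen (ρ t)
      rw [hxr] at h2
      have h3 : x t = t⁻¹ * (t * x t) := by group
      have h4 : ρ t * ρ (ρ (x t)) = ρ t * (ρ (ρ t))⁻¹ * ρ (ρ (t * x t)) := by
        conv_lhs => rw [h3]
        simp only [map_mul, map_inv]
        group
      rw [h4] at h2
      have h5 : ρ t * (ρ (ρ t))⁻¹ ∈ Subgroup.center T := by
        have := Subgroup.mul_mem _ h2 (Subgroup.inv_mem _ (H.rho_mem (H.rho_mem h1)))
        rwa [mul_inv_cancel_right] at this
      have h6 : (ρ t)⁻¹ * ρ (ρ t) = (ρ t * (ρ (ρ t))⁻¹)⁻¹ := by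
        have hc := Subgroup.mem_center_iff.1 h5 (ρ t)⁻¹
        have : (ρ t * (ρ (ρ t))⁻¹)⁻¹ = ρ (ρ t) * (ρ t)⁻¹ := by group
        rw [this]
        have hc' : (ρ t)⁻¹ * (ρ t * (ρ (ρ t))⁻¹) = (ρ (ρ t))⁻¹ := by group
        rw [hc'] at hc
        -- hc : (ρ (ρ t))⁻¹ = ρ t * (ρ (ρ t))⁻¹ * (ρ t)⁻¹
        have hc2 : ρ (ρ t) = ρ t * ρ (ρ t) * (ρ t)⁻¹ := by
          have := congrArg (·⁻¹) hc
          simpa [mul_assoc] using this
        calc (ρ t)⁻¹ * ρ (ρ t) = (ρ t)⁻¹ * (ρ t * ρ (ρ t) * (ρ t)⁻¹) := by rw [← hc2]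
          _ = ρ (ρ t) * (ρ t)⁻¹ := by group
      rw [h6]
      exact Subgroup.inv_mem _ h5
    have htop : ∀ t : T, t ∈ Subgroup.center T := by
      intro t
      have := hall2 (ρ (ρ t))
      rwa [H.fp.cube] at this
    have : Subgroup.center T = ⊤ := by
      rw [Subgroup.eq_top_iff']
      exact htop
    have h4 := H.cardZ
    rw [this, Subgroup.card_top, H.card] at h4
    omega
  -- step 2
  have hg : ⁅s, t * x t⁆ ∈ Subgroup.center T := H.comm_mem _ _
  have hxg : x ⁅s, t * x t⁆ ≠ ⁅s, t * x t⁆ := by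
    intro h
    rcases hfix _ hg h with h' | h'
    · exact hg1 h'
    · exact hgw h'
  obtain ⟨z1, hz1, ha⟩ := H.exists_corr x hx2 hfix hu hxu s
  obtain ⟨z2, hz2, hb⟩ := H.exists_corr x hx2 hfix hu hxu t
  refine ⟨s * x s * z1, t * x t * z2, ha, hb, ?_⟩
  rw [H.comm_mul_left, H.comm_center_left hz1, mul_one, H.comm_mul_right,
    H.comm_center_right hz2, mul_one, H.comm_mul_left]
  have e1 : ⁅x s, t * x t⁆ = x ⁅s, t * x t⁆ := by
    rw [map_commutatorElement, map_mul, hx2]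
    rw [H.comm_mul_right, H.comm_mul_right]
    exact Subgroup.mem_center_iff.1 (H.comm_mem _ _) _
  rw [e1]
  exact H.norm_eq x hx2 hfix hg hxg

/-- The fixed points of `x` form a nonabelian subgroup of order eight. -/
theorem card_fixed (H : Fpf64 ρ) (x : MulAut T) (hx2 : ∀ t, x (x t) = t)
    (hxr : ∀ t, x (ρ t) = ρ (ρ (x t))) (C : Subgroup T) (hC : ∀ y : T, y ∈ C ↔ x y = y) :
    Nat.card C = 8 ∧ ∃ a b : C, a * b ≠ b * a := by
  obtain ⟨w, u, hw, hw1, hxw, hfix, hu, hxu⟩ := H.exists_fixed x hx2 hxr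
  obtain ⟨a, b, ha, hb, hab⟩ := H.exists_pair x hx2 hxr hw hw1 hfix hu hxu
  have hna : ∃ a b : C, a * b ≠ b * a := by
    refine ⟨⟨a, (hC a).2 ha⟩, ⟨b, (hC b).2 hb⟩, ?_⟩
    intro h
    have h' : a * b = b * a := congrArg Subtype.val h
    rw [commutatorElement_eq_one_iff_mul_comm.2 h'] at hab
    exact hw1 hab.symm
  refine ⟨?_, hna⟩
  have hinj : Function.Injective (fun p : C × C => (p.1 : T) * ρ (p.2 : T)) := by
    rintro ⟨p1, p2⟩ ⟨q1, q2⟩ hpq
    have hpq' : (p1 : T) * ρ (p2 : T) = (q1 : T) * ρ (q2 : T) := hpq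
    have h1 : ((q1 : T))⁻¹ * p1 = ρ ((q2 : T) * (p2 : T)⁻¹) := by
      rw [map_mul, map_inv]
      have : (p1 : T) = q1 * ρ q2 * (ρ (p2 : T))⁻¹ := by rw [← hpq']; group
      rw [this]; group
    have hd : x ((q2 : T) * (p2 : T)⁻¹) = (q2 : T) * (p2 : T)⁻¹ :=
      (hC _).1 (C.mul_mem q2.2 (C.inv_mem p2.2))
    have hl : x (((q1 : T))⁻¹ * p1) = ((q1 : T))⁻¹ * p1 :=
      (hC _).1 (C.mul_mem (C.inv_mem q1.2) p1.2)
    rw [h1, hxr, hd] at hl
    have h2 : ρ ((q2 : T) * (p2 : T)⁻¹) = 1 := H.fp.fpf _ hl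
    have h3 : (q2 : T) * (p2 : T)⁻¹ = 1 := by
      by_contra hne
      exact H.rho_ne_one hne h2
    have h4 : (q2 : T) = p2 := mul_inv_eq_one.1 h3
    have h5 : (p1 : T) = q1 := by
      rw [h4] at hpq'
      exact mul_right_cancel hpq'
    exact Prod.ext (Subtype.ext h5) (Subtype.ext h4.symm)
  have hle := Nat.card_le_card_of_injective _ hinj
  rw [Nat.card_prod, H.card] at hle
  have hdvd : Nat.card C ∣ 64 := H.card ▸ Subgroup.card_subgroup_dvd_card C
  have h3 : Nat.card C ∈ Nat.divisors 64 := Nat.mem_divisors.2 ⟨hdvd, by norm_num⟩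
  have h4 : Nat.divisors 64 = {1, 2, 4, 8, 16, 32, 64} := by decide
  rw [h4] at h3
  simp only [Finset.mem_insert, Finset.mem_singleton] at h3
  obtain ⟨a', b', hab'⟩ := hna
  rcases h3 with h | h | h | h | h | h | h
  · exfalso
    have : Subsingleton C := (Nat.card_eq_one_iff_unique.1 h).1
    exact hab' (by rw [Subsingleton.elim a' b'])
  · exfalso
    have : Fact (Nat.Prime 2) := ⟨Nat.prime_two⟩
    have hcyc : IsCyclic C := isCyclic_of_prime_card h
    exact hab' (isMulCommutative_iff.1 (IsCyclic.isMulCommutative (α := C)) a' b')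
  · exfalso
    have : Fact (Nat.Prime 2) := ⟨Nat.prime_two⟩
    exact hab' (isMulCommutative_iff.1
      (IsPGroup.isMulCommutative_of_card_eq_prime_sq (p := 2) (by rw [h]; norm_num)) a' b')
  · exact h
  · rw [h] at hle; omega
  · rw [h] at hle; omega
  · rw [h] at hle; omega

/-- A noncentral involution. -/
theorem exists_invol (H : Fpf64 ρ) (x : MulAut T) (hx2 : ∀ t, x (x t) = t)
    (hxr : ∀ t, x (ρ t) = ρ (ρ (x t))) :
    ∃ e : T, e ∉ Subgroup.center T ∧ e * e = 1 := by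
  obtain ⟨w, u, hw, hw1, hxw, hfix, hu, hxu⟩ := H.exists_fixed x hx2 hxr
  obtain ⟨a, b, ha, hb, hab⟩ := H.exists_pair x hx2 hxr hw hw1 hfix hu hxu
  have hanc : a ∉ Subgroup.center T := by
    intro h
    rw [H.comm_center_left h] at hab
    exact hw1 hab.symm
  have hbnc : b ∉ Subgroup.center T := by
    intro h
    rw [H.comm_center_right h] at hab
    exact hw1 hab.symm
  have haa : a * a = 1 ∨ a * a = w := hfix _ (H.sq a) (by rw [map_mul, ha])
  have hbb : b * b = 1 ∨ b * b = w := hfix _ (H.sq b) (by rw [map_mul, hb])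
  rcases haa with haa | haa
  · exact ⟨a, hanc, haa⟩
  rcases hbb with hbb | hbb
  · exact ⟨b, hbnc, hbb⟩
  refine ⟨a * ρ b, ?_, ?_⟩
  · intro h
    have h1 : ⁅a, a * ρ b⁆ = 1 := H.comm_center_right h a
    rw [H.comm_mul_right, commutatorElement_self, one_mul, H.comm_rho_right, hab] at h1
    exact H.rho_ne_one (H.rho_ne_one hw1) h1
  · rw [H.sq_mul, haa, ← map_mul, hbb, H.comm_rho_left, H.comm_symm b a, hab]
    exact fpf3_prod H.fp w

/-- A noncentral involution is half of a hyperbolic pair. -/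
theorem exists_hyp (H : Fpf64 ρ) {e1 : T} (he1 : e1 ∉ Subgroup.center T) (he1sq : e1 * e1 = 1) :
    ∃ e2 : T, e2 * e2 = 1 ∧ ⁅e1, e2⁆ ≠ 1 := by
  obtain ⟨s, hs⟩ : ∃ s : T, ⁅e1, s⁆ ≠ 1 := by
    by_contra hcon
    push Not at hcon
    apply he1
    rw [Subgroup.mem_center_iff]
    intro g
    exact (commutatorElement_eq_one_iff_mul_comm.1 (hcon g)).symm
  have hc := H.comm_mem e1 s
  have hrr1 : ρ (ρ e1) * ρ (ρ e1) = 1 := by rw [← map_mul, ← map_mul, he1sq, map_one, map_one]
  have hr1 : ρ e1 * ρ e1 = 1 := by rw [← map_mul, he1sq, map_one]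
  rcases H.center_enum hc hs (H.sq s) with h | h | h | h
  · exact ⟨s, h, hs⟩
  · refine ⟨s * e1, ?_, ?_⟩
    · rw [H.sq_mul, h, he1sq, mul_one]
      exact H.comm_sq e1 s
    · rw [H.comm_mul_right, commutatorElement_self, mul_one]
      exact hs
  · refine ⟨s * ρ (ρ e1), ?_, ?_⟩
    · rw [H.sq_mul, h, hrr1, mul_one, H.comm_rho_left, H.comm_rho_left, H.fp.cube]
      exact H.expZ _ (H.rho_mem hc)
    · rw [H.comm_mul_right, H.comm_rho_right, H.comm_rho_self, map_one, map_one, mul_one]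
      exact hs
  · refine ⟨s * ρ e1, ?_, ?_⟩
    · rw [H.sq_mul, h, hr1, mul_one, H.comm_rho_left]
      exact H.expZ _ (H.rho_mem (H.rho_mem hc))
    · rw [H.comm_mul_right, H.comm_rho_self, mul_one]
      exact hs

end Fpf64

end Cfsg.Agent.Helper50
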