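import Mathlib

/-!
# Central extensions with the same squaring map are isomorphic

`SqExt P V W q` packages a group `P` with a surjective additive map `α : P → V` whose kernel is the
image of an injective central additive map `ζ : W → P`, such that `x * x = ζ (q (α x))` for all `x`.
Two finite groups carrying such a structure for the same `V`, `W` and `q` are isomorphic
(`SqExt.nonempty_mulEquiv`): inside `P × T` the fibre product over `V` has all its squares in the
diagonal copy of `W`, and a maximal subgroup meeting the kernel only in that diagonal is the graph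
of an isomorphism.
-/

set_option autoImplicit false

namespace Cfsg.Agent.Helper50

/-- A group `P` presented as a central extension of `V` by `W` with squaring map `q`. -/
structure SqExt (P V W : Type*) [Group P] [AddGroup V] [AddGroup W] (q : V → W) where
  /-- the projection to the quotient -/
  α : P → V
  /-- the parametrisation of the central kernel -/
  ζ : W → P
  α_mul : ∀ x y, α (x * y) = α x + α y
  α_surj : Function.Surjective α
  ζ_add : ∀ a b, ζ (a + b) = ζ a * ζ b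
  ζ_inj : Function.Injective ζ
  ζ_central : ∀ a x, ζ a * x = x * ζ a
  α_ζ : ∀ a, α (ζ a) = 0
  ker : ∀ x, α x = 0 → ∃ a, ζ a = x
  sq : ∀ x, x * x = ζ (q (α x))

namespace SqExt

variable {P T V W : Type*} [Group P] [Group T] [AddGroup V] [AddGroup W] {q : V → W}

theorem α_one (E : SqExt P V W q) : E.α 1 = 0 := by
  have h := E.α_mul 1 1
  rw [mul_one] at h
  have h2 : E.α 1 + 0 = E.α 1 + E.α 1 := by rw [add_zero]; exact h
  exact (add_left_cancel h2).symm

theorem α_inv (E : SqExt P V W q) (x : P) : E.α x⁻¹ = - E.α x := by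
  have h := E.α_mul x x⁻¹
  rw [mul_inv_cancel, E.α_one] at h
  exact (neg_eq_of_add_eq_zero_right h.symm).symm

theorem ζ_zero (E : SqExt P V W q) : E.ζ 0 = 1 := by
  have h := E.ζ_add 0 0
  rw [add_zero] at h
  have h2 : E.ζ 0 * 1 = E.ζ 0 * E.ζ 0 := by rw [mul_one]; exact h
  exact (mul_left_cancel h2).symm

theorem ζ_neg (E : SqExt P V W q) (a : W) : E.ζ (-a) = (E.ζ a)⁻¹ := by
  have h := E.ζ_add a (-a)
  rw [add_neg_cancel, E.ζ_zero] at h
  exact (inv_eq_of_mul_eq_one_right h.symm).symm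

/-- Two finite groups with the same quotient, the same central kernel and the same squaring map
are isomorphic. -/
theorem nonempty_mulEquiv [Finite P] [Finite T] (E : SqExt P V W q) (E' : SqExt T V W q) :
    Nonempty (P ≃* T) := by
  classical
  let D : Subgroup (P × T) :=
    { carrier := {d | E.α d.1 = E'.α d.2}
      one_mem' := by
        change E.α 1 = E'.α 1
        rw [E.α_one, E'.α_one]
      mul_mem' := by
        intro a b ha hb
        change E.α (a.1 * b.1) = E'.α (a.2 * b.2)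
        rw [E.α_mul, E'.α_mul, show E.α a.1 = E'.α a.2 from ha, show E.α b.1 = E'.α b.2 from hb]
      inv_mem' := by
        intro a ha
        change E.α (a.1⁻¹) = E'.α (a.2⁻¹)
        rw [E.α_inv, E'.α_inv, show E.α a.1 = E'.α a.2 from ha] }
  have hD : ∀ d : P × T, d ∈ D ↔ E.α d.1 = E'.α d.2 := fun d => Iff.rfl
  let inΔ : P × T → Prop := fun d => ∃ a : W, d = (E.ζ a, E'.ζ a)
  let inK : P × T → Prop := fun d => E.α d.1 = 0 ∧ E'.α d.2 = 0
  have hΔc : ∀ d, inΔ d → ∀ g : P × T, d * g = g * d := by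
    rintro d ⟨a, rfl⟩ g
    ext
    · exact E.ζ_central a g.1
    · exact E'.ζ_central a g.2
  have hΔmul : ∀ d e, inΔ d → inΔ e → inΔ (d * e) := by
    rintro d e ⟨a, rfl⟩ ⟨b, rfl⟩
    exact ⟨a + b, by rw [E.ζ_add, E'.ζ_add]; rfl⟩
  let Δs : Subgroup (P × T) :=
    { carrier := {d | inΔ d}
      one_mem' := ⟨0, by rw [E.ζ_zero, E'.ζ_zero]; rfl⟩
      mul_mem' := fun {a b} ha hb => hΔmul a b ha hb
      inv_mem' := by
        rintro d ⟨a, rfl⟩
        exact ⟨-a, by rw [E.ζ_neg, E'.ζ_neg]; rfl⟩ }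
  have hsq : ∀ d ∈ D, inΔ (d * d) := by
    intro d hd
    refine ⟨q (E.α d.1), ?_⟩
    ext
    · exact E.sq d.1
    · change d.2 * d.2 = E'.ζ (q (E.α d.1))
      rw [(hD d).1 hd]
      exact E'.sq d.2
  have hcomm : ∀ d ∈ D, ∀ c ∈ D, inΔ (d * c * d⁻¹ * c⁻¹) := by
    intro d hd c hc
    have h1 := hsq (d * c) (D.mul_mem hd hc)
    have h2 := hsq d⁻¹ (D.inv_mem hd)
    have h3 := hsq c⁻¹ (D.inv_mem hc)
    have h4 : d * c * d⁻¹ * c⁻¹ = (d * c) * (d * c) * (d⁻¹ * d⁻¹) * (c⁻¹ * c⁻¹) := by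
      have h5 := hΔc _ h2 c⁻¹
      calc d * c * d⁻¹ * c⁻¹ = d * c * d * (c * (c⁻¹ * (d⁻¹ * d⁻¹))) * c⁻¹ := by group
        _ = d * c * d * (c * ((d⁻¹ * d⁻¹) * c⁻¹)) * c⁻¹ := by rw [h5]
        _ = (d * c) * (d * c) * (d⁻¹ * d⁻¹) * (c⁻¹ * c⁻¹) := by group
    rw [h4]
    exact hΔmul _ _ (hΔmul _ _ h1 h2) h3
  have hK1 : inK 1 := ⟨E.α_one, E'.α_one⟩
  let pr : Subgroup (P × T) → Prop := fun C => (∀ d, inΔ d → d ∈ C) ∧ C ≤ D ∧
      ∀ d ∈ C, inK d → inΔ d
  have hp0 : pr Δs := by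
    refine ⟨fun d hd => hd, ?_, fun d hd _ => hd⟩
    rintro d ⟨a, rfl⟩
    change E.α (E.ζ a) = E'.α (E'.ζ a)
    rw [E.α_ζ, E'.α_ζ]
  obtain ⟨C, -, hCp, hmax⟩ := Finite.exists_le_maximal (p := pr) (a := Δs) hp0
  obtain ⟨hΔC, hCD, hCK⟩ : (∀ d, inΔ d → d ∈ C) ∧ C ≤ D ∧ ∀ d ∈ C, inK d → inΔ d := hCp
  have hnorm : ∀ c ∈ C, ∀ g ∈ D, g * c * g⁻¹ ∈ C := by
    intro c hc g hg
    have h1 := hcomm g hg c (hCD hc)
    have h2 : g * c * g⁻¹ = (g * c * g⁻¹ * c⁻¹) * c := by group
    rw [h2]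
    exact C.mul_mem (hΔC _ h1) hc
  have hcover : ∀ d ∈ D, ∃ c ∈ C, ∃ k, inK k ∧ d = c * k := by
    intro d hd
    by_contra hcon
    have hdd : d * d ∈ C := hΔC _ (hsq d hd)
    have hdd' : d⁻¹ * d⁻¹ ∈ C := hΔC _ (hsq d⁻¹ (D.inv_mem hd))
    let C' : Subgroup (P × T) :=
      { carrier := {g | g ∈ C ∨ g * d ∈ C}
        one_mem' := Or.inl C.one_mem
        mul_mem' := by
          rintro a b (ha | ha) (hb | hb)
          · exact Or.inl (C.mul_mem ha hb)
          · refine Or.inr ?_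
            have h : a * b * d = a * (b * d) := by group
            rw [h]
            exact C.mul_mem ha hb
          · refine Or.inr ?_
            have h : a * b * d = (a * d) * (d⁻¹ * b * d⁻¹⁻¹) := by group
            rw [h]
            exact C.mul_mem ha (hnorm b hb d⁻¹ (D.inv_mem hd))
          · refine Or.inl ?_
            have h : a * b = (a * d) * (d⁻¹ * (b * d) * d⁻¹⁻¹) * (d⁻¹ * d⁻¹) := by group
            rw [h]
            exact C.mul_mem (C.mul_mem ha (hnorm _ hb d⁻¹ (D.inv_mem hd))) hdd'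
        inv_mem' := by
          rintro a (ha | ha)
          · exact Or.inl (C.inv_mem ha)
          · refine Or.inr ?_
            have h : a⁻¹ * d = (d * (a * d)⁻¹ * d⁻¹) * (d * d) := by group
            rw [h]
            exact C.mul_mem (hnorm _ (C.inv_mem ha) d hd) hdd }
    have hCC' : C ≤ C' := fun g hg => Or.inl hg
    have hdC' : d ∈ C' := Or.inr hdd
    have hC'p : pr C' := by
      refine ⟨fun g hg => hCC' (hΔC g hg), ?_, ?_⟩
      · rintro g (hg | hg)
        · exact hCD hg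
        · have h : g = (g * d) * d⁻¹ := by group
          rw [h]
          exact D.mul_mem (hCD hg) (D.inv_mem hd)
      · rintro g (hg | hg) hgK
        · exact hCK g hg hgK
        · exfalso
          apply hcon
          refine ⟨g * d, hg, (g * d)⁻¹ * g⁻¹ * (g * d), ?_, by group⟩
          constructor
          · change E.α ((g * d).1⁻¹ * g.1⁻¹ * (g * d).1) = 0
            rw [E.α_mul, E.α_mul, E.α_inv, E.α_inv, hgK.1]
            simp
          · change E'.α ((g * d).2⁻¹ * g.2⁻¹ * (g * d).2) = 0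
            rw [E'.α_mul, E'.α_mul, E'.α_inv, E'.α_inv, hgK.2]
            simp
    have h := hmax hC'p hCC'
    exact hcon ⟨d, h hdC', 1, hK1, (mul_one d).symm⟩
  have hfst : ∀ x : P, ∃ t : T, (x, t) ∈ C := by
    intro x
    obtain ⟨t, ht⟩ := E'.α_surj (E.α x)
    obtain ⟨c, hc, k, hk, hdk⟩ := hcover (x, t) ((hD _).2 ht.symm)
    obtain ⟨a, ha⟩ := E.ker k.1 hk.1
    refine ⟨c.2 * E'.ζ a, ?_⟩
    have h1 : ((x, c.2 * E'.ζ a) : P × T) = c * (E.ζ a, E'.ζ a) := by
      ext
      · change x = c.1 * E.ζ a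
        rw [ha]
        exact congrArg Prod.fst hdk
      · rfl
    rw [h1]
    exact C.mul_mem hc (hΔC _ ⟨a, rfl⟩)
  have hsnd : ∀ t : T, ∃ x : P, (x, t) ∈ C := by
    intro t
    obtain ⟨x, hx⟩ := E.α_surj (E'.α t)
    obtain ⟨c, hc, k, hk, hdk⟩ := hcover (x, t) ((hD _).2 hx)
    obtain ⟨a, ha⟩ := E'.ker k.2 hk.2
    refine ⟨c.1 * E.ζ a, ?_⟩
    have h1 : ((c.1 * E.ζ a, t) : P × T) = c * (E.ζ a, E'.ζ a) := by
      ext
      · rfl
      · change t = c.2 * E'.ζ a
        rw [ha]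
        exact congrArg Prod.snd hdk
    rw [h1]
    exact C.mul_mem hc (hΔC _ ⟨a, rfl⟩)
  have hfst_uniq : ∀ (x : P) (t t' : T), (x, t) ∈ C → (x, t') ∈ C → t = t' := by
    intro x t t' h1 h2
    have h3 : ((x, t) : P × T)⁻¹ * (x, t') ∈ C := C.mul_mem (C.inv_mem h1) h2
    have h4 : ((x, t) : P × T)⁻¹ * (x, t') = (1, t⁻¹ * t') := by
      ext <;> simp
    rw [h4] at h3
    have h5 : inK ((1 : P), t⁻¹ * t') := by
      refine ⟨E.α_one, ?_⟩
      have h := (hD _).1 (hCD h3)
      change E.α 1 = E'.α (t⁻¹ * t') at h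
      rw [← h]
      exact E.α_one
    obtain ⟨a, ha⟩ := hCK _ h3 h5
    have h6 : E.ζ a = 1 := (congrArg Prod.fst ha).symm
    have h7 : a = 0 := E.ζ_inj (h6.trans E.ζ_zero.symm)
    have h8 : t⁻¹ * t' = E'.ζ a := congrArg Prod.snd ha
    rw [h7, E'.ζ_zero] at h8
    exact inv_mul_eq_one.1 h8
  have hsnd_uniq : ∀ (x x' : P) (t : T), (x, t) ∈ C → (x', t) ∈ C → x = x' := by
    intro x x' t h1 h2
    have h3 : ((x, t) : P × T)⁻¹ * (x', t) ∈ C := C.mul_mem (C.inv_mem h1) h2
    have h4 : ((x, t) : P × T)⁻¹ * (x', t) = (x⁻¹ * x', 1) := by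
      ext <;> simp
    rw [h4] at h3
    have h5 : inK (x⁻¹ * x', (1 : T)) := by
      refine ⟨?_, E'.α_one⟩
      have h := (hD _).1 (hCD h3)
      change E.α (x⁻¹ * x') = E'.α 1 at h
      change E.α (x⁻¹ * x') = 0
      rw [h]
      exact E'.α_one
    obtain ⟨a, ha⟩ := hCK _ h3 h5
    have h6 : E'.ζ a = 1 := (congrArg Prod.snd ha).symm
    have h7 : a = 0 := E'.ζ_inj (h6.trans E'.ζ_zero.symm)
    have h8 : x⁻¹ * x' = E.ζ a := congrArg Prod.fst ha
    rw [h7, E.ζ_zero] at h8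
    exact inv_mul_eq_one.1 h8
  choose f hf using hfst
  choose g hg using hsnd
  refine ⟨{ toFun := f, invFun := g, left_inv := ?_, right_inv := ?_, map_mul' := ?_ }⟩
  · intro x
    exact hsnd_uniq _ _ _ (hg (f x)) (hf x)
  · intro t
    exact hfst_uniq _ _ _ (hf (g t)) (hg t)
  · intro x y
    exact hfst_uniq _ _ _ (hf (x * y)) (C.mul_mem (hf x) (hf y))

end SqExt

end Cfsg.Agent.Helper50
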