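import Mathlib
import Cfsg.Agent.Helper50.Fpf3c
import Cfsg.Agent.Helper50.SqIso
import Cfsg.Agent.Helper98.F4

/-!
# Coordinates over the field with four elements

In the situation of `Fpf64 ρ`, a hyperbolic pair `e1, e2` (two involutions which do not commute)
gives the group the structure `SqExt T (F4 × F4) F4 (fun p => p.1 * p.2)`: the group is the
central extension of `F4 × F4` by `F4` with squaring map `(a, b) ↦ a * b`, i.e. the group of
upper unitriangular `3 × 3` matrices over the field with four elements.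
-/

set_option autoImplicit false
set_option linter.unusedSectionVars false
set_option linter.unusedVariables false

open scoped commutatorElement

namespace Cfsg.Agent.Helper50

open Cfsg.Agent.Helper98 (F4)

/-- The action of the field with four elements through `ρ`: `ω` acts as `ρ`. -/
def sc {T : Type*} [Group T] (ρ : MulAut T) : F4 → T → T
  | F4.z, _ => 1
  | F4.o, t => t
  | F4.w, t => ρ t
  | F4.v, t => ρ (ρ t)

namespace Fpf64

variable {T : Type*} [Group T] [Finite T] {ρ : MulAut T}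

theorem sc_sc (H : Fpf64 ρ) (a b : F4) (g : T) : sc ρ a (sc ρ b g) = sc ρ (a * b) g := by
  cases a <;> cases b <;> first
    | rfl
    | exact map_one ρ
    | exact H.fp.cube g
    | exact H.fp.cube (ρ g)
    | (show ρ (ρ 1) = 1; rw [map_one, map_one])

theorem sc_one (H : Fpf64 ρ) (a : F4) : sc ρ a (1 : T) = 1 := by
  cases a
  · rfl
  · rfl
  · exact map_one ρ
  · show ρ (ρ 1) = 1
    rw [map_one, map_one]

theorem sc_mul (H : Fpf64 ρ) (a : F4) (g k : T) : sc ρ a (g * k) = sc ρ a g * sc ρ a k := by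
  cases a
  · exact (one_mul 1).symm
  · rfl
  · exact map_mul ρ g k
  · show ρ (ρ (g * k)) = ρ (ρ g) * ρ (ρ k)
    rw [map_mul, map_mul]

theorem sc_mem (H : Fpf64 ρ) (a : F4) {g : T} (hg : g ∈ Subgroup.center T) :
    sc ρ a g ∈ Subgroup.center T := by
  cases a
  · exact Subgroup.one_mem _
  · exact hg
  · exact H.rho_mem hg
  · exact H.rho_mem (H.rho_mem hg)

theorem sc_comm_left (H : Fpf64 ρ) (a : F4) (u s : T) :
    ⁅sc ρ a u, s⁆ = sc ρ (a * a) ⁅u, s⁆ := by
  cases a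
  · exact commutatorElement_one_left s
  · rfl
  · exact H.comm_rho_left u s
  · show ⁅ρ (ρ u), s⁆ = ρ ⁅u, s⁆
    rw [H.comm_rho_left, H.comm_rho_left, H.fp.cube]

theorem sc_comm_right (H : Fpf64 ρ) (b : F4) (u s : T) :
    ⁅u, sc ρ b s⁆ = sc ρ (b * b) ⁅u, s⁆ := by
  rw [H.comm_symm, H.sc_comm_left, H.comm_symm]

theorem sc_add (H : Fpf64 ρ) (a b : F4) {g : T} (hg : g ∈ Subgroup.center T) :
    sc ρ (a + b) g = sc ρ a g * sc ρ b g := by
  have hr := H.rho_mem hg
  have hrr := H.rho_mem hr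
  have e1 : g * g = 1 := H.expZ g hg
  have e2 : ρ g * ρ g = 1 := H.expZ _ hr
  have e3 : ρ (ρ g) * ρ (ρ g) = 1 := H.expZ _ hrr
  have p1 : g * ρ g = ρ (ρ g) := H.prodZ hg
  have p2 : ρ g * ρ (ρ g) = g := by rw [H.prodZ hr, H.fp.cube]
  have p3 : ρ (ρ g) * g = ρ g := by
    have := H.prodZ hrr
    rw [H.fp.cube] at this
    exact this
  have c1 : ρ g * g = g * ρ g := Subgroup.mem_center_iff.1 hg (ρ g)
  have c2 : ρ (ρ g) * ρ g = ρ g * ρ (ρ g) := Subgroup.mem_center_iff.1 hr (ρ (ρ g))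
  have c3 : g * ρ (ρ g) = ρ (ρ g) * g := Subgroup.mem_center_iff.1 hrr g
  cases a <;> cases b <;> first
    | exact (one_mul _).symm
    | exact (mul_one _).symm
    | exact e1.symm
    | exact e2.symm
    | exact e3.symm
    | exact p1.symm
    | exact p2.symm
    | exact p3.symm
    | exact (c1.trans p1).symm
    | exact (c2.trans p2).symm
    | exact (c3.trans p3).symm

/-- **Coordinates**: a hyperbolic pair gives the structure of the unitriangular group. -/
theorem nonempty_sqExt (H : Fpf64 ρ) (e1 e2 : T) (h1 : e1 * e1 = 1) (h2 : e2 * e2 = 1)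
    (h12 : ⁅e1, e2⁆ ≠ 1) :
    Nonempty (SqExt T (F4 × F4) F4 (fun p => p.1 * p.2)) := by
  classical
  have hc := H.comm_mem e1 e2
  have hr := H.rho_mem hc
  have hrr := H.rho_mem hr
  have hrc : ρ ⁅e1, e2⁆ ≠ 1 := H.rho_ne_one h12
  have hrrc : ρ (ρ ⁅e1, e2⁆) ≠ 1 := H.rho_ne_one hrc
  have hcr : ρ ⁅e1, e2⁆ ≠ ⁅e1, e2⁆ := H.rho_ne h12
  have hcrr : ρ (ρ ⁅e1, e2⁆) ≠ ⁅e1, e2⁆ := H.rr_ne h12
  have hrrr : ρ (ρ ⁅e1, e2⁆) ≠ ρ ⁅e1, e2⁆ := H.rho_ne hrc
  obtain ⟨ζ, hζ⟩ : ∃ ζ : F4 → T, ζ = fun a => sc ρ (a * a) ⁅e1, e2⁆ := ⟨_, rfl⟩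
  have hζmem : ∀ a, ζ a ∈ Subgroup.center T := fun a => by rw [hζ]; exact H.sc_mem _ hc
  have hζadd : ∀ a b, ζ (a + b) = ζ a * ζ b := by
    intro a b
    rw [hζ]
    show sc ρ ((a + b) * (a + b)) ⁅e1, e2⁆ = sc ρ (a * a) ⁅e1, e2⁆ * sc ρ (b * b) ⁅e1, e2⁆
    have : (a + b) * (a + b) = a * a + b * b := by cases a <;> cases b <;> rfl
    rw [this, H.sc_add _ _ hc]
  have hζinj : Function.Injective ζ := by
    intro a b hab
    rw [hζ] at hab
    cases a <;> cases b <;> first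
      | rfl
      | exact absurd hab h12
      | exact absurd hab.symm h12
      | exact absurd hab hrc
      | exact absurd hab.symm hrc
      | exact absurd hab hrrc
      | exact absurd hab.symm hrrc
      | exact absurd hab hcr
      | exact absurd hab.symm hcr
      | exact absurd hab hcrr
      | exact absurd hab.symm hcrr
      | exact absurd hab hrrr
      | exact absurd hab.symm hrrr
  have hζsurj : ∀ z ∈ Subgroup.center T, ∃ a, ζ a = z := by
    intro z hz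
    rcases H.center_enum hc h12 hz with h | h | h | h
    · exact ⟨F4.z, by rw [hζ, h]; rfl⟩
    · exact ⟨F4.o, by rw [hζ, h]; rfl⟩
    · exact ⟨F4.v, by rw [hζ, h]; rfl⟩
    · exact ⟨F4.w, by rw [hζ, h]; rfl⟩
  have hζ0 : ζ 0 = 1 := by rw [hζ]; rfl
  obtain ⟨ζi, hζi⟩ : ∃ ζi : T → F4, ζi = fun g => if h : ∃ a, ζ a = g then h.choose else 0 :=
    ⟨_, rfl⟩
  have hi1 : ∀ a, ζi (ζ a) = a := by
    intro a
    have hex : ∃ a', ζ a' = ζ a := ⟨a, rfl⟩
    rw [hζi]
    show (if h : ∃ a', ζ a' = ζ a then h.choose else 0) = a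
    rw [dif_pos hex]
    exact hζinj hex.choose_spec
  have hi2 : ∀ g ∈ Subgroup.center T, ζ (ζi g) = g := by
    intro g hg
    obtain ⟨a, rfl⟩ := hζsurj g hg
    rw [hi1]
  have hi3 : ∀ g ∈ Subgroup.center T, ∀ k ∈ Subgroup.center T, ζi (g * k) = ζi g + ζi k := by
    intro g hg k hk
    apply hζinj
    rw [hi2 _ (Subgroup.mul_mem _ hg hk), hζadd, hi2 g hg, hi2 k hk]
  have hi0 : ζi 1 = 0 := by rw [← hζ0, hi1]
  obtain ⟨α, hα⟩ : ∃ α : T → F4 × F4, α = fun t => (ζi ⁅t, e2⁆, ζi ⁅e1, t⁆) := ⟨_, rfl⟩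
  have hαmul : ∀ x y, α (x * y) = α x + α y := by
    intro x y
    rw [hα]
    refine Prod.ext ?_ ?_
    · show ζi ⁅x * y, e2⁆ = ζi ⁅x, e2⁆ + ζi ⁅y, e2⁆
      rw [H.comm_mul_left, hi3 _ (H.comm_mem _ _) _ (H.comm_mem _ _)]
    · show ζi ⁅e1, x * y⁆ = ζi ⁅e1, x⁆ + ζi ⁅e1, y⁆
      rw [H.comm_mul_right, hi3 _ (H.comm_mem _ _) _ (H.comm_mem _ _)]
  have hαz : ∀ z ∈ Subgroup.center T, α z = 0 := by
    intro z hz
    rw [hα]
    refine Prod.ext ?_ ?_
    · show ζi ⁅z, e2⁆ = 0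
      rw [H.comm_center_left hz, hi0]
    · show ζi ⁅e1, z⁆ = 0
      rw [H.comm_center_right hz, hi0]
  have hαsc : ∀ a b : F4, α (sc ρ a e1 * sc ρ b e2) = (a, b) := by
    intro a b
    rw [hα]
    refine Prod.ext ?_ ?_
    · show ζi ⁅sc ρ a e1 * sc ρ b e2, e2⁆ = a
      rw [H.comm_mul_left, H.sc_comm_left, H.sc_comm_left, commutatorElement_self, H.sc_one,
        mul_one]
      have : sc ρ (a * a) ⁅e1, e2⁆ = ζ a := by rw [hζ]
      rw [this, hi1]
    · show ζi ⁅e1, sc ρ a e1 * sc ρ b e2⁆ = b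
      rw [H.comm_mul_right, H.sc_comm_right, H.sc_comm_right, commutatorElement_self, H.sc_one,
        one_mul]
      have : sc ρ (b * b) ⁅e1, e2⁆ = ζ b := by rw [hζ]
      rw [this, hi1]
  -- the decomposition
  have hdec : ∀ t : T, ∃ z ∈ Subgroup.center T, t = sc ρ (α t).1 e1 * sc ρ (α t).2 e2 * z := by
    have hinj : Function.Injective
        (fun p : F4 × F4 × Subgroup.center T => sc ρ p.1 e1 * sc ρ p.2.1 e2 * (p.2.2 : T)) := by
      rintro ⟨a, b, z⟩ ⟨a', b', z'⟩ hpq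
      have hpq' : sc ρ a e1 * sc ρ b e2 * (z : T) = sc ρ a' e1 * sc ρ b' e2 * (z' : T) := hpq
      have h3 := congrArg α hpq'
      rw [hαmul (sc ρ a e1 * sc ρ b e2) z, hαmul (sc ρ a' e1 * sc ρ b' e2) z', hαsc, hαsc,
        hαz _ z.2, hαz _ z'.2, add_zero, add_zero] at h3
      have ha : a = a' := congrArg Prod.fst h3
      have hb : b = b' := congrArg Prod.snd h3
      subst ha hb
      have hz : (z : T) = z' := mul_left_cancel hpq'
      rw [Subtype.ext hz]
    have hcard : Nat.card T ≤ Nat.card (F4 × F4 × Subgroup.center T) := by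
      rw [Nat.card_prod, Nat.card_prod, H.cardZ, H.card, Nat.card_eq_fintype_card, F4.card_eq]
    have hbij := hinj.bijective_of_nat_card_le hcard
    intro t
    obtain ⟨⟨a, b, z⟩, hp⟩ := hbij.2 t
    have hp' : sc ρ a e1 * sc ρ b e2 * (z : T) = t := hp
    have h3 : α t = (a, b) := by
      rw [← hp', hαmul (sc ρ a e1 * sc ρ b e2) z, hαsc, hαz _ z.2, add_zero]
    refine ⟨z, z.2, ?_⟩
    rw [h3, hp']
  refine ⟨{ α := α
            ζ := ζ
            α_mul := hαmul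
            α_surj := fun p => ⟨sc ρ p.1 e1 * sc ρ p.2 e2, hαsc p.1 p.2⟩
            ζ_add := hζadd
            ζ_inj := hζinj
            ζ_central := fun a x => (Subgroup.mem_center_iff.1 (hζmem a) x).symm
            α_ζ := fun a => hαz _ (hζmem a)
            ker := ?_
            sq := ?_ }⟩
  · intro x hx
    obtain ⟨z, hz, hxz⟩ := hdec x
    rw [hx] at hxz
    have hx' : x = z := by
      rw [hxz]
      show (1 : T) * 1 * z = z
      rw [one_mul, one_mul]
    rw [hx']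
    exact hζsurj z hz
  · intro x
    obtain ⟨z, hz, hxz⟩ := hdec x
    have hsq1 : ∀ a : F4, sc ρ a e1 * sc ρ a e1 = 1 := fun a => by
      rw [← H.sc_mul, h1, H.sc_one]
    have hsq2 : ∀ b : F4, sc ρ b e2 * sc ρ b e2 = 1 := fun b => by
      rw [← H.sc_mul, h2, H.sc_one]
    have hcomm : ⁅sc ρ (α x).2 e2, sc ρ (α x).1 e1⁆ = ζ ((α x).1 * (α x).2) := by
      rw [H.comm_symm, H.sc_comm_left, H.sc_comm_right, H.sc_sc, hζ]
      show sc ρ ((α x).1 * (α x).1 * ((α x).2 * (α x).2)) ⁅e1, e2⁆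
        = sc ρ ((α x).1 * (α x).2 * ((α x).1 * (α x).2)) ⁅e1, e2⁆
      congr 1
      ring
    conv_lhs => rw [hxz]
    rw [H.sq_mul, H.expZ z hz, mul_one, H.comm_center_left hz, mul_one, H.sq_mul, hsq1, hsq2,
      one_mul, one_mul, hcomm]

end Fpf64

end Cfsg.Agent.Helper50
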