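import Mathlib
import Cfsg.Agent.Helper50.Fpf3d

/-!
# The anisotropic case: groups of order 64 with a fixed-point-free automorphism of order three
all of whose involutions are central

`Fpf64.nonempty_sqExt_gen` generalises the coordinates of `Fpf3d` to an arbitrary pair with
nontrivial commutator; `Fpf64.nonempty_sqExt_aniso` applies it to a canonical pair in the
anisotropic case, so that any two such groups are isomorphic (`Fpf64.nonempty_mulEquiv_aniso`).
-/

set_option autoImplicit false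
set_option linter.unusedSectionVars false
set_option linter.unusedVariables false

open scoped commutatorElement

namespace Cfsg.Agent.Helper50

open Cfsg.Agent.Helper98 (F4)

namespace Fpf64

variable {T : Type*} [Group T] [Finite T] {ρ : MulAut T}

/-- **Coordinates, general form**: a pair `e1, e2` with nontrivial commutator `c`, with
`e1 * e1 = sc (A * A) c` and `e2 * e2 = sc (C * C) c`, presents the group as the central extension
of `F4 × F4` by `F4` with squaring map `(a, b) ↦ A a² + a b + C b²`. -/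
theorem nonempty_sqExt_gen (H : Fpf64 ρ) (e1 e2 : T) (A C : F4)
    (h1 : e1 * e1 = sc ρ (A * A) ⁅e1, e2⁆) (h2 : e2 * e2 = sc ρ (C * C) ⁅e1, e2⁆)
    (h12 : ⁅e1, e2⁆ ≠ 1) :
    Nonempty (SqExt T (F4 × F4) F4
      (fun p => A * (p.1 * p.1) + p.1 * p.2 + C * (p.2 * p.2))) := by
  classical
  have hc := H.comm_mem e1 e2
  have hr := H.rho_mem hc
  have hrr := H.rho_mem hr
  have hrc : ρ ⁅e1, e2⁆ ≠ 1 := H.rho_ne_one h12
  have hrrc : ρ (ρ ⁅e1, e2⁆) ≠ 1 := H.rho_ne_one hrc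
  have hcr : ρ ⁅e1, e2⁆ ≠ ⁅e1, e2⁆ := H.rho_ne h12
  have hcrr : ρ (ρ ⁅e1, e2⁆) ≠ ⁅e1, e2⁆ := H.rr_ne h12
  have hrrr : ρ (ρ ⁅e1, e2⁆) ≠ ρ ⁅e1, e2⁆ := H.rho_ne hrc
  obtain ⟨ζ, hζ⟩ : ∃ ζ : F4 → T, ζ = fun a => sc ρ (a * a) ⁅e1, e2⁆ := ⟨_, rfl⟩
  have hζmem : ∀ a, ζ a ∈ Subgroup.center T := fun a => by rw [hζ]; exact H.sc_mem _ hc
  have hζadd : ∀ a b, ζ (a + b) = ζ a * ζ b := by
    intro a b
    rw [hζ]
    show sc ρ ((a + b) * (a + b)) ⁅e1, e2⁆ = sc ρ (a * a) ⁅e1, e2⁆ * sc ρ (b * b) ⁅e1, e2⁆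
    have : (a + b) * (a + b) = a * a + b * b := by cases a <;> cases b <;> rfl
    rw [this, H.sc_add _ _ hc]
  have hζinj : Function.Injective ζ := by
    intro a b hab
    rw [hζ] at hab
    cases a <;> cases b <;> first
      | rfl
      | exact absurd hab h12
      | exact absurd hab.symm h12
      | exact absurd hab hrc
      | exact absurd hab.symm hrc
      | exact absurd hab hrrc
      | exact absurd hab.symm hrrc
      | exact absurd hab hcr
      | exact absurd hab.symm hcr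
      | exact absurd hab hcrr
      | exact absurd hab.symm hcrr
      | exact absurd hab hrrr
      | exact absurd hab.symm hrrr
  have hζsurj : ∀ z ∈ Subgroup.center T, ∃ a, ζ a = z := by
    intro z hz
    rcases H.center_enum hc h12 hz with h | h | h | h
    · exact ⟨F4.z, by rw [hζ, h]; rfl⟩
    · exact ⟨F4.o, by rw [hζ, h]; rfl⟩
    · exact ⟨F4.v, by rw [hζ, h]; rfl⟩
    · exact ⟨F4.w, by rw [hζ, h]; rfl⟩
  have hζ0 : ζ 0 = 1 := by rw [hζ]; rfl
  obtain ⟨ζi, hζi⟩ : ∃ ζi : T → F4, ζi = fun g => if h : ∃ a, ζ a = g then h.choose else 0 :=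
    ⟨_, rfl⟩
  have hi1 : ∀ a, ζi (ζ a) = a := by
    intro a
    have hex : ∃ a', ζ a' = ζ a := ⟨a, rfl⟩
    rw [hζi]
    show (if h : ∃ a', ζ a' = ζ a then h.choose else 0) = a
    rw [dif_pos hex]
    exact hζinj hex.choose_spec
  have hi2 : ∀ g ∈ Subgroup.center T, ζ (ζi g) = g := by
    intro g hg
    obtain ⟨a, rfl⟩ := hζsurj g hg
    rw [hi1]
  have hi3 : ∀ g ∈ Subgroup.center T, ∀ k ∈ Subgroup.center T, ζi (g * k) = ζi g + ζi k := by
    intro g hg k hk
    apply hζinj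
    rw [hi2 _ (Subgroup.mul_mem _ hg hk), hζadd, hi2 g hg, hi2 k hk]
  have hi0 : ζi 1 = 0 := by rw [← hζ0, hi1]
  obtain ⟨α, hα⟩ : ∃ α : T → F4 × F4, α = fun t => (ζi ⁅t, e2⁆, ζi ⁅e1, t⁆) := ⟨_, rfl⟩
  have hαmul : ∀ x y, α (x * y) = α x + α y := by
    intro x y
    rw [hα]
    refine Prod.ext ?_ ?_
    · show ζi ⁅x * y, e2⁆ = ζi ⁅x, e2⁆ + ζi ⁅y, e2⁆
      rw [H.comm_mul_left, hi3 _ (H.comm_mem _ _) _ (H.comm_mem _ _)]
    · show ζi ⁅e1, x * y⁆ = ζi ⁅e1, x⁆ + ζi ⁅e1, y⁆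
      rw [H.comm_mul_right, hi3 _ (H.comm_mem _ _) _ (H.comm_mem _ _)]
  have hαz : ∀ z ∈ Subgroup.center T, α z = 0 := by
    intro z hz
    rw [hα]
    refine Prod.ext ?_ ?_
    · show ζi ⁅z, e2⁆ = 0
      rw [H.comm_center_left hz, hi0]
    · show ζi ⁅e1, z⁆ = 0
      rw [H.comm_center_right hz, hi0]
  have hαsc : ∀ a b : F4, α (sc ρ a e1 * sc ρ b e2) = (a, b) := by
    intro a b
    rw [hα]
    refine Prod.ext ?_ ?_
    · show ζi ⁅sc ρ a e1 * sc ρ b e2, e2⁆ = a
      rw [H.comm_mul_left, H.sc_comm_left, H.sc_comm_left, commutatorElement_self, H.sc_one,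
        mul_one]
      have : sc ρ (a * a) ⁅e1, e2⁆ = ζ a := by rw [hζ]
      rw [this, hi1]
    · show ζi ⁅e1, sc ρ a e1 * sc ρ b e2⁆ = b
      rw [H.comm_mul_right, H.sc_comm_right, H.sc_comm_right, commutatorElement_self, H.sc_one,
        one_mul]
      have : sc ρ (b * b) ⁅e1, e2⁆ = ζ b := by rw [hζ]
      rw [this, hi1]
  -- the decomposition
  have hdec : ∀ t : T, ∃ z ∈ Subgroup.center T, t = sc ρ (α t).1 e1 * sc ρ (α t).2 e2 * z := by
    have hinj : Function.Injective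
        (fun p : F4 × F4 × Subgroup.center T => sc ρ p.1 e1 * sc ρ p.2.1 e2 * (p.2.2 : T)) := by
      rintro ⟨a, b, z⟩ ⟨a', b', z'⟩ hpq
      have hpq' : sc ρ a e1 * sc ρ b e2 * (z : T) = sc ρ a' e1 * sc ρ b' e2 * (z' : T) := hpq
      have h3 := congrArg α hpq'
      rw [hαmul (sc ρ a e1 * sc ρ b e2) z, hαmul (sc ρ a' e1 * sc ρ b' e2) z', hαsc, hαsc,
        hαz _ z.2, hαz _ z'.2, add_zero, add_zero] at h3
      have ha : a = a' := congrArg Prod.fst h3
      have hb : b = b' := congrArg Prod.snd h3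
      subst ha hb
      have hz : (z : T) = z' := mul_left_cancel hpq'
      rw [Subtype.ext hz]
    have hcard : Nat.card T ≤ Nat.card (F4 × F4 × Subgroup.center T) := by
      rw [Nat.card_prod, Nat.card_prod, H.cardZ, H.card, Nat.card_eq_fintype_card, F4.card_eq]
    have hbij := hinj.bijective_of_nat_card_le hcard
    intro t
    obtain ⟨⟨a, b, z⟩, hp⟩ := hbij.2 t
    have hp' : sc ρ a e1 * sc ρ b e2 * (z : T) = t := hp
    have h3 : α t = (a, b) := by
      rw [← hp', hαmul (sc ρ a e1 * sc ρ b e2) z, hαsc, hαz _ z.2, add_zero]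
    refine ⟨z, z.2, ?_⟩
    rw [h3, hp']
  refine ⟨{ α := α
            ζ := ζ
            α_mul := hαmul
            α_surj := fun p => ⟨sc ρ p.1 e1 * sc ρ p.2 e2, hαsc p.1 p.2⟩
            ζ_add := hζadd
            ζ_inj := hζinj
            ζ_central := fun a x => (Subgroup.mem_center_iff.1 (hζmem a) x).symm
            α_ζ := fun a => hαz _ (hζmem a)
            ker := ?_
            sq := ?_ }⟩
  · intro x hx
    obtain ⟨z, hz, hxz⟩ := hdec x
    rw [hx] at hxz
    have hx' : x = z := by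
      rw [hxz]
      show (1 : T) * 1 * z = z
      rw [one_mul, one_mul]
    rw [hx']
    exact hζsurj z hz
  · intro x
    obtain ⟨z, hz, hxz⟩ := hdec x
    have hsq1 : ∀ a : F4, sc ρ a e1 * sc ρ a e1 = ζ (A * (a * a)) := fun a => by
      rw [← H.sc_mul, h1, H.sc_sc, hζ]
      show sc ρ (a * (A * A)) ⁅e1, e2⁆ = sc ρ (A * (a * a) * (A * (a * a))) ⁅e1, e2⁆
      have : a * (A * A) = A * (a * a) * (A * (a * a)) := by cases a <;> cases A <;> rfl
      rw [this]
    have hsq2 : ∀ b : F4, sc ρ b e2 * sc ρ b e2 = ζ (C * (b * b)) := fun b => by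
      rw [← H.sc_mul, h2, H.sc_sc, hζ]
      show sc ρ (b * (C * C)) ⁅e1, e2⁆ = sc ρ (C * (b * b) * (C * (b * b))) ⁅e1, e2⁆
      have : b * (C * C) = C * (b * b) * (C * (b * b)) := by cases b <;> cases C <;> rfl
      rw [this]
    have hcomm : ⁅sc ρ (α x).2 e2, sc ρ (α x).1 e1⁆ = ζ ((α x).1 * (α x).2) := by
      rw [H.comm_symm, H.sc_comm_left, H.sc_comm_right, H.sc_sc, hζ]
      show sc ρ ((α x).1 * (α x).1 * ((α x).2 * (α x).2)) ⁅e1, e2⁆
        = sc ρ ((α x).1 * (α x).2 * ((α x).1 * (α x).2)) ⁅e1, e2⁆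
      congr 1
      ring
    conv_lhs => rw [hxz]
    rw [H.sq_mul, H.expZ z hz, mul_one, H.comm_center_left hz, mul_one, H.sq_mul, hsq1, hsq2,
      hcomm, ← hζadd, ← hζadd]
    show ζ (A * ((α x).1 * (α x).1) + C * ((α x).2 * (α x).2) + (α x).1 * (α x).2)
      = ζ (A * ((α x).1 * (α x).1) + (α x).1 * (α x).2 + C * ((α x).2 * (α x).2))
    rw [add_right_comm]

/-- In the anisotropic case (all involutions central) there is a canonical pair. -/
theorem exists_canon (H : Fpf64 ρ) (han : ∀ e : T, e * e = 1 → e ∈ Subgroup.center T) :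
    ∃ e1 e2 : T, ⁅e1, e2⁆ ≠ 1 ∧ e1 * e1 = ⁅e1, e2⁆ ∧ e2 * e2 = ρ ⁅e1, e2⁆ := by
  classical
  obtain ⟨e1, he1⟩ : ∃ e1 : T, e1 ∉ Subgroup.center T := by
    by_contra hcon
    push Not at hcon
    have htop : Subgroup.center T = ⊤ := (Subgroup.eq_top_iff' _).2 hcon
    have h4 := H.cardZ
    rw [htop, Subgroup.card_top, H.card] at h4
    omega
  have hc : e1 * e1 ∈ Subgroup.center T := H.sq e1
  have hc1 : e1 * e1 ≠ 1 := fun h => he1 (han e1 h)
  obtain ⟨s, hs⟩ : ∃ s : T, ⁅e1, s⁆ ≠ 1 := by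
    by_contra hcon
    push Not at hcon
    apply he1
    rw [Subgroup.mem_center_iff]
    intro g
    have := hcon g
    rw [commutatorElement_eq_one_iff_mul_comm] at this
    exact this.symm
  -- a partner with commutator `c`
  obtain ⟨g, hg⟩ : ∃ g : T, ⁅e1, g⁆ = e1 * e1 := by
    rcases H.center_enum hc hc1 (H.comm_mem e1 s) with h | h | h | h
    · exact absurd h hs
    · exact ⟨s, h⟩
    · refine ⟨ρ s, ?_⟩
      rw [H.comm_rho_right, h, H.fp.cube]
    · refine ⟨ρ (ρ s), ?_⟩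
      rw [H.comm_rho_right, H.comm_rho_right, h, H.fp.cube, H.fp.cube]
  have hgc : ⁅e1, g⁆ ≠ 1 := by rw [hg]; exact hc1
  have hgn : g ∉ Subgroup.center T := by
    intro h
    exact hgc (H.comm_center_right h e1)
  have hgg1 : g * g ≠ 1 := fun h => hgn (han g h)
  have hr := H.rho_mem hc
  have hrr := H.rho_mem hr
  have hcomm1 : ⁅e1, g * ρ e1⁆ = e1 * e1 := by
    rw [H.comm_mul_right, H.comm_rho_self, mul_one, hg]
  have hsq : (g * ρ e1) * (g * ρ e1) = (g * g) * ρ (e1 * e1) * ρ (ρ (e1 * e1)) := by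
    rw [H.sq_mul, H.comm_rho_left, hg, map_mul]
  rcases H.center_enum hc hc1 (H.sq g) with h | h | h | h
  · exact absurd h hgg1
  · -- impossible: `g * ρ e1` would be a noncentral involution
    exfalso
    have h1 : (g * ρ e1) * (g * ρ e1) = 1 := by
      rw [hsq, h]
      exact fpf3_prod H.fp (e1 * e1)
    have h2 := han _ h1
    have h3 := H.comm_center_right h2 e1
    rw [hcomm1] at h3
    exact hc1 h3
  · exact ⟨e1, g, hgc, hg.symm, by rw [hg]; exact h⟩
  · refine ⟨e1, g * ρ e1, by rw [hcomm1]; exact hc1, hcomm1.symm, ?_⟩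
    rw [hcomm1, hsq, h]
    have e1' : ρ (ρ (e1 * e1)) * ρ (e1 * e1) = ρ (e1 * e1) * ρ (ρ (e1 * e1)) :=
      Subgroup.mem_center_iff.1 hr _
    rw [e1', mul_assoc, H.expZ _ hrr, mul_one]

/-- **The anisotropic case**: coordinates with the anisotropic squaring map. -/
theorem nonempty_sqExt_aniso (H : Fpf64 ρ) (han : ∀ e : T, e * e = 1 → e ∈ Subgroup.center T) :
    Nonempty (SqExt T (F4 × F4) F4
      (fun p => F4.o * (p.1 * p.1) + p.1 * p.2 + F4.v * (p.2 * p.2))) := by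
  obtain ⟨e1, e2, h12, h1, h2⟩ := H.exists_canon han
  exact H.nonempty_sqExt_gen e1 e2 F4.o F4.v h1 h2 h12

/-- **Uniqueness**: two groups of order 64 with a fixed-point-free automorphism of order three
(nonabelian, so `Fpf64`) all of whose involutions are central are isomorphic. -/
theorem nonempty_mulEquiv_aniso {T' : Type*} [Group T'] [Finite T'] {ρ' : MulAut T'}
    (H : Fpf64 ρ) (H' : Fpf64 ρ') (han : ∀ e : T, e * e = 1 → e ∈ Subgroup.center T)
    (han' : ∀ e : T', e * e = 1 → e ∈ Subgroup.center T') : Nonempty (T ≃* T') := by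
  obtain ⟨E⟩ := H.nonempty_sqExt_aniso han
  obtain ⟨E'⟩ := H'.nonempty_sqExt_aniso han'
  exact SqExt.nonempty_mulEquiv E E'

end Fpf64

end Cfsg.Agent.Helper50
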