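import Mathlib
import Cfsg.Agent.Helper50.G320c
import Cfsg.Agent.Helper43.SylowSU3
import Cfsg.Agent.Helper88.SU3Model

/-!
# The centralizer of a transvection in `SU_3(4)`

The centralizer of the involution `t0` (the matrix swapping the first two coordinates) in
`SU_3(4)` has order 320 and satisfies the hypotheses of `unique_of_q64`.
-/

set_option autoImplicit false
set_option linter.unusedSectionVars false
set_option linter.unusedVariables false

namespace Cfsg.Agent.Helper50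
namespace G320d

open Matrix Cfsg.Agent.Helper43 Cfsg.Agent.Helper43.HeisGroup Cfsg.Agent.Helper43.UnitaryHeis
  Cfsg.Agent.Helper43.SylowSU3

variable {F : Type*} [Field F] [Fintype F] [CharP F 2]

theorem heis_apply' (v z : Fin 3 → F) (a b : F) (i j : Fin 3) :
    heis 4 v z a b i j = (1 : Matrix (Fin 3) (Fin 3) F) i j + a * (v i * z j ^ 4)
      - a ^ 4 * (z i * v j ^ 4) + b * (v i * v j ^ 4) := by
  unfold heis rk
  simp only [Matrix.add_apply, Matrix.sub_apply, Matrix.smul_apply, vecMulVec_apply,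
    smul_eq_mul]

theorem heis_explicit (a b : F) :
    heis 4 (![1, 1, 0] : Fin 3 → F) ![0, 0, 1] a b =
      !![1 + b, b, a; b, 1 + b, a; a ^ 4, a ^ 4, 1] := by
  ext i j
  rw [heis_apply']
  fin_cases i <;> fin_cases j <;> simp [CharTwo.neg_eq]

theorem rel01 : rel 4 (0 : F) 1 := by
  unfold rel
  simp
  exact CharTwo.add_self_eq_zero 1

/-- the matrix of an element of `SU_3` -/
abbrev mat (g : ↥(Cfsg.SU 3 F 4)) : Matrix (Fin 3) (Fin 3) F :=
  ((g : Matrix.SpecialLinearGroup (Fin 3) F) : Matrix (Fin 3) (Fin 3) F)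

theorem mat_mul (g h : ↥(Cfsg.SU 3 F 4)) : mat (g * h) = mat g * mat h := rfl

theorem mat_one : mat (1 : ↥(Cfsg.SU 3 F 4)) = 1 := rfl

theorem mat_inj {g h : ↥(Cfsg.SU 3 F 4)} (e : mat g = mat h) : g = h :=
  Subtype.ext (Subtype.ext e)

theorem mat_pow (g : ↥(Cfsg.SU 3 F 4)) (k : ℕ) : mat (g ^ k) = mat g ^ k := by
  induction k with
  | zero => rw [pow_zero, pow_zero]; rfl
  | succ k ih => rw [pow_succ, pow_succ, mat_mul, ih]

theorem frob4 (x : F) : iterateFrobenius F 2 2 x = x ^ 4 := by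
  rw [iterateFrobenius_def]; norm_num

theorem unitary_entry (g : ↥(Cfsg.SU 3 F 4)) (i j : Fin 3) :
    mat g 0 i * mat g 0 j ^ 4 + mat g 1 i * mat g 1 j ^ 4 + mat g 2 i * mat g 2 j ^ 4
      = (1 : Matrix (Fin 3) (Fin 3) F) i j := by
  have h := (Helper88.SU3.mem_SU_iff (iterateFrobenius F 2 2) frob4 g.1).1 g.2
  have h2 := congrFun (congrFun h i) j
  rw [Matrix.mul_apply, Fin.sum_univ_three] at h2
  simp only [Matrix.transpose_apply, Matrix.map_apply, frob4] at h2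
  exact h2

theorem det_entry (g : ↥(Cfsg.SU 3 F 4)) :
    mat g 0 0 * mat g 1 1 * mat g 2 2 - mat g 0 0 * mat g 1 2 * mat g 2 1
      - mat g 0 1 * mat g 1 0 * mat g 2 2 + mat g 0 1 * mat g 1 2 * mat g 2 0
      + mat g 0 2 * mat g 1 0 * mat g 2 1 - mat g 0 2 * mat g 1 1 * mat g 2 0 = 1 := by
  have h := g.1.2
  rw [Matrix.det_fin_three] at h
  exact h

section

variable (hF : Fintype.card F = 4 ^ 2)

/-- the involution -/
noncomputable def t0 : ↥(Cfsg.SU 3 F 4) :=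
  suElt hF (std_vv hF) (std_vz hF) (std_zz hF) 0 1 rel01

theorem mat_t0 : mat (t0 hF) = !![0, 1, 0; 1, 0, 0; 0, 0, 1] := by
  show heis 4 _ _ 0 1 = _
  rw [heis_explicit]
  have h2 : (1 : F) + 1 = 0 := CharTwo.add_self_eq_zero 1
  simp [h2]

theorem shape {g : ↥(Cfsg.SU 3 F 4)} (hg : g * t0 hF = t0 hF * g) :
    mat g 1 0 = mat g 0 1 ∧ mat g 1 1 = mat g 0 0 ∧ mat g 1 2 = mat g 0 2 ∧
      mat g 2 1 = mat g 2 0 := by
  have h := congrArg mat hg
  rw [mat_mul, mat_mul, mat_t0] at h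
  have h00 := congrFun (congrFun h 0) 0
  have h01 := congrFun (congrFun h 0) 1
  have h02 := congrFun (congrFun h 0) 2
  have h20 := congrFun (congrFun h 2) 0
  simp [Matrix.mul_apply, Fin.sum_univ_three] at h00 h01 h02 h20
  exact ⟨h00.symm, h01.symm, h02.symm, h20⟩


/-- the centralizer of the involution -/
abbrev C0 : Subgroup ↥(Cfsg.SU 3 F 4) := Subgroup.centralizer ({t0 hF} : Set ↥(Cfsg.SU 3 F 4))

theorem mem_C0 {g : ↥(Cfsg.SU 3 F 4)} : g ∈ C0 hF ↔ g * t0 hF = t0 hF * g := by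
  rw [Subgroup.mem_centralizer_iff]
  constructor
  · intro h; exact (h _ rfl).symm
  · intro h k hk
    rw [Set.mem_singleton_iff] at hk
    subst hk
    exact h.symm

/-- the character `g ↦ g₀₀ + g₀₁` of the centralizer -/
noncomputable def chi0 : ↥(C0 hF) →* F where
  toFun g := mat (g : ↥(Cfsg.SU 3 F 4)) 0 0 + mat (g : ↥(Cfsg.SU 3 F 4)) 0 1
  map_one' := by
    show mat (1 : ↥(Cfsg.SU 3 F 4)) 0 0 + mat (1 : ↥(Cfsg.SU 3 F 4)) 0 1 = 1
    rw [mat_one]; simp
  map_mul' := by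
    intro g h
    obtain ⟨h1, h2, h3, h4⟩ := shape hF ((mem_C0 hF).1 h.2)
    show mat (g.1 * h.1) 0 0 + mat (g.1 * h.1) 0 1 = _
    rw [mat_mul]
    simp only [Matrix.mul_apply, Fin.sum_univ_three]
    rw [h1, h2, h4]
    have h2' : (2 : F) = 0 := CharTwo.two_eq_zero
    linear_combination (mat g.1 0 2 * mat h.1 2 0) * h2'

theorem chi0_apply (g : ↥(C0 hF)) :
    chi0 hF g = mat (g : ↥(Cfsg.SU 3 F 4)) 0 0 + mat (g : ↥(Cfsg.SU 3 F 4)) 0 1 := rfl

/-- consequences of unitarity for an element of the centralizer -/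
theorem cent_facts {g : ↥(Cfsg.SU 3 F 4)} (hg : g * t0 hF = t0 hF * g) :
    (mat g 0 0 + mat g 0 1) ^ 5 = 1 ∧
    (mat g 0 0 + mat g 0 1) ^ 2 * mat g 2 2 = 1 ∧
    (mat g 0 0 + mat g 0 1) * mat g 0 2 ^ 4 + mat g 2 0 * mat g 2 2 ^ 4 = 0 ∧
    mat g 0 0 * mat g 0 1 ^ 4 + mat g 0 1 * mat g 0 0 ^ 4 + mat g 2 0 * mat g 2 0 ^ 4 = 0 := by
  obtain ⟨h1, h2, h3, h4⟩ := shape hF hg
  have h2' : (2 : F) = 0 := CharTwo.two_eq_zero
  have e00 := unitary_entry g 0 0
  have e01 := unitary_entry g 0 1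
  have e02 := unitary_entry g 0 2
  have hd := det_entry g
  rw [h1, h2, h3, h4] at hd
  rw [h1] at e00
  rw [h1, h2, h4] at e01
  rw [h1, h3] at e02
  simp only [Matrix.one_apply_eq] at e00
  rw [Matrix.one_apply_ne (by decide)] at e01 e02
  refine ⟨?_, ?_, ?_, ?_⟩
  · linear_combination e00 + e01 + (2 * mat g 0 0 ^ 4 * mat g 0 1
      + 5 * mat g 0 0 ^ 3 * mat g 0 1 ^ 2 + 5 * mat g 0 0 ^ 2 * mat g 0 1 ^ 3
      + 2 * mat g 0 0 * mat g 0 1 ^ 4 - mat g 2 0 * mat g 2 0 ^ 4) * h2'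
  · linear_combination hd + (mat g 0 0 * mat g 0 1 * mat g 2 2 + mat g 0 1 ^ 2 * mat g 2 2
      + mat g 0 0 * mat g 0 2 * mat g 2 0 - mat g 0 1 * mat g 0 2 * mat g 2 0) * h2'
  · linear_combination e02
  · linear_combination e01

include hF in
theorem pow16 (x : F) : x ^ 16 = x := by
  have := FiniteField.pow_card x
  rw [hF] at this
  norm_num at this
  exact this

/-- the kernel of the character consists of Heisenberg elements -/
theorem ker_heis {g : ↥(Cfsg.SU 3 F 4)} (hg : g * t0 hF = t0 hF * g)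
    (h1 : mat g 0 0 + mat g 0 1 = 1) :
    rel 4 (mat g 0 2) (mat g 0 1) ∧
      mat g = heis 4 (![1, 1, 0] : Fin 3 → F) ![0, 0, 1] (mat g 0 2) (mat g 0 1) := by
  obtain ⟨s1, s2, s3, s4⟩ := shape hF hg
  obtain ⟨f1, f2, f3, f4⟩ := cent_facts hF hg
  have h2' : (2 : F) = 0 := CharTwo.two_eq_zero
  rw [h1] at f2 f3
  have hε : mat g 2 2 = 1 := by linear_combination f2
  rw [hε] at f3
  have hδ : mat g 2 0 = mat g 0 2 ^ 4 := by
    linear_combination f3 - mat g 0 2 ^ 4 * h2'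
  have hα : mat g 0 0 = 1 + mat g 0 1 := by
    linear_combination h1 - mat g 0 1 * h2'
  have h16 := pow16 hF (mat g 0 2)
  constructor
  · unfold rel
    rw [hα, hδ] at f4
    linear_combination f4 - (mat g 0 1 ^ 5 + 2 * mat g 0 1 ^ 2 + 3 * mat g 0 1 ^ 3
      + 2 * mat g 0 1 ^ 4) * h2' - mat g 0 2 ^ 4 * h16
  · rw [heis_explicit]
    ext i j
    fin_cases i <;> fin_cases j <;> simp [s1, s2, s3, s4, hε, hδ, hα]

/-- Heisenberg elements commute with the involution and lie in the kernel of the character -/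
theorem heis_comm {g : ↥(Cfsg.SU 3 F 4)} {a b : F}
    (hm : mat g = heis 4 (![1, 1, 0] : Fin 3 → F) ![0, 0, 1] a b) :
    g * t0 hF = t0 hF * g ∧ mat g 0 0 + mat g 0 1 = 1 := by
  have h2' : (2 : F) = 0 := CharTwo.two_eq_zero
  constructor
  · apply mat_inj
    rw [mat_mul, mat_mul, mat_t0, hm, heis_explicit]
    ext i j
    fin_cases i <;> fin_cases j <;> simp [Matrix.mul_apply, Fin.sum_univ_three]
  · rw [hm, heis_explicit]
    simp
    linear_combination b * h2'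


/-- the Heisenberg subgroup -/
abbrev P0 : Subgroup ↥(Cfsg.SU 3 F 4) :=
  heisSubgroup hF (std_vv hF) (std_vz hF) (std_zz hF)

theorem mem_P0 {g : ↥(Cfsg.SU 3 F 4)} : g ∈ P0 hF ↔
    ∃ a b : F, rel 4 a b ∧ mat g = heis 4 (![1, 1, 0] : Fin 3 → F) ![0, 0, 1] a b := Iff.rfl

theorem P0_le_C0 : P0 hF ≤ C0 hF := by
  intro g hg
  obtain ⟨a, b, hab, hm⟩ := (mem_P0 hF).1 hg
  exact (mem_C0 hF).2 (heis_comm hF hm).1

/-- the kernel of the character is the Heisenberg subgroup -/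
theorem ker_chi0 : (chi0 hF).ker = (P0 hF).subgroupOf (C0 hF) := by
  ext g
  rw [MonoidHom.mem_ker, Subgroup.mem_subgroupOf, chi0_apply]
  constructor
  · intro h
    obtain ⟨h1, h2⟩ := ker_heis hF ((mem_C0 hF).1 g.2) h
    exact (mem_P0 hF).2 ⟨_, _, h1, h2⟩
  · intro h
    obtain ⟨a, b, hab, hm⟩ := (mem_P0 hF).1 h
    exact (heis_comm hF hm).2

/-- the Heisenberg parametrisation of the kernel -/
noncomputable def Hker : HeisParam F 4 ↥((P0 hF).subgroupOf (C0 hF)) :=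
  (heisParam hF (std_vv hF) (std_vz hF) (std_zz hF) std_v_ne).map
    (Subgroup.subgroupOfEquivOfLe (P0_le_C0 hF)).symm

theorem Hker_mat {a b : F} (hab : rel 4 a b) :
    mat (((Hker hF).u a b : ↥(C0 hF)) : ↥(Cfsg.SU 3 F 4)) =
      heis 4 (![1, 1, 0] : Fin 3 → F) ![0, 0, 1] a b := by
  have h1 : ((((Hker hF).u a b : ↥((P0 hF).subgroupOf (C0 hF))) : ↥(C0 hF)) : ↥(Cfsg.SU 3 F 4))
      = (((heisParam hF (std_vv hF) (std_vz hF) (std_zz hF) std_v_ne).u a b : ↥(P0 hF)) :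
        ↥(Cfsg.SU 3 F 4)) :=
    Subgroup.subgroupOfEquivOfLe_symm_apply_coe_coe (P0_le_C0 hF) _
  rw [h1]
  unfold heisParam
  simp only [dif_pos hab]
  rfl


include hF in
theorem exists_mu : ∃ μ : F, μ ^ 5 = 1 ∧ μ ≠ 1 := by
  classical
  have h15 : Fintype.card Fˣ = 15 := by rw [Fintype.card_units, hF]; norm_num
  have : Fact (Nat.Prime 5) := ⟨by norm_num⟩
  obtain ⟨u, hu⟩ := exists_prime_orderOf_dvd_card (G := Fˣ) 5 (by rw [h15]; norm_num)
  refine ⟨(u : F), ?_, ?_⟩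
  · have h1 := pow_orderOf_eq_one u
    rw [hu] at h1
    have h2 := congrArg Units.val h1
    rw [Units.val_pow_eq_pow_val, Units.val_one] at h2
    exact h2
  · intro h1
    have h2 : u = 1 := Units.ext h1
    rw [h2, orderOf_one] at hu
    omega

/-- the diagonal element -/
noncomputable def dS (μ : F) (hμ : μ ^ 5 = 1) : ↥(Cfsg.SU 3 F 4) :=
  ⟨⟨Matrix.diagonal ![μ, μ, μ ^ 3], by
      rw [Matrix.det_diagonal, Fin.prod_univ_three]
      simp only [Matrix.cons_val_zero, Matrix.cons_val_one, Matrix.cons_val_two,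
        Matrix.head_cons, Matrix.tail_cons]
      linear_combination hμ⟩,
    Helper36.diag_mem_SU _ _ (by
      intro i
      fin_cases i
      · exact hμ
      · exact hμ
      · show (μ ^ 3) ^ 5 = 1
        rw [← pow_mul, show 3 * 5 = 5 * 3 from rfl, pow_mul, hμ, one_pow])⟩

theorem mat_dS (μ : F) (hμ : μ ^ 5 = 1) : mat (dS μ hμ) = Matrix.diagonal ![μ, μ, μ ^ 3] := rfl

theorem dS_comm (μ : F) (hμ : μ ^ 5 = 1) : dS μ hμ * t0 hF = t0 hF * dS μ hμ := by
  apply mat_inj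
  rw [mat_mul, mat_mul, mat_t0, mat_dS]
  ext i j
  fin_cases i <;> fin_cases j <;> simp [Matrix.mul_apply, Fin.sum_univ_three]

theorem dS_pow (μ : F) (hμ : μ ^ 5 = 1) : dS μ hμ ^ 5 = 1 := by
  apply mat_inj
  rw [mat_pow, mat_dS, Matrix.diagonal_pow, mat_one, ← Matrix.diagonal_one]
  congr 1
  funext i
  fin_cases i
  · exact hμ
  · exact hμ
  · show (μ ^ 3) ^ 5 = 1
    rw [← pow_mul, show 3 * 5 = 5 * 3 from rfl, pow_mul, hμ, one_pow]


/-- the centralizer has order 320 and carries a `Q64` action -/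
theorem concrete : ∃ (T : Subgroup ↥(C0 hF)) (hT : T.Normal) (y : ↥(C0 hF)),
    Nat.card ↥(C0 hF) = 320 ∧ y ^ 5 = 1 ∧ y ∉ T ∧
      @Q64 ↥T _ (@MulAut.conjNormal ↥(C0 hF) _ T hT y) := by
  classical
  obtain ⟨μ, hμ, hμ1⟩ := exists_mu hF
  have hT : ((P0 hF).subgroupOf (C0 hF)).Normal := by rw [← ker_chi0]; infer_instance
  obtain ⟨y, hy⟩ : ∃ y : ↥(C0 hF), y = ⟨dS μ hμ, (mem_C0 hF).2 (dS_comm hF μ hμ)⟩ :=
    ⟨_, rfl⟩
  have hy5 : y ^ 5 = 1 := by
    rw [hy]
    apply Subtype.ext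
    exact dS_pow μ hμ
  have hχy : chi0 hF y = μ := by
    rw [chi0_apply, hy]
    show mat (dS μ hμ) 0 0 + mat (dS μ hμ) 0 1 = μ
    rw [mat_dS]
    simp
  have hyT : y ∉ (P0 hF).subgroupOf (C0 hF) := by
    rw [← ker_chi0, MonoidHom.mem_ker, hχy]
    exact hμ1
  have hcardT : Nat.card ↥((P0 hF).subgroupOf (C0 hF)) = 64 := by
    rw [card_eq hF (Hker hF)]
    norm_num
  have hcard : Nat.card ↥(C0 hF) = 320 := by
    obtain ⟨χ, hχ⟩ : ∃ χ : ↥(C0 hF) →* Fˣ, χ = (chi0 hF).toHomUnits := ⟨_, rfl⟩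
    have hχv : ∀ g, ((χ g : Fˣ) : F) = chi0 hF g := by
      intro g
      rw [hχ]
      exact MonoidHom.coe_toHomUnits _ _
    have hker : χ.ker = (P0 hF).subgroupOf (C0 hF) := by
      rw [← ker_chi0]
      ext g
      rw [MonoidHom.mem_ker, MonoidHom.mem_ker, ← hχv, Units.val_eq_one]
    have h1 := Subgroup.card_eq_card_quotient_mul_card_subgroup χ.ker
    have h3 : Nat.card ↥χ.ker = 64 := by rw [hker]; exact hcardT
    have h2 : Nat.card (↥(C0 hF) ⧸ χ.ker) = Nat.card ↥χ.range :=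
      Nat.card_congr (QuotientGroup.quotientKerEquivRange χ).toEquiv
    have h5 : ∀ u ∈ χ.range, u ^ 5 = 1 := by
      rintro _ ⟨g, rfl⟩
      apply Units.ext
      rw [Units.val_pow_eq_pow_val, hχv, chi0_apply, Units.val_one]
      exact (cent_facts hF ((mem_C0 hF).1 g.2)).1
    have hle : Nat.card ↥χ.range ≤ 5 := by
      have hc := IsCyclic.card_pow_eq_one_le (α := Fˣ) (n := 5) (by norm_num)
      refine le_trans ?_ hc
      rw [Nat.card_eq_fintype_card, ← Fintype.card_subtype]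
      apply Fintype.card_le_of_injective
        (fun u : ↥χ.range => (⟨u.1, h5 u.1 u.2⟩ : {a : Fˣ // a ^ 5 = 1}))
      intro u v huv
      have := congrArg (fun w : {a : Fˣ // a ^ 5 = 1} => (w : Fˣ)) huv
      exact Subtype.ext this
    have hdvd : 5 ∣ Nat.card ↥χ.range := by
      have ho : orderOf (χ y) = 5 := by
        have : Fact (Nat.Prime 5) := ⟨by norm_num⟩
        apply orderOf_eq_prime
        · apply Units.ext
          rw [Units.val_pow_eq_pow_val, hχv, hχy, Units.val_one]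
          exact hμ
        · intro h
          apply hμ1
          rw [← hχy, ← hχv, h, Units.val_one]
      have := orderOf_dvd_natCard (⟨χ y, ⟨y, rfl⟩⟩ : ↥χ.range)
      have e : orderOf (⟨χ y, ⟨y, rfl⟩⟩ : ↥χ.range) = orderOf (χ y) :=
        Subgroup.orderOf_mk _ _
      rw [e, ho] at this
      exact this
    have hpos : 0 < Nat.card ↥χ.range := Nat.card_pos
    have h5' : Nat.card ↥χ.range = 5 := by
      obtain ⟨k, hk⟩ := hdvd
      omega
    rw [h1, h2, h5', h3]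
  refine ⟨(P0 hF).subgroupOf (C0 hF), hT, y, hcard, hy5, hyT, ?_⟩
  refine ⟨hcardT, ?_, ?_, ?_, ?_, ?_⟩
  · rw [card_center hF (Hker hF)]
  · exact fun z hz => center_mul_self hF (Hker hF) z hz
  · intro t
    apply Subtype.ext
    exact cj_five hy5 _
  · intro t ht
    obtain ⟨a, b, hab, hu⟩ := (Hker hF).surj t
    rw [← hu, mem_center_iff hF (Hker hF) hab]
    have h1 : y * (t : ↥(C0 hF)) * y⁻¹ = t := congrArg Subtype.val ht
    have h2 : y * (t : ↥(C0 hF)) = t * y := by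
      calc y * (t : ↥(C0 hF)) = (y * (t : ↥(C0 hF)) * y⁻¹) * y := by group
        _ = t * y := by rw [h1]
    have h3 : mat ((y : ↥(C0 hF)) : ↥(Cfsg.SU 3 F 4)) *
        mat ((t : ↥(C0 hF)) : ↥(Cfsg.SU 3 F 4)) =
        mat ((t : ↥(C0 hF)) : ↥(Cfsg.SU 3 F 4)) * mat ((y : ↥(C0 hF)) : ↥(Cfsg.SU 3 F 4)) :=
      congrArg (fun x : ↥(C0 hF) => mat (x : ↥(Cfsg.SU 3 F 4))) h2
    rw [← hu, Hker_mat hF hab, hy] at h3
    change mat (dS μ hμ) * _ = _ * mat (dS μ hμ) at h3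
    rw [mat_dS, heis_explicit] at h3
    have h4 := congrFun (congrFun h3 0) 2
    simp [Matrix.mul_apply, Fin.sum_univ_three] at h4
    by_contra ha
    have hμ3 : μ = μ ^ 3 := by
      apply mul_right_cancel₀ ha
      rw [h4, mul_comm]
    apply hμ1
    calc μ = μ ^ 3 := hμ3
      _ = μ ^ 2 * μ := by ring
      _ = μ ^ 2 * μ ^ 3 := by rw [← hμ3]
      _ = μ ^ 5 := by ring
      _ = 1 := hμ
  · exact (commutator_eq_center hF (Hker hF)).ge


theorem orderOf_t0 : orderOf (t0 hF) = 2 := by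
  have : Fact (Nat.Prime 2) := ⟨Nat.prime_two⟩
  apply orderOf_eq_prime
  · apply mat_inj
    rw [mat_pow, mat_t0, mat_one, pow_two]
    ext i j
    fin_cases i <;> fin_cases j <;> simp [Matrix.mul_apply, Fin.sum_univ_three]
  · intro h
    have h1 := congrArg (fun g => mat g 0 0) h
    simp only [mat_t0, mat_one] at h1
    simp at h1

end

/-- an isomorphism maps centralizers to centralizers -/
def centEquiv {A B : Type*} [Group A] [Group B] (e : A ≃* B) (t : A) :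
    ↥(Subgroup.centralizer ({t} : Set A)) ≃* ↥(Subgroup.centralizer ({e t} : Set B)) where
  toFun g := ⟨e g.1, by
    rw [Subgroup.mem_centralizer_iff]
    intro k hk
    rw [Set.mem_singleton_iff] at hk
    subst hk
    have := (Subgroup.mem_centralizer_iff.1 g.2) t rfl
    rw [← map_mul, ← map_mul, this]⟩
  invFun h := ⟨e.symm h.1, by
    rw [Subgroup.mem_centralizer_iff]
    intro k hk
    rw [Set.mem_singleton_iff] at hk
    subst hk
    have := (Subgroup.mem_centralizer_iff.1 h.2) (e k) rfl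
    apply e.injective
    rw [map_mul, map_mul, MulEquiv.apply_symm_apply, this]⟩
  left_inv g := Subtype.ext (e.symm_apply_apply _)
  right_inv h := Subtype.ext (e.apply_symm_apply _)
  map_mul' g h := Subtype.ext (map_mul e _ _)

end G320d
end Cfsg.Agent.Helper50
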