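import Cfsg.Agent.Helper46.Kieler
import Cfsg.Agent.Helper49.AxB
import Cfsg.Agent.Helper66.PGroupMisc
import Cfsg.Agent.Helper50.Basic
import Cfsg.Prelude.Def_LocalStructure

set_option autoImplicit false

namespace Cfsg.Agent.Helper50

open Cfsg

variable {G : Type*} [Group G] {p : ℕ}

/-- centralizers are contained in normalizers (set-normalizer form). -/
theorem centralizer_le_normalizer' (R : Subgroup G) :
    Subgroup.centralizer (R : Set G) ≤ Subgroup.normalizer (R : Set G) := by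
  rw [Subgroup.le_normalizer_iff]
  intro c hc r hr
  have h := Subgroup.mem_centralizer_iff.mp hc r hr
  have : c * r * c⁻¹ = r := by rw [← h]; group
  rw [this]; exact hr

/-- In a finite group of characteristic `p`, the normalizer of a `p`-subgroup has characteristic `p`. -/
theorem charP_normalizer [Finite G] [Fact p.Prime]
    (hG : Subgroup.centralizer (pCore p G : Set G) ≤ pCore p G) (R : Subgroup G) (hR : IsPGroup p R) :
    Subgroup.centralizer (pCore p ↥(Subgroup.normalizer (R : Set G)) :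
        Set ↥(Subgroup.normalizer (R : Set G))) ≤
      pCore p ↥(Subgroup.normalizer (R : Set G)) := by
  apply Helper49.centralizer_pCore_le_of_coprime_trivial _ (fun g _ => isOfFinOrder_of_finite g)
  intro y hyN hyC hcop
  have hRQ : R ≤ (pCore p ↥(Subgroup.normalizer (R : Set G))).map
      (Subgroup.normalizer (R : Set G)).subtype :=
    Helper49.le_map_pCore Subgroup.le_normalizer le_rfl hR
  have hyR : y ∈ Subgroup.centralizer (R : Set G) := Subgroup.centralizer_le hRQ hyC
  apply Helper49.eq_one_of_centralizes_of_charp hG hR hyR hcop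
  intro u hu huR
  have hD : pCore p G ⊓ Subgroup.centralizer (R : Set G) ≤
      (pCore p ↥(Subgroup.normalizer (R : Set G))).map (Subgroup.normalizer (R : Set G)).subtype := by
    apply Helper49.le_map_pCore
    · exact inf_le_right.trans (centralizer_le_normalizer' R)
    · refine le_trans ?_ Subgroup.inf_normalizer_le_normalizer_inf
      refine le_inf ?_ (Helper49.normalizer_le_normalizer_centralizer R)
      have := Helper49.pCore_normal' p G
      exact le_of_le_of_eq le_top (Subgroup.normalizer_eq_top (H := pCore p G)).symm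
    · exact (Helper49.pCore_isPGroup p G).to_inf_left
  exact (Subgroup.mem_centralizer_iff.mp hyC u (hD ⟨hu, huR⟩)).symm

/-- Characteristic `p` is transported between subgroups of subgroups with the same image. -/
theorem charP_congr {X Y : Subgroup G} (A : Subgroup ↥X) (B : Subgroup ↥Y)
    (h : A.map X.subtype = B.map Y.subtype)
    (hA : Subgroup.centralizer (pCore p ↥A : Set ↥A) ≤ pCore p ↥A) :
    Subgroup.centralizer (pCore p ↥B : Set ↥B) ≤ pCore p ↥B := by
  have e1 : ↥A ≃* ↥(A.map X.subtype) := A.equivMapOfInjective X.subtype X.subtype_injective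
  have e2 : ↥(A.map X.subtype) ≃* ↥(B.map Y.subtype) := MulEquiv.subgroupCongr h
  have e3 : ↥B ≃* ↥(B.map Y.subtype) := B.equivMapOfInjective Y.subtype Y.subtype_injective
  exact Helper46.charP_of_mulEquiv ((e1.trans e2).trans e3.symm) hA

/-- Characteristic `p` is transported from a subgroup of a subgroup to its image. -/
theorem charP_map {X : Subgroup G} (A : Subgroup ↥X) (B : Subgroup G)
    (h : A.map X.subtype = B)
    (hA : Subgroup.centralizer (pCore p ↥A : Set ↥A) ≤ pCore p ↥A) :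
    Subgroup.centralizer (pCore p ↥B : Set ↥B) ≤ pCore p ↥B := by
  have e1 : ↥A ≃* ↥(A.map X.subtype) := A.equivMapOfInjective X.subtype X.subtype_injective
  have e2 : ↥(A.map X.subtype) ≃* ↥B := MulEquiv.subgroupCongr h
  exact Helper46.charP_of_mulEquiv (e1.trans e2) hA

/-- In a finite group of characteristic `p`, the centralizer of a `p`-subgroup has characteristic `p`. -/
theorem charP_centralizer [Finite G] [Fact p.Prime]
    (hG : Subgroup.centralizer (pCore p G : Set G) ≤ pCore p G) (R : Subgroup G) (hR : IsPGroup p R) :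
    Subgroup.centralizer (pCore p ↥(Subgroup.centralizer (R : Set G)) :
        Set ↥(Subgroup.centralizer (R : Set G))) ≤
      pCore p ↥(Subgroup.centralizer (R : Set G)) := by
  have hN := charP_normalizer hG R hR
  have hnorm : ((Subgroup.centralizer (R : Set G)).subgroupOf
      (Subgroup.normalizer (R : Set G))).Normal := by
    rw [Subgroup.normal_subgroupOf_iff_le_normalizer (centralizer_le_normalizer' R)]
    exact Helper49.normalizer_le_normalizer_centralizer R
  have h1 := Helper46.charP_of_normal hN ((Subgroup.centralizer (R : Set G)).subgroupOf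
      (Subgroup.normalizer (R : Set G)))
  refine charP_map _ _ ?_ h1
  rw [Subgroup.subgroupOf_map_subtype]
  exact inf_eq_left.mpr (centralizer_le_normalizer' R)

/-- Relative version: if the subgroup `L` has characteristic `p` and `R ≤ L` is a `p`-subgroup with
`C_G(R) ≤ L`, then `C_G(R)` has characteristic `p`. -/
theorem charP_centralizer_of_le [Finite G] [Fact p.Prime] (L : Subgroup G)
    (hL : Subgroup.centralizer (pCore p ↥L : Set ↥L) ≤ pCore p ↥L) (R : Subgroup G)
    (hR : IsPGroup p R) (hRL : R ≤ L) (hCL : Subgroup.centralizer (R : Set G) ≤ L) :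
    Subgroup.centralizer (pCore p ↥(Subgroup.centralizer (R : Set G)) :
        Set ↥(Subgroup.centralizer (R : Set G))) ≤
      pCore p ↥(Subgroup.centralizer (R : Set G)) := by
  have hR' : IsPGroup p (R.subgroupOf L) := hR.comap_subtype
  have h1 := charP_centralizer hL (R.subgroupOf L) hR'
  refine charP_map _ _ ?_ h1
  ext x
  constructor
  · rintro ⟨y, hy, rfl⟩
    rw [Subgroup.mem_centralizer_iff]
    intro r hr
    have := Subgroup.mem_centralizer_iff.mp hy ⟨r, hRL hr⟩ (Subgroup.mem_subgroupOf.mpr hr)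
    exact congrArg Subtype.val this
  · intro hx
    refine ⟨⟨x, hCL hx⟩, ?_, rfl⟩
    rw [SetLike.mem_coe, Subgroup.mem_centralizer_iff]
    intro r hr
    exact Subtype.ext (Subgroup.mem_centralizer_iff.mp hx r (Subgroup.mem_subgroupOf.mp hr))

/-- Commuting with `z` gives membership in the centralizer of `zpowers z`. -/
theorem mem_centralizer_zpowers {x z : G} (h : z * x = x * z) :
    x ∈ Subgroup.centralizer (Subgroup.zpowers z : Set G) := by
  rw [Subgroup.mem_centralizer_iff]
  rintro _ ⟨k, rfl⟩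
  exact ((show Commute z x from h).zpow_left k).eq

open scoped Pointwise in
/-- Key step for parabolic characteristic `p` of subnormal subgroups: if `G` has parabolic
characteristic `p`, `G₁` is subnormal with `Z(S ∩ G₁) ≤ Z(S)`, and `R₁` is a nontrivial `p`-subgroup
of `G₁` whose normalizer in `G₁` contains a Sylow `p`-subgroup of `G₁`, then `C_{G₁}(R₁)` has
characteristic `p`. -/
theorem charP_centralizer_subnormal [Finite G] [Fact p.Prime]
    (hG : Cfsg.IsOfParabolicCharacteristic p G) (S : Sylow p G) (G₁ : Subgroup G)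
    (hsn : G₁.IsSubnormal)
    (hle : ((S : Subgroup G) ⊓ G₁) ⊓
        Subgroup.centralizer (((S : Subgroup G) ⊓ G₁ : Subgroup G) : Set G) ≤
      (S : Subgroup G) ⊓ Subgroup.centralizer ((S : Subgroup G) : Set G))
    (R₁ : Subgroup ↥G₁) (hR₁ : IsPGroup p R₁) (hR₁ne : R₁ ≠ ⊥) (T₁ : Sylow p ↥G₁)
    (hT₁ : (T₁ : Subgroup ↥G₁) ≤ Subgroup.normalizer (R₁ : Set ↥G₁)) :
    Subgroup.centralizer (pCore p ↥(Subgroup.centralizer (R₁ : Set ↥G₁)) :
        Set ↥(Subgroup.centralizer (R₁ : Set ↥G₁))) ≤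
      pCore p ↥(Subgroup.centralizer (R₁ : Set ↥G₁)) := by
  obtain ⟨S', hS'⟩ := Helper46.exists_sylow_subgroupOf_isSubnormal S hsn
  obtain ⟨g, hg⟩ := MulAction.exists_smul_eq ↥G₁ T₁ S'
  have hgT : (↑(g • T₁) : Subgroup ↥G₁) = MulAut.conj g • (T₁ : Subgroup ↥G₁) := rfl
  -- `R₁ ≤ T₁`
  have hRT : R₁ ≤ (T₁ : Subgroup ↥G₁) := by
    have hsup : IsPGroup p (R₁ ⊔ (T₁ : Subgroup ↥G₁) : Subgroup ↥G₁) :=
      hR₁.to_sup_of_normal_left' T₁.isPGroup' hT₁
    have := T₁.is_maximal' hsup le_sup_right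
    rw [← this]; exact le_sup_left
  -- a nontrivial element of `R₁` central in `T₁`
  have hnorm : (R₁.subgroupOf (T₁ : Subgroup ↥G₁)).Normal :=
    (Subgroup.normal_subgroupOf_iff_le_normalizer hRT).mpr hT₁
  have hne' : R₁.subgroupOf (T₁ : Subgroup ↥G₁) ≠ ⊥ := by
    intro h
    rw [Subgroup.subgroupOf_eq_bot] at h
    exact hR₁ne (h.eq_bot_of_le hRT)
  obtain ⟨z, hzR, hz1, hzc⟩ := Helper66.exists_mem_center_of_normal p T₁.isPGroup'
    (R₁.subgroupOf (T₁ : Subgroup ↥G₁)) hne'
  have hz₁R : (z : ↥G₁) ∈ R₁ := Subgroup.mem_subgroupOf.mp hzR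
  have hz₁ne : (z : ↥G₁) ≠ 1 := fun h => hz1 (Subtype.ext h)
  have hz₁c : ∀ t ∈ (T₁ : Subgroup ↥G₁), t * (z : ↥G₁) = (z : ↥G₁) * t := fun t ht =>
    congrArg Subtype.val (Subgroup.mem_center_iff.mp hzc ⟨t, ht⟩)
  -- the conjugate `w = g z g⁻¹` lies in `Z(S ∩ G₁)`
  have hwS' : g * (z : ↥G₁) * g⁻¹ ∈ (S' : Subgroup ↥G₁) := by
    have h1 : MulAut.conj g • (z : ↥G₁) ∈ MulAut.conj g • (T₁ : Subgroup ↥G₁) :=
      Subgroup.smul_mem_pointwise_smul _ _ _ z.2
    rw [← hgT, hg] at h1
    simpa using h1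
  have hwc : ∀ s ∈ (S' : Subgroup ↥G₁), s * (g * (z : ↥G₁) * g⁻¹) = (g * (z : ↥G₁) * g⁻¹) * s := by
    intro s hs
    rw [← hg, hgT, Subgroup.mem_pointwise_smul_iff_inv_smul_mem] at hs
    have hs' : g⁻¹ * s * g ∈ (T₁ : Subgroup ↥G₁) := by simpa using hs
    have h2 := hz₁c _ hs'
    calc s * (g * (z : ↥G₁) * g⁻¹) = g * (g⁻¹ * s * g * (z : ↥G₁)) * g⁻¹ := by group
      _ = g * ((z : ↥G₁) * (g⁻¹ * s * g)) * g⁻¹ := by rw [h2]
      _ = (g * (z : ↥G₁) * g⁻¹) * s := by group
  have hw'S : ∀ s ∈ (S : Subgroup G),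
      s * ((g : G) * ((z : ↥G₁) : G) * (g : G)⁻¹) = ((g : G) * ((z : ↥G₁) : G) * (g : G)⁻¹) * s := by
    have hmem : (g : G) * ((z : ↥G₁) : G) * (g : G)⁻¹ ∈ ((S : Subgroup G) ⊓ G₁) ⊓
        Subgroup.centralizer (((S : Subgroup G) ⊓ G₁ : Subgroup G) : Set G) := by
      have h1 : (g : G) * ((z : ↥G₁) : G) * (g : G)⁻¹ ∈ (S : Subgroup G) := by
        have := hwS'
        rw [hS', Subgroup.mem_subgroupOf] at this
        simpa using this
      have h2 : (g : G) * ((z : ↥G₁) : G) * (g : G)⁻¹ ∈ G₁ := (g * (z : ↥G₁) * g⁻¹).2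
      have h3 : (g : G) * ((z : ↥G₁) : G) * (g : G)⁻¹ ∈
          Subgroup.centralizer (((S : Subgroup G) ⊓ G₁ : Subgroup G) : Set G) := by
        rw [Subgroup.mem_centralizer_iff]
        intro s hs
        have hsS' : (⟨s, hs.2⟩ : ↥G₁) ∈ (S' : Subgroup ↥G₁) := by
          rw [hS', Subgroup.mem_subgroupOf]; exact hs.1
        have := congrArg Subtype.val (hwc _ hsS')
        simpa using this
      exact ⟨⟨h1, h2⟩, h3⟩
    exact fun s hs => Subgroup.mem_centralizer_iff.mp (hle hmem).2 s hs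
  -- a Sylow `p`-subgroup of `G` centralizing `z`
  have hPc : ∀ x ∈ (S : Subgroup G).map (MulAut.conj (g : G)⁻¹).toMonoidHom,
      ((z : ↥G₁) : G) * x = x * ((z : ↥G₁) : G) := by
    intro x hx
    obtain ⟨s, hs, rfl⟩ := (mem_map_conj _ _ _).mp hx
    have h2 := hw'S s hs
    calc ((z : ↥G₁) : G) * ((g : G)⁻¹ * s * (g : G)⁻¹⁻¹)
        = (g : G)⁻¹ * (((g : G) * ((z : ↥G₁) : G) * (g : G)⁻¹) * s) * (g : G) := by group
      _ = (g : G)⁻¹ * (s * ((g : G) * ((z : ↥G₁) : G) * (g : G)⁻¹)) * (g : G) := by rw [h2]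
      _ = ((g : G)⁻¹ * s * (g : G)⁻¹⁻¹) * ((z : ↥G₁) : G) := by group
  have hU : IsPGroup p (Subgroup.zpowers (((z : ↥G₁) : G))) := by
    have h1 : IsPGroup p (R₁.map G₁.subtype) := hR₁.map _
    exact h1.to_le (Subgroup.zpowers_le.mpr ⟨(z : ↥G₁), hz₁R, rfl⟩)
  have hUne : Subgroup.zpowers (((z : ↥G₁) : G)) ≠ ⊥ := by
    rw [Subgroup.zpowers_ne_bot]
    intro h
    exact hz₁ne (Subtype.ext h)
  have hL := hG _ hU hUne ⟨Sylow.ofCard ((S : Subgroup G).map (MulAut.conj (g : G)⁻¹).toMonoidHom)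
      (by rw [card_map_conj, S.card_eq_multiplicity]), by
    rw [Sylow.coe_ofCard]
    exact fun x hx => centralizer_le_normalizer' _ (mem_centralizer_zpowers (hPc x hx))⟩
  have hRL : R₁.map G₁.subtype ≤
      Subgroup.normalizer (Subgroup.zpowers (((z : ↥G₁) : G)) : Set G) := by
    rintro _ ⟨r, hr, rfl⟩
    apply centralizer_le_normalizer' _ (mem_centralizer_zpowers _)
    exact (congrArg Subtype.val (hz₁c r (hRT hr))).symm
  have hCL : Subgroup.centralizer ((R₁.map G₁.subtype : Subgroup G) : Set G) ≤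
      Subgroup.normalizer (Subgroup.zpowers (((z : ↥G₁) : G)) : Set G) := by
    intro x hx
    apply centralizer_le_normalizer' _ (mem_centralizer_zpowers _)
    exact Subgroup.mem_centralizer_iff.mp hx _ ⟨(z : ↥G₁), hz₁R, rfl⟩
  have hC := charP_centralizer_of_le _ hL (R₁.map G₁.subtype) (hR₁.map _) hRL hCL
  have hsub : (G₁.subgroupOf
      (Subgroup.centralizer ((R₁.map G₁.subtype : Subgroup G) : Set G))).IsSubnormal :=
    hsn.subgroupOf
  have hK := (Helper46.kieler_subnormal hC default hsub).1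
  refine charP_congr _ _ ?_ hK
  rw [Subgroup.subgroupOf_map_subtype]
  ext x
  constructor
  · rintro ⟨hx1, hxC⟩
    refine ⟨⟨x, hx1⟩, ?_, rfl⟩
    rw [SetLike.mem_coe, Subgroup.mem_centralizer_iff]
    intro r hr
    exact Subtype.ext (Subgroup.mem_centralizer_iff.mp hxC r ⟨r, hr, rfl⟩)
  · rintro ⟨y, hy, rfl⟩
    have h3 : (y : G) ∈ Subgroup.centralizer ((R₁.map G₁.subtype : Subgroup G) : Set G) := by
      rw [Subgroup.mem_centralizer_iff]
      rintro _ ⟨r, hr, rfl⟩
      exact congrArg Subtype.val (Subgroup.mem_centralizer_iff.mp hy r hr)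
    exact ⟨y.2, h3⟩

end Cfsg.Agent.Helper50
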