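import Mathlib
import Cfsg.Agent.Helper46.Kieler
import Cfsg.Agent.Helper72.Subnormal
import Cfsg.Agent.Helper50.SubnSylow
import Cfsg.Agent.Helper50.ParChar

/-!
# Kieler's lemma in groups of local characteristic `p`, and `p`-elements of subnormal subgroups
(helper50)
-/

set_option autoImplicit false

namespace Cfsg.Agent.Helper50

open Cfsg Cfsg.Agent.Helper46 Cfsg.Agent.Helper72

variable {G : Type*} [Group G]

/-- relative subnormality is inherited by intersections -/
theorem subnIn_inf {T N : Subgroup G} (h : SubnIn T N) (K : Subgroup G) :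
    SubnIn (T ⊓ K) (N ⊓ K) := by
  induction h with
  | refl T => exact SubnIn.refl _
  | step T T₁ N h1 h2 h3 ih =>
    refine SubnIn.step _ (T₁ ⊓ K) _ (inf_le_inf_right K h1) ?_ ih
    exact (inf_le_inf h2 Subgroup.le_normalizer).trans (normalizer_inf_le_normalizer_inf T₁ K)

theorem subnIn_of_le {T N D : Subgroup G} (h : SubnIn T N) (hND : N ≤ D) (hDT : D ≤ T) :
    SubnIn D N := by
  have := subnIn_inf h D
  rwa [inf_eq_right.mpr hDT, inf_eq_left.mpr hND] at this

/-- a subgroup generated by a set invariant under conjugation by `K` is normalized by `K` -/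
theorem le_normalizer_closure {K : Subgroup G} {s : Set G}
    (h : ∀ g ∈ K, ∀ x ∈ s, g * x * g⁻¹ ∈ s) :
    K ≤ Subgroup.normalizer ((Subgroup.closure s : Subgroup G) : Set G) := by
  apply le_normalizer_of_map_conj_le
  intro g hg
  rw [MonoidHom.map_closure, Subgroup.closure_le]
  rintro _ ⟨x, hx, rfl⟩
  exact Subgroup.subset_closure (h g hg x hx)

/-- a normal subgroup of index prime to `p` contains all `p`-elements -/
theorem mem_of_orderOf_pow_of_normal {p : ℕ} [Fact p.Prime] {D D₁ : Subgroup G} (h1 : D₁ ≤ D)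
    (h2 : D ≤ Subgroup.normalizer (D₁ : Set G)) (hidx : ¬ p ∣ D₁.relIndex D)
    {x : G} (hx : x ∈ D) {k : ℕ} (hk : orderOf x = p ^ k) : x ∈ D₁ := by
  have hp := (Fact.out : p.Prime)
  haveI : (D₁.subgroupOf D).Normal := Subgroup.normal_subgroupOf_of_le_normalizer h2
  have h3 : (⟨x, hx⟩ : ↥D) ^ (D₁.subgroupOf D).index ∈ D₁.subgroupOf D :=
    Subgroup.pow_index_mem _ _
  have h4 : x ^ D₁.relIndex D ∈ D₁ := by
    have := Subgroup.mem_subgroupOf.mp h3
    simpa [Subgroup.relIndex] using this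
  have hcop : Nat.Coprime (D₁.relIndex D) (orderOf x) := by
    rw [hk]
    exact (Nat.Coprime.pow_left k ((Nat.Prime.coprime_iff_not_dvd hp).mpr hidx)).symm
  obtain ⟨m, hm⟩ := exists_pow_eq_self_of_coprime hcop
  rw [← hm]
  exact Subgroup.pow_mem _ h4 m

/-- a subnormal subgroup of index prime to `p` contains all `p`-elements -/
theorem mem_of_orderOf_pow_of_subnIn {p : ℕ} [Fact p.Prime] {D R : Subgroup G}
    (h : SubnIn D R) (hidx : ¬ p ∣ R.relIndex D)
    {x : G} (hx : x ∈ D) {k : ℕ} (hk : orderOf x = p ^ k) : x ∈ R := by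
  induction h with
  | refl T => exact hx
  | step T T₁ N h1 h2 h3 ih =>
    have hmul : N.relIndex T₁ * T₁.relIndex T = N.relIndex T :=
      Subgroup.relIndex_mul_relIndex N T₁ T h3.le h1
    have hx1 : x ∈ T₁ :=
      mem_of_orderOf_pow_of_normal h1 h2 (fun hd => hidx (hmul ▸ Dvd.dvd.mul_left hd _)) hx hk
    exact ih (fun hd => hidx (hmul ▸ Dvd.dvd.mul_right hd _)) hx1

theorem omegaZ_ne_bot [Finite G] {p : ℕ} [Fact p.Prime] {Q : Subgroup G} (hQ : IsPGroup p Q)
    (hne : Q ≠ ⊥) : omegaZ p Q ≠ ⊥ := by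
  have hp := (Fact.out : p.Prime)
  haveI : Nontrivial ↥Q := (Subgroup.nontrivial_iff_ne_bot Q).mpr hne
  haveI := hQ.center_nontrivial
  have hc : IsPGroup p ↥(Subgroup.center ↥Q) := hQ.to_subgroup _
  obtain ⟨n, hn⟩ := IsPGroup.iff_card.mp hc
  have hn0 : n ≠ 0 := by
    rintro rfl
    have h1 : Nat.card ↥(Subgroup.center ↥Q) = 1 := by simpa using hn
    have := Finite.one_lt_card (α := ↥(Subgroup.center ↥Q))
    omega
  have hdvd : p ∣ Nat.card ↥(Subgroup.center ↥Q) := hn ▸ dvd_pow_self p hn0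
  obtain ⟨z, hz⟩ := exists_prime_orderOf_dvd_card' p hdvd
  intro hbot
  have hmem : ((z : ↥Q) : G) ∈ omegaZ p Q := by
    refine ⟨(z : ↥Q).2, ?_, ?_⟩
    · rw [Subgroup.mem_centralizer_iff]
      intro q hq
      have := Subgroup.mem_center_iff.mp z.2 ⟨q, hq⟩
      exact congrArg Subtype.val this
    · have h1 : z ^ p = 1 := hz ▸ pow_orderOf_eq_one z
      have h2 := congrArg (fun y : ↥(Subgroup.center ↥Q) => ((y : ↥Q) : G)) h1
      simpa using h2
  rw [hbot, Subgroup.mem_bot] at hmem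
  have hz1 : z = 1 := Subtype.ext (Subtype.ext hmem)
  rw [hz1, orderOf_one] at hz
  exact hp.one_lt.ne hz

/-- Kieler's lemma inside a subgroup `X` of characteristic `p`. -/
theorem kieler_in [Finite G] {p : ℕ} [Fact p.Prime] (X : Subgroup G)
    (hX : Subgroup.centralizer (pCore p ↥X : Set ↥X) ≤ pCore p ↥X)
    (S : Sylow p ↥X) {P : Subgroup G} (hPX : P ≤ X) (hS : (S : Subgroup ↥X) = P.subgroupOf X)
    {L : Subgroup G} (hL : L.IsSubnormal) {x : G} (hxL : x ∈ L) (hxX : x ∈ X) :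
    x ∈ Subgroup.centralizer ((omegaZ p P : Subgroup G) : Set G) ↔
      x ∈ Subgroup.centralizer ((omegaZ p (P ⊓ L) : Subgroup G) : Set G) := by
  have hL' : (L.subgroupOf X).IsSubnormal := hL.comap X.subtype
  have h := (kieler_subnormal hX S hL').2
  have e2 : (S : Subgroup ↥X) ⊓ L.subgroupOf X = (P ⊓ L).subgroupOf X := by
    rw [hS]
    ext y
    simp [Subgroup.mem_subgroupOf]
  rw [e2, hS] at h
  have hPL : P ⊓ L ≤ X := inf_le_left.trans hPX
  have hmem : (⟨x, hxX⟩ : ↥X) ∈ L.subgroupOf X := Subgroup.mem_subgroupOf.mpr hxL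
  constructor
  · intro hxC
    have hx : (⟨x, hxX⟩ : ↥X) ∈ L.subgroupOf X ⊓ Subgroup.centralizer
        ((omegaZ p (P.subgroupOf X) : Subgroup ↥X) : Set ↥X) :=
      Subgroup.mem_inf.mpr ⟨hmem, (mem_centralizer_omegaZ_subgroupOf hPX _).mpr hxC⟩
    rw [h] at hx
    exact (mem_centralizer_omegaZ_subgroupOf hPL _).mp (Subgroup.mem_inf.mp hx).2
  · intro hxC
    have hx : (⟨x, hxX⟩ : ↥X) ∈ L.subgroupOf X ⊓ Subgroup.centralizer
        ((omegaZ p ((P ⊓ L).subgroupOf X) : Subgroup ↥X) : Set ↥X) :=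
      Subgroup.mem_inf.mpr ⟨hmem, (mem_centralizer_omegaZ_subgroupOf hPL _).mpr hxC⟩
    rw [← h] at hx
    exact (mem_centralizer_omegaZ_subgroupOf hPX _).mp (Subgroup.mem_inf.mp hx).2

/-- the normalizer of `Q` normalizes `Ω₁Z(Q)` -/
theorem normalizer_le_normalizer_omegaZ (p : ℕ) (Q : Subgroup G) :
    Subgroup.normalizer (Q : Set G) ≤ Subgroup.normalizer ((omegaZ p Q : Subgroup G) : Set G) := by
  intro g hg
  rw [Subgroup.mem_normalizer_iff]
  intro a
  constructor
  · intro ha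
    exact conj_mem_omegaZ hg ha
  · intro ha
    have := conj_mem_omegaZ (Subgroup.inv_mem _ hg) ha
    simpa [mul_assoc] using this

/-- a `p`-subgroup of `K` containing `T ∩ K` (`K` subnormal, `T` Sylow) equals `T ∩ K` -/
theorem eq_sylow_inf_of_le [Finite G] {p : ℕ} [Fact p.Prime] (T : Sylow p G) {K : Subgroup G}
    (hK : K.IsSubnormal) {P : Subgroup G} (hP : IsPGroup p P) (hle : (T : Subgroup G) ⊓ K ≤ P) :
    P ⊓ K = (T : Subgroup G) ⊓ K := by
  have hp := (Fact.out : p.Prime)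
  symm
  apply Subgroup.eq_of_le_of_card_ge (le_inf hle inf_le_right)
  rw [card_sylow_inf_of_isSubnormal T hK]
  obtain ⟨n, hn⟩ := IsPGroup.iff_card.mp (hP.to_le (inf_le_left : P ⊓ K ≤ P))
  rw [hn]
  apply Nat.pow_le_pow_right hp.pos
  have hdvd : p ^ n ∣ Nat.card ↥K := hn ▸ Subgroup.card_dvd_of_le inf_le_right
  exact (Nat.Prime.pow_dvd_iff_le_factorization hp Nat.card_pos.ne').mp hdvd

/-- **Kieler's lemma, local characteristic `p`, first half**: `C_L(Ω₁Z(T)) ≤ C_L(Ω₁Z(T ∩ L))`. -/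
theorem loc_kieler_le [Finite G] {p : ℕ} [Fact p.Prime]
    (hloc : ∀ A : Subgroup G, IsPGroup p A → A ≠ ⊥ →
      Subgroup.centralizer (pCore p ↥(Subgroup.normalizer (A : Set G)) :
        Set ↥(Subgroup.normalizer (A : Set G))) ≤ pCore p ↥(Subgroup.normalizer (A : Set G)))
    (T : Sylow p G) (hT : (T : Subgroup G) ≠ ⊥) {L : Subgroup G} (hL : L.IsSubnormal) {x : G}
    (hxL : x ∈ L)
    (hx : x ∈ Subgroup.centralizer ((omegaZ p (T : Subgroup G) : Subgroup G) : Set G)) :
    x ∈ Subgroup.centralizer ((omegaZ p ((T : Subgroup G) ⊓ L) : Subgroup G) : Set G) := by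
  have hZp : IsPGroup p ↥(omegaZ p (T : Subgroup G)) := T.isPGroup'.to_le (omegaZ_le p _)
  have hZne := omegaZ_ne_bot T.isPGroup' hT
  have hM := hloc _ hZp hZne
  have hTM : (T : Subgroup G) ≤ Subgroup.normalizer ((omegaZ p (T : Subgroup G) : Subgroup G) : Set G) :=
    Subgroup.le_normalizer.trans (normalizer_le_normalizer_omegaZ p _)
  have hxM : x ∈ Subgroup.normalizer ((omegaZ p (T : Subgroup G) : Subgroup G) : Set G) :=
    centralizer_le_normalizer' _ hx
  exact (kieler_in _ hM (T.subtype hTM) hTM (Sylow.coe_subtype _ _) hL hxL hxM).mp hx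

/-- **Kieler's lemma, local characteristic `p`, second half**:
`C_L(Ω₁Z(T ∩ L)) ≤ C_L(Ω₁Z(T))` when `T ∩ L ≠ 1`. -/
theorem loc_kieler_ge [Finite G] {p : ℕ} [Fact p.Prime]
    (hloc : ∀ A : Subgroup G, IsPGroup p A → A ≠ ⊥ →
      Subgroup.centralizer (pCore p ↥(Subgroup.normalizer (A : Set G)) :
        Set ↥(Subgroup.normalizer (A : Set G))) ≤ pCore p ↥(Subgroup.normalizer (A : Set G)))
    (T : Sylow p G) {L : Subgroup G} (hL : L.IsSubnormal) :
    (T : Subgroup G) ⊓ L ≠ ⊥ → ∀ x : G, x ∈ L →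
    x ∈ Subgroup.centralizer ((omegaZ p ((T : Subgroup G) ⊓ L) : Subgroup G) : Set G) →
    x ∈ Subgroup.centralizer ((omegaZ p (T : Subgroup G) : Subgroup G) : Set G) := by
  induction hL with
  | top =>
    intro _ x _ hx
    rwa [inf_top_eq] at hx
  | step H K h_le hSubn hN ih =>
    intro hne x hxH hx
    have hHsub : H.IsSubnormal := Subgroup.IsSubnormal.step H K h_le hSubn hN
    have hKN : K ≤ Subgroup.normalizer (H : Set G) :=
      (Subgroup.normal_subgroupOf_iff_le_normalizer h_le).mp hN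
    have hTHp : IsPGroup p ↥((T : Subgroup G) ⊓ H) := T.isPGroup'.to_le inf_le_left
    have hZp : IsPGroup p ↥(omegaZ p ((T : Subgroup G) ⊓ H)) := hTHp.to_le (omegaZ_le p _)
    have hZne := omegaZ_ne_bot hTHp hne
    have hX := hloc _ hZp hZne
    set X := Subgroup.normalizer ((omegaZ p ((T : Subgroup G) ⊓ H) : Subgroup G) : Set G) with hXdef
    have hTKX : (T : Subgroup G) ⊓ K ≤ X :=
      ((inf_le_inf Subgroup.le_normalizer hKN).trans
        (normalizer_inf_le_normalizer_inf (T : Subgroup G) H)).trans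
        (normalizer_le_normalizer_omegaZ p _)
    have hTKp : IsPGroup p ↥(((T : Subgroup G) ⊓ K).subgroupOf X) := by
      apply isPGroup_of_forall_pow
      intro d hd
      obtain ⟨k, hk⟩ := pow_eq_one_of_isPGroup T.isPGroup' (Subgroup.mem_subgroupOf.mp hd).1
      exact ⟨k, Subtype.ext (by simpa using hk)⟩
    obtain ⟨S, hS⟩ := hTKp.exists_le_sylow
    set P : Subgroup G := (S : Subgroup ↥X).map X.subtype with hPdef
    have hPX : P ≤ X := Subgroup.map_subtype_le _
    have hSP : (S : Subgroup ↥X) = P.subgroupOf X := by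
      rw [hPdef, Subgroup.subgroupOf, Subgroup.comap_map_eq_self_of_injective X.subtype_injective]
    have hPp : IsPGroup p ↥P := S.isPGroup'.map X.subtype
    have hTKP : (T : Subgroup G) ⊓ K ≤ P := by
      intro y hy
      exact ⟨⟨y, hTKX hy⟩, hS (Subgroup.mem_subgroupOf.mpr hy), rfl⟩
    have hTHP : (T : Subgroup G) ⊓ H ≤ P := (inf_le_inf_left _ h_le).trans hTKP
    have eK : P ⊓ K = (T : Subgroup G) ⊓ K := eq_sylow_inf_of_le T hSubn hPp hTKP
    have eH : P ⊓ H = (T : Subgroup G) ⊓ H := eq_sylow_inf_of_le T hHsub hPp hTHP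
    have hxX : x ∈ X := centralizer_le_normalizer' _ hx
    have h1 := kieler_in X hX S hPX hSP hHsub hxH hxX
    rw [eH] at h1
    have h2 := kieler_in X hX S hPX hSP hSubn (h_le hxH) hxX
    rw [eK] at h2
    refine ih ?_ x (h_le hxH) (h2.mp (h1.mpr hx))
    intro hbot
    apply hne
    rw [eq_bot_iff, ← hbot]
    exact inf_le_inf_left _ h_le

end Cfsg.Agent.Helper50
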