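import Mathlib
import Cfsg.Agent.Helper55.N9Defs
import Cfsg.Agent.Helper50.Ord8
import Cfsg.Agent.Helper50.N9A1

/-!
# CALL S4409 (helper55), piece A3 (helper50)

If `c ∉ D` of 2-power order centralizes a four-group or quaternion group `D`, then `D ⊔ ⟨c⟩` contains
a noncyclic abelian subgroup of order 8.
-/

set_option autoImplicit false

namespace Cfsg.Agent.Helper50.N9

open Subgroup Cfsg.Agent.Helper55.N9

variable {G : Type*} [Group G] [Finite G]

omit [Finite G] in
/-- the extension of an abelian subgroup `H` of order 4 by a commuting element `w ∉ H`,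
`w² ∈ H` -/
theorem n9_ext8 (H : Subgroup G) (hH4 : Nat.card H = 4)
    (hHab : ∀ a ∈ H, ∀ b ∈ H, a * b = b * a) (w : G) (hwH : w ∉ H) (hw2 : w ^ 2 ∈ H)
    (hwc : ∀ x ∈ H, w * x = x * w) :
    ∃ S : Subgroup G, (∀ g, g ∈ S ↔ (g ∈ H ∨ g * w⁻¹ ∈ H)) ∧ Nat.card S = 8 ∧
      (∀ a ∈ S, ∀ b ∈ S, a * b = b * a) := by
  have hwi : ∀ x ∈ H, w⁻¹ * x = x * w⁻¹ := by
    intro x hx
    have h1 := hwc x hx
    calc w⁻¹ * x = w⁻¹ * (x * w) * w⁻¹ := by group
      _ = w⁻¹ * (w * x) * w⁻¹ := by rw [h1]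
      _ = x * w⁻¹ := by group
  have hwi2 : w⁻¹ * w⁻¹ ∈ H := by
    have h1 : w⁻¹ * w⁻¹ = (w ^ 2)⁻¹ := by group
    rw [h1]
    exact H.inv_mem hw2
  obtain ⟨S, hS⟩ : ∃ S : Subgroup G, ∀ g, g ∈ S ↔ (g ∈ H ∨ g * w⁻¹ ∈ H) :=
    ⟨{ carrier := {g | g ∈ H ∨ g * w⁻¹ ∈ H}
       mul_mem' := by
         rintro a b (ha | ha) (hb | hb)
         · exact Or.inl (H.mul_mem ha hb)
         · refine Or.inr ?_
           rw [mul_assoc]
           exact H.mul_mem ha hb
         · refine Or.inr ?_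
           have h1 : a * b * w⁻¹ = (a * w⁻¹) * b := by
             rw [mul_assoc, ← hwi b hb, ← mul_assoc]
           rw [h1]
           exact H.mul_mem ha hb
         · refine Or.inl ?_
           have h1 := hwi (b * w⁻¹) hb
           have h2 : a * b = (a * w⁻¹) * (b * w⁻¹) * w ^ 2 := by
             calc a * b = a * ((b * w⁻¹) * w⁻¹) * w ^ 2 := by group
               _ = a * (w⁻¹ * (b * w⁻¹)) * w ^ 2 := by rw [h1]
               _ = (a * w⁻¹) * (b * w⁻¹) * w ^ 2 := by group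
           rw [h2]
           exact H.mul_mem (H.mul_mem ha hb) hw2
       one_mem' := Or.inl H.one_mem
       inv_mem' := by
         rintro a (ha | ha)
         · exact Or.inl (H.inv_mem ha)
         · refine Or.inr ?_
           have h1 : a⁻¹ * w⁻¹ = (a * w⁻¹)⁻¹ * (w⁻¹ * w⁻¹) := by
             calc a⁻¹ * w⁻¹ = w⁻¹ * (a * w⁻¹)⁻¹ * w⁻¹ := by group
               _ = (a * w⁻¹)⁻¹ * w⁻¹ * w⁻¹ := by rw [hwi _ (H.inv_mem ha)]
               _ = (a * w⁻¹)⁻¹ * (w⁻¹ * w⁻¹) := by group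
           rw [h1]
           exact H.mul_mem (H.inv_mem ha) hwi2 }, fun g => Iff.rfl⟩
  have hHS : H ≤ S := fun g hg => (hS g).mpr (Or.inl hg)
  have hwS : w ∈ S := (hS w).mpr (Or.inr (by rw [mul_inv_cancel]; exact H.one_mem))
  refine ⟨S, hS, ?_, ?_⟩
  · have hidx : H.relIndex S = 2 := by
      rw [Subgroup.relIndex_eq_two_iff]
      refine ⟨w, hwS, fun b hb => ?_⟩
      by_cases hbH : b ∈ H
      · refine Or.inr ⟨hbH, fun h1 => hwH ?_⟩
        have h2 : w = b⁻¹ * (b * w) := by group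
        rw [h2]
        exact H.mul_mem (H.inv_mem hbH) h1
      · refine Or.inl ⟨?_, hbH⟩
        have h1 := ((hS b).mp hb).resolve_left hbH
        have h2 : b * w = (b * w⁻¹) * w ^ 2 := by group
        rw [h2]
        exact H.mul_mem h1 hw2
    have h1 := n9_card_mul_relIndex hHS
    rw [hH4, hidx] at h1
    omega
  · have hle : S ≤ closure ((H : Set G) ∪ {w}) := by
      intro g hg
      rcases (hS g).mp hg with h1 | h1
      · exact subset_closure (Or.inl h1)
      · have h2 : g = (g * w⁻¹) * w := by group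
        rw [h2]
        exact mul_mem (subset_closure (Or.inl h1)) (subset_closure (Or.inr rfl))
    have hgen : ∀ a ∈ ((H : Set G) ∪ {w}), ∀ b ∈ ((H : Set G) ∪ {w}), a * b = b * a := by
      rintro a (ha | ha) b (hb | hb)
      · exact hHab a ha b hb
      · rw [Set.mem_singleton_iff] at hb
        rw [hb]
        exact (hwc a ha).symm
      · rw [Set.mem_singleton_iff] at ha
        rw [ha]
        exact hwc b hb
      · rw [Set.mem_singleton_iff] at ha hb
        rw [ha, hb]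
    intro a ha b hb
    exact Cfsg.Agent.Helper50.closure_comm_of_comm _ hgen a (hle ha) b (hle hb)

/-- a subgroup with two distinct involutions is not cyclic -/
theorem n9_not_cyclic_of_two_invol (S : Subgroup G) (a b : G) (ha : a ∈ S) (hb : b ∈ S)
    (ha1 : a ≠ 1) (hb1 : b ≠ 1) (hab : a ≠ b) (ha2 : a ^ 2 = 1) (hb2 : b ^ 2 = 1) :
    ¬ IsCyclic S := by
  intro hc
  classical
  have : Fintype S := Fintype.ofFinite S
  have h1 := IsCyclic.card_pow_eq_one_le (α := S) (n := 2) (by norm_num)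
  have h2 : ({1, ⟨a, ha⟩, ⟨b, hb⟩} : Finset S) ⊆ Finset.univ.filter (fun x : S => x ^ 2 = 1) := by
    intro x hx
    rw [Finset.mem_insert, Finset.mem_insert, Finset.mem_singleton] at hx
    rw [Finset.mem_filter]
    refine ⟨Finset.mem_univ _, ?_⟩
    rcases hx with rfl | rfl | rfl
    · exact one_pow 2
    · exact Subtype.ext ha2
    · exact Subtype.ext hb2
  have h3 := Finset.card_le_card h2
  have h4 : ({1, ⟨a, ha⟩, ⟨b, hb⟩} : Finset S).card = 3 := by
    rw [Finset.card_eq_three]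
    refine ⟨1, ⟨a, ha⟩, ⟨b, hb⟩, ?_, ?_, ?_, rfl⟩
    · intro h5
      exact ha1 (congrArg Subtype.val h5).symm
    · intro h5
      exact hb1 (congrArg Subtype.val h5).symm
    · intro h5
      exact hab (congrArg Subtype.val h5)
  omega

omit [Finite G] in
theorem n9_sq_mul (i c : G) (h : c * i = i * c) : (i * c) ^ 2 = i ^ 2 * c ^ 2 := by
  calc (i * c) ^ 2 = i * (c * i) * c := by rw [pow_two]; simp only [mul_assoc]
    _ = i * (i * c) * c := by rw [h]
    _ = i ^ 2 * c ^ 2 := by rw [pow_two, pow_two]; simp only [mul_assoc]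

theorem n9_q8_center : ∀ q : QuaternionGroup 2,
    q * QuaternionGroup.a 1 = QuaternionGroup.a 1 * q →
    q * QuaternionGroup.xa 0 = QuaternionGroup.xa 0 * q → q = 1 ∨ q = QuaternionGroup.a 2 := by
  decide

theorem n9_q8_a_sq : (QuaternionGroup.a 1 : QuaternionGroup 2) ^ 2 = QuaternionGroup.a 2 := by
  decide

-- A3
theorem n9_cent_a8 (D : Subgroup G) (hD : IsV4 D ∨ IsQ8 D) (c : G)
    (hc : ∀ d ∈ D, c * d = d * c) (hcD : c ∉ D) (hc2 : ∃ n : ℕ, c ^ 2 ^ n = 1) :
    ¬ NoA8 (D ⊔ zpowers c) := by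
  classical
  -- a power `c'` of `c` outside `D` with square in `D`
  obtain ⟨c', hc'D, hc'2, hc'c, hc'z⟩ : ∃ c' : G, c' ∉ D ∧ c' ^ 2 ∈ D ∧
      (∀ d ∈ D, c' * d = d * c') ∧ c' ∈ D ⊔ zpowers c := by
    obtain ⟨n, hn⟩ := hc2
    have hex : ∃ j, c ^ 2 ^ j ∈ D := ⟨n, by rw [hn]; exact D.one_mem⟩
    have hj : c ^ 2 ^ (Nat.find hex) ∈ D := Nat.find_spec hex
    have hj0 : Nat.find hex ≠ 0 := by
      intro h0
      rw [h0, pow_zero, pow_one] at hj
      exact hcD hj
    obtain ⟨i, hi⟩ : ∃ i, Nat.find hex = i + 1 := ⟨Nat.find hex - 1, by omega⟩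
    refine ⟨c ^ 2 ^ i, Nat.find_min hex (by omega), ?_, ?_, ?_⟩
    · rw [← pow_mul, ← pow_succ, ← hi]
      exact hj
    · intro d hd
      exact (Commute.pow_left (hc d hd) _).eq
    · exact (le_sup_right : zpowers c ≤ D ⊔ zpowers c) (pow_mem (mem_zpowers c) _)
  -- it is enough to find `S`
  suffices hS : ∃ S : Subgroup G, S ≤ D ⊔ zpowers c ∧ Nat.card S = 8 ∧
      (∀ a ∈ S, ∀ b ∈ S, a * b = b * a) ∧ ¬ IsCyclic S by
    obtain ⟨S, hle, h8, hab, hnc⟩ := hS
    intro hNo
    exact hNo ⟨S, hle, ⟨⟨fun x y => Subtype.ext (hab _ x.2 _ y.2)⟩⟩, hnc, h8⟩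
  rcases hD with hV | hQ
  · obtain ⟨hcard, hexp⟩ := hV
    have hDab : ∀ a ∈ D, ∀ b ∈ D, a * b = b * a := by
      intro a ha b hb
      have h1 : a⁻¹ = a := inv_eq_of_mul_eq_one_right (by rw [← pow_two]; exact hexp a ha)
      have h2 : b⁻¹ = b := inv_eq_of_mul_eq_one_right (by rw [← pow_two]; exact hexp b hb)
      have h3 : (a * b)⁻¹ = a * b :=
        inv_eq_of_mul_eq_one_right (by rw [← pow_two]; exact hexp _ (D.mul_mem ha hb))
      calc a * b = (a * b)⁻¹ := h3.symm
        _ = b⁻¹ * a⁻¹ := mul_inv_rev a b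
        _ = b * a := by rw [h1, h2]
    obtain ⟨S, hS, hS8, hSab⟩ := n9_ext8 D hcard hDab c' hc'D hc'2 hc'c
    have hDS : D ≤ S := fun g hg => (hS g).mpr (Or.inl hg)
    have hle : S ≤ D ⊔ zpowers c := by
      intro g hg
      rcases (hS g).mp hg with h1 | h1
      · exact (le_sup_left : D ≤ D ⊔ zpowers c) h1
      · have h2 : g = (g * c'⁻¹) * c' := by group
        rw [h2]
        exact mul_mem ((le_sup_left : D ≤ D ⊔ zpowers c) h1) hc'z
    obtain ⟨a, ha, b, hb, ha1, hb1, hab⟩ : ∃ a ∈ D, ∃ b ∈ D, a ≠ 1 ∧ b ≠ 1 ∧ a ≠ b := by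
      have : Fintype D := Fintype.ofFinite D
      have h3 : 2 < Fintype.card D := by
        rw [← Nat.card_eq_fintype_card, hcard]
        norm_num
      obtain ⟨x, y, z, hxy, hxz, hyz⟩ := Fintype.two_lt_card_iff.mp h3
      by_cases hx : x = 1
      · refine ⟨y, y.2, z, z.2, ?_, ?_, ?_⟩
        · intro h5
          exact hxy (hx.trans (Subtype.ext h5).symm)
        · intro h5
          exact hxz (hx.trans (Subtype.ext h5).symm)
        · intro h5
          exact hyz (Subtype.ext h5)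
      · by_cases hy : y = 1
        · refine ⟨x, x.2, z, z.2, ?_, ?_, ?_⟩
          · intro h5
            exact hx (Subtype.ext h5)
          · intro h5
            exact hyz (hy.trans (Subtype.ext h5).symm)
          · intro h5
            exact hxz (Subtype.ext h5)
        · refine ⟨x, x.2, y, y.2, ?_, ?_, ?_⟩
          · intro h5
            exact hx (Subtype.ext h5)
          · intro h5
            exact hy (Subtype.ext h5)
          · intro h5
            exact hxy (Subtype.ext h5)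
    exact ⟨S, hle, hS8, hSab, n9_not_cyclic_of_two_invol S a b (hDS ha) (hDS hb) ha1 hb1 hab
      (hexp a ha) (hexp b hb)⟩
  · obtain ⟨e⟩ := hQ
    obtain ⟨i₀, hi₀⟩ : ∃ i₀ : ↥D, e i₀ = QuaternionGroup.a 1 :=
      ⟨e.symm (QuaternionGroup.a 1), e.apply_symm_apply _⟩
    obtain ⟨j₀, hj₀⟩ : ∃ j₀ : ↥D, e j₀ = QuaternionGroup.xa 0 :=
      ⟨e.symm (QuaternionGroup.xa 0), e.apply_symm_apply _⟩
    have hoi : orderOf (i₀ : G) = 4 := by
      rw [Subgroup.orderOf_coe, ← MulEquiv.orderOf_eq e, hi₀, QuaternionGroup.orderOf_a_one]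
    have hHD : zpowers (i₀ : G) ≤ D := by
      rw [zpowers_le]
      exact i₀.2
    have hH4 : Nat.card (zpowers (i₀ : G)) = 4 := by
      rw [Nat.card_zpowers, hoi]
    have hHab : ∀ a ∈ zpowers (i₀ : G), ∀ b ∈ zpowers (i₀ : G), a * b = b * a := by
      intro a ha b hb
      obtain ⟨m, rfl⟩ := mem_zpowers_iff.mp ha
      obtain ⟨n, rfl⟩ := mem_zpowers_iff.mp hb
      rw [← zpow_add, ← zpow_add, add_comm]
    have hi4 : (i₀ : G) ^ 4 = 1 := by
      rw [← hoi]
      exact pow_orderOf_eq_one _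
    -- the square of `c'` is central in `D`
    have hcases : c' ^ 2 = 1 ∨ c' ^ 2 = (i₀ : G) ^ 2 := by
      have hcomm : ∀ d : ↥D, (⟨c' ^ 2, hc'2⟩ : ↥D) * d = d * ⟨c' ^ 2, hc'2⟩ := by
        intro d
        apply Subtype.ext
        exact (Commute.pow_left (hc'c d d.2) 2).eq
      have h1 := congrArg e (hcomm i₀)
      have h2 := congrArg e (hcomm j₀)
      rw [map_mul, map_mul, hi₀] at h1
      rw [map_mul, map_mul, hj₀] at h2
      rcases n9_q8_center _ h1 h2 with h3 | h3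
      · left
        have h4 : (⟨c' ^ 2, hc'2⟩ : ↥D) = 1 := by
          apply e.injective
          rw [h3, map_one]
        exact congrArg Subtype.val h4
      · right
        have h4 : (⟨c' ^ 2, hc'2⟩ : ↥D) = i₀ ^ 2 := by
          apply e.injective
          rw [h3, map_pow, hi₀, n9_q8_a_sq]
        have h5 := congrArg Subtype.val h4
        simpa using h5
    obtain ⟨w, hwH, hw2, hwc, hwz⟩ : ∃ w : G, w ∉ zpowers (i₀ : G) ∧ w ^ 2 = 1 ∧
        (∀ x ∈ zpowers (i₀ : G), w * x = x * w) ∧ w ∈ D ⊔ zpowers c := by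
      rcases hcases with h1 | h1
      · exact ⟨c', fun h2 => hc'D (hHD h2), h1, fun x hx => hc'c x (hHD hx), hc'z⟩
      · refine ⟨(i₀ : G) * c', ?_, ?_, ?_, ?_⟩
        · intro h2
          apply hc'D
          have h3 : c' = (i₀ : G)⁻¹ * ((i₀ : G) * c') := by group
          rw [h3]
          exact D.mul_mem (D.inv_mem i₀.2) (hHD h2)
        · have h3 := hc'c (i₀ : G) i₀.2
          rw [n9_sq_mul _ _ h3, h1, ← pow_add]
          exact hi4
        · intro x hx
          have h3 := hc'c x (hHD hx)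
          have h4 := hHab (i₀ : G) (mem_zpowers _) x hx
          calc (i₀ : G) * c' * x = (i₀ : G) * (c' * x) := by group
            _ = (i₀ : G) * (x * c') := by rw [h3]
            _ = ((i₀ : G) * x) * c' := by group
            _ = (x * (i₀ : G)) * c' := by rw [h4]
            _ = x * ((i₀ : G) * c') := by group
        · exact mul_mem ((le_sup_left : D ≤ D ⊔ zpowers c) i₀.2) hc'z
    obtain ⟨S, hS, hS8, hSab⟩ := n9_ext8 (zpowers (i₀ : G)) hH4 hHab w hwH
      (by rw [hw2]; exact one_mem _) hwc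
    have hHS : zpowers (i₀ : G) ≤ S := fun g hg => (hS g).mpr (Or.inl hg)
    have hwS : w ∈ S := (hS w).mpr (Or.inr (by rw [mul_inv_cancel]; exact one_mem _))
    have hle : S ≤ D ⊔ zpowers c := by
      intro g hg
      rcases (hS g).mp hg with h1 | h1
      · exact (le_sup_left : D ≤ D ⊔ zpowers c) (hHD h1)
      · have h2 : g = (g * w⁻¹) * w := by group
        rw [h2]
        exact mul_mem ((le_sup_left : D ≤ D ⊔ zpowers c) (hHD h1)) hwz
    have hi2mem : (i₀ : G) ^ 2 ∈ zpowers (i₀ : G) := pow_mem (mem_zpowers _) 2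
    refine ⟨S, hle, hS8, hSab, n9_not_cyclic_of_two_invol S ((i₀ : G) ^ 2) w (hHS hi2mem) hwS
      ?_ ?_ ?_ ?_ hw2⟩
    · intro h1
      have h2 := orderOf_dvd_of_pow_eq_one h1
      rw [hoi] at h2
      omega
    · intro h1
      rw [h1] at hwH
      exact hwH (one_mem _)
    · intro h1
      rw [← h1] at hwH
      exact hwH hi2mem
    · rw [← pow_mul]
      exact hi4

end Cfsg.Agent.Helper50.N9
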