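import Mathlib
import Cfsg.Agent.Helper55.N9Defs
import Cfsg.Agent.Helper35.CoprimeAbelian
import Cfsg.Agent.Helper50.N9A1

/-!
# CALL S4409 (helper55), piece M5a (helper50)

An abelian minimal configuration without a noncyclic abelian subgroup of order 8 is a four-group.
-/

set_option autoImplicit false

namespace Cfsg.Agent.Helper50.N9

open Subgroup Cfsg.Agent.Helper55.N9
open scoped commutatorElement

variable {G : Type*} [Group G] [Finite G]

-- M5a
theorem n9_min_abelian (K D : Subgroup G) (h : MinCfg K D) (hD : IsPGroup 2 D)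
    (hK : Odd (Nat.card K)) (hab : ∀ a ∈ D, ∀ b ∈ D, a * b = b * a) (hN : NoA8 D) :
    IsV4 D := by
  have : Fact (Nat.Prime 2) := ⟨Nat.prime_two⟩
  obtain ⟨n, hn⟩ := IsPGroup.iff_card.mp hD
  -- the subgroup of elements of square one
  obtain ⟨Ω, hΩ⟩ : ∃ Ω : Subgroup G, ∀ x, x ∈ Ω ↔ (x ∈ D ∧ x ^ 2 = 1) :=
    ⟨{ carrier := {x | x ∈ D ∧ x ^ 2 = 1}
       mul_mem' := fun {a b} ha hb => ⟨D.mul_mem ha.1 hb.1, by
         have h1 : (a * b) ^ 2 = a ^ 2 * b ^ 2 := by
           rw [pow_two, pow_two, pow_two, mul_assoc a b, ← mul_assoc b a b, hab b hb.1 a ha.1,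
             mul_assoc a b b, ← mul_assoc a a]
         rw [h1, ha.2, hb.2, one_mul]⟩
       one_mem' := ⟨D.one_mem, one_pow 2⟩
       inv_mem' := fun {a} ha => ⟨D.inv_mem ha.1, by rw [inv_pow, ha.2, inv_one]⟩ },
      fun x => Iff.rfl⟩
  have hΩD : Ω ≤ D := fun x hx => ((hΩ x).mp hx).1
  have hconjΩ : ∀ k ∈ K, ∀ x ∈ Ω, k * x * k⁻¹ ∈ Ω := by
    intro k hk x hx
    rw [hΩ] at hx ⊢
    refine ⟨(mem_normalizer_iff.mp (h.inv hk) x).mp hx.1, ?_⟩
    rw [conj_pow, hx.2, mul_one, mul_inv_cancel]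
  have hΩK : K ≤ normalizer (Ω : Set G) := by
    intro k hk
    rw [mem_normalizer_iff]
    intro g
    constructor
    · exact hconjΩ k hk g
    · intro hg
      have h1 := hconjΩ k⁻¹ (K.inv_mem hk) _ hg
      have h2 : k⁻¹ * (k * g * k⁻¹) * k⁻¹⁻¹ = g := by group
      rw [h2] at h1
      exact h1
  have hcop : (Nat.card K).Coprime (Nat.card D) := by
    rw [hn]
    exact Nat.Coprime.pow_right n (Nat.coprime_two_right.mpr hK)
  have hΩeq : Ω = D := by
    by_contra hne
    have hΩc := h.min Ω hΩD hne hΩK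
    -- a nontrivial commutator
    have hnt := h.nt
    rw [SetLike.not_le_iff_exists] at hnt
    obtain ⟨d, hdD, hdK⟩ := hnt
    rw [mem_centralizer_iff] at hdK
    push_neg at hdK
    obtain ⟨k, hk, hkd⟩ := hdK
    have hg : ⁅d, k⁆ ∈ ⁅D, K⁆ := Subgroup.commutator_mem_commutator hdD hk
    have hg1 : ⁅d, k⁆ ≠ 1 := by
      intro h1
      rw [commutatorElement_eq_one_iff_commute] at h1
      exact hkd h1.eq.symm
    have hcomD : ⁅D, K⁆ ≤ D := by
      rw [Subgroup.commutator_le]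
      intro a ha b hb
      rw [commutatorElement_def]
      have h1 : b * a⁻¹ * b⁻¹ ∈ D := (mem_normalizer_iff.mp (h.inv hb) _).mp (D.inv_mem ha)
      have h2 : a * b * a⁻¹ * b⁻¹ = a * (b * a⁻¹ * b⁻¹) := by group
      rw [h2]
      exact D.mul_mem ha h1
    -- an involution in `⁅D, K⁆`
    obtain ⟨j, hj⟩ := hD ⟨⁅d, k⁆, hcomD hg⟩
    have hj' : ⁅d, k⁆ ^ 2 ^ j = 1 := by
      have h1 := congrArg Subtype.val hj
      simpa using h1
    obtain ⟨i, -, hi⟩ := (Nat.dvd_prime_pow Nat.prime_two).mp (orderOf_dvd_of_pow_eq_one hj')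
    have hi1 : 1 ≤ i := by
      by_contra hc
      have h0 : i = 0 := by omega
      rw [h0, pow_zero, orderOf_eq_one_iff] at hi
      exact hg1 hi
    obtain ⟨i', rfl⟩ : ∃ i', i = i' + 1 := ⟨i - 1, by omega⟩
    have hu2 : (⁅d, k⁆ ^ 2 ^ i') ^ 2 = 1 := by
      rw [← pow_mul, ← pow_succ, ← hi, pow_orderOf_eq_one]
    have hu1 : ⁅d, k⁆ ^ 2 ^ i' ≠ 1 := by
      intro h1
      have h2 := orderOf_dvd_of_pow_eq_one h1
      rw [hi] at h2
      have h3 := Nat.le_of_dvd (by positivity) h2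
      have h4 : 2 ^ i' < 2 ^ (i' + 1) := Nat.pow_lt_pow_right (by norm_num) (by omega)
      omega
    have huc : ⁅d, k⁆ ^ 2 ^ i' ∈ ⁅D, K⁆ := pow_mem hg _
    have huΩ : ⁅d, k⁆ ^ 2 ^ i' ∈ Ω := (hΩ _).mpr ⟨hcomD huc, hu2⟩
    have hbot := Cfsg.Agent.Helper35.commutator_inf_centralizer_eq_bot_of_comm h.inv hcop hab
    have hmem : ⁅d, k⁆ ^ 2 ^ i' ∈ (⁅D, K⁆ : Subgroup G) ⊓ centralizer (K : Set G) :=
      ⟨huc, hΩc huΩ⟩
    rw [hbot, Subgroup.mem_bot] at hmem
    exact hu1 hmem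
  have hsq : ∀ d ∈ D, d ^ 2 = 1 := by
    intro d hd
    rw [← hΩeq] at hd
    exact ((hΩ d).mp hd).2
  -- the order is at most 4
  have hle4 : Nat.card D ≤ 4 := by
    rcases n9_ab8 D hD hab hN with hc | hc
    · obtain ⟨g, hg⟩ := IsCyclic.exists_generator (α := ↥D)
      have hord := orderOf_eq_card_of_forall_mem_zpowers hg
      have hg2 : g ^ 2 = 1 := by
        apply Subtype.ext
        have h1 := hsq (g : G) g.2
        simpa using h1
      have h2 := Nat.le_of_dvd (by norm_num) (orderOf_dvd_of_pow_eq_one hg2)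
      omega
    · exact hc
  -- the order is more than 2
  have hgt2 : 2 < Nat.card D := by
    by_contra hc
    rw [not_lt] at hc
    apply h.nt
    intro d hd
    rw [mem_centralizer_iff]
    intro k hk
    by_cases hd1 : d = 1
    · rw [hd1, mul_one, one_mul]
    · have hod : orderOf d = 2 := orderOf_eq_prime (hsq d hd) hd1
      have hzD : zpowers d = D := by
        apply Subgroup.eq_of_le_of_card_ge
        · rw [zpowers_le]
          exact hd
        · rw [Nat.card_zpowers, hod]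
          exact hc
      have h1 : k * d * k⁻¹ ∈ zpowers d := by
        rw [hzD]
        exact (mem_normalizer_iff.mp (h.inv hk) d).mp hd
      obtain ⟨z, hz⟩ := mem_zpowers_iff.mp h1
      rcases Int.emod_two_eq_zero_or_one z with h2 | h2
      · exfalso
        obtain ⟨c, hc'⟩ : ∃ c, z = 2 * c := ⟨z / 2, by omega⟩
        rw [hc', zpow_mul, zpow_ofNat, hsq d hd, one_zpow] at hz
        apply hd1
        have h3 : d = k⁻¹ * (k * d * k⁻¹) * k := by group
        rw [h3, ← hz]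
        group
      · obtain ⟨c, hc'⟩ : ∃ c, z = 2 * c + 1 := ⟨z / 2, by omega⟩
        rw [hc', zpow_add, zpow_mul, zpow_ofNat, hsq d hd, one_zpow, one_mul, zpow_one] at hz
        have h3 : k * d = (k * d * k⁻¹) * k := by group
        rw [h3, ← hz]
  refine ⟨?_, hsq⟩
  rw [hn] at hle4 hgt2 ⊢
  have hn2 : n = 2 := by
    rcases Nat.lt_or_ge n 2 with h1 | h1
    · exfalso
      have h2 : 2 ^ n ≤ 2 ^ 1 := Nat.pow_le_pow_right (by norm_num) (by omega)
      omega
    · rcases Nat.lt_or_ge n 3 with h3 | h3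
      · omega
      · exfalso
        have h2 : 2 ^ 3 ≤ 2 ^ n := Nat.pow_le_pow_right (by norm_num) h3
        omega
  rw [hn2]
  norm_num

end Cfsg.Agent.Helper50.N9
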