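import Mathlib

set_option autoImplicit false

/-!
A noncyclic elementary abelian `p`-group `U` acting on an abelian `p'`-group `B` such that every
maximal subgroup of `U` has no nontrivial fixed point forces `B = 1`.
-/

namespace Cfsg.Agent.Helper50

section ring

variable {R : Type*} [Ring R] (p : ℕ) [hp : Fact p.Prime]

/-- the "norm" `1 + y + ⋯ + y^(p-1)`, indexed by `ZMod p` -/
noncomputable def nrm (y : R) : R := ∑ x : ZMod p, y ^ x.val

theorem mul_nrm {y : R} (hy : y ^ p = 1) : y * nrm p y = nrm p y := by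
  have : NeZero p := ⟨hp.out.ne_zero⟩
  unfold nrm
  rw [Finset.mul_sum]
  rw [← Equiv.sum_comp (Equiv.addRight (1 : ZMod p)) (fun x : ZMod p => y ^ x.val)]
  apply Finset.sum_congr rfl
  intro x _
  simp only [Equiv.coe_addRight]
  rw [ZMod.val_add, ← pow_eq_pow_mod _ hy, ZMod.val_one, pow_add, pow_one]
  exact ((Commute.refl y).pow_right _).eq

theorem sum_pow_val_mul (σ : R) {i : ZMod p} (hi : i ≠ 0) :
    ∑ j : ZMod p, σ ^ (j * i).val = nrm p σ := by
  unfold nrm
  exact Equiv.sum_comp (Equiv.mulRight₀ i hi) (fun x : ZMod p => σ ^ x.val)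

theorem rank_two_identity {σ τ : R} (hc : Commute σ τ) (hσ : σ ^ p = 1) :
    ∑ j : ZMod p, nrm p (τ * σ ^ j.val) + nrm p σ = (p : R) + nrm p τ * nrm p σ := by
  classical
  have : NeZero p := ⟨hp.out.ne_zero⟩
  have h1 : ∀ j i : ZMod p, (τ * σ ^ j.val) ^ i.val = τ ^ i.val * σ ^ (j * i).val := by
    intro j i
    rw [(hc.symm.pow_right j.val).mul_pow, ← pow_mul, ZMod.val_mul, ← pow_eq_pow_mod _ hσ]
  have h2 : ∑ j : ZMod p, nrm p (τ * σ ^ j.val)
      = ∑ i : ZMod p, τ ^ i.val * ∑ j : ZMod p, σ ^ (j * i).val := by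
    unfold nrm
    rw [Finset.sum_comm]
    apply Finset.sum_congr rfl
    intro i _
    rw [Finset.mul_sum]
    apply Finset.sum_congr rfl
    intro j _
    exact h1 j i
  rw [h2]
  rw [← Finset.add_sum_erase Finset.univ _ (Finset.mem_univ (0 : ZMod p))]
  have h3 : ∑ i ∈ Finset.univ.erase (0 : ZMod p), τ ^ i.val * ∑ j : ZMod p, σ ^ (j * i).val
      = ∑ i ∈ Finset.univ.erase (0 : ZMod p), τ ^ i.val * nrm p σ := by
    apply Finset.sum_congr rfl
    intro i hi
    rw [sum_pow_val_mul p σ (Finset.ne_of_mem_erase hi)]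
  rw [h3]
  have h4 : nrm p τ * nrm p σ
      = nrm p σ + ∑ i ∈ Finset.univ.erase (0 : ZMod p), τ ^ i.val * nrm p σ := by
    conv_lhs => unfold nrm
    rw [← Finset.add_sum_erase Finset.univ _ (Finset.mem_univ (0 : ZMod p)), add_mul,
      Finset.sum_mul]
    simp only [ZMod.val_zero, pow_zero, one_mul]
    rfl
  rw [h4]
  simp only [ZMod.val_zero, pow_zero, one_mul, mul_zero, Finset.sum_const, Finset.card_univ,
    ZMod.card, nsmul_eq_mul, mul_one]
  abel

end ring

section module

variable {M : Type*} [AddCommGroup M] (p : ℕ) [hp : Fact p.Prime]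

theorem nsmul_eq_zero_of_rank_two {σ τ : Module.End ℤ M} (hc : Commute σ τ) (hσ : σ ^ p = 1)
    (x : M) (hinf : nrm p σ x = 0) (hj : ∀ j : ZMod p, nrm p (τ * σ ^ j.val) x = 0) :
    p • x = 0 := by
  have h := congrArg (fun f : Module.End ℤ M => f x) (rank_two_identity p hc hσ)
  simp only [LinearMap.add_apply, LinearMap.sum_apply, Module.End.mul_apply,
    Module.End.natCast_apply] at h
  rw [hinf, map_zero, add_zero, add_zero] at h
  rw [← h]
  exact Finset.sum_eq_zero (fun j _ => hj j)

end module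

section action

variable {U B : Type*} [CommGroup U] [CommGroup B] [MulDistribMulAction U B]

/-- the action as a monoid hom into the endomorphism ring of `Additive B` -/
noncomputable def actEnd : U →* Module.End ℤ (Additive B) where
  toFun u := (MonoidHom.toAdditive (MulDistribMulAction.toMonoidHom B u)).toIntLinearMap
  map_one' := by
    ext x
    induction x using Additive.rec with | _ b =>
    simp
  map_mul' u v := by
    ext x
    induction x using Additive.rec with | _ b =>
    simp [mul_smul]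

theorem actEnd_apply (u : U) (b : B) :
    actEnd (B := B) u (Additive.ofMul b) = Additive.ofMul (u • b) := rfl

variable (p : ℕ) [hp : Fact p.Prime]

/-- the norm of `b` along `⟨u⟩` is fixed by `u` and by every `d` fixing `b` -/
theorem nrm_actEnd_fixed {u : U} (hu : u ^ p = 1) (b : B) :
    u • Additive.toMul (nrm p (actEnd (B := B) u) (Additive.ofMul b))
      = Additive.toMul (nrm p (actEnd (B := B) u) (Additive.ofMul b)) := by
  have h1 : (actEnd (B := B) u) ^ p = 1 := by rw [← map_pow, hu, map_one]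
  have h2 := mul_nrm p h1
  have h3 := congrArg (fun f : Module.End ℤ (Additive B) => f (Additive.ofMul b)) h2
  simp only [Module.End.mul_apply] at h3
  have h4 : actEnd (B := B) u (Additive.ofMul
      (Additive.toMul (nrm p (actEnd (B := B) u) (Additive.ofMul b))))
        = nrm p (actEnd (B := B) u) (Additive.ofMul b) := h3
  rw [actEnd_apply] at h4
  exact congrArg Additive.toMul h4

theorem nrm_actEnd_fixed' (u d : U) (b : B) (hd : d • b = b) :
    d • Additive.toMul (nrm p (actEnd (B := B) u) (Additive.ofMul b))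
      = Additive.toMul (nrm p (actEnd (B := B) u) (Additive.ofMul b)) := by
  have hc : Commute (actEnd (B := B) d) (nrm p (actEnd (B := B) u)) := by
    unfold nrm
    apply Commute.sum_right
    intro i _
    exact ((Commute.all d u).map (actEnd (B := B))).pow_right _
  have h3 := congrArg (fun f : Module.End ℤ (Additive B) => f (Additive.ofMul b)) hc.eq
  simp only [Module.End.mul_apply] at h3
  rw [actEnd_apply, hd] at h3
  have h4 : actEnd (B := B) d (Additive.ofMul
      (Additive.toMul (nrm p (actEnd (B := B) u) (Additive.ofMul b))))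
        = nrm p (actEnd (B := B) u) (Additive.ofMul b) := h3
  rw [actEnd_apply] at h4
  exact congrArg Additive.toMul h4

/-- **Main lemma**: a noncyclic elementary abelian `p`-group `U` acting on an abelian
`p'`-group `B`, such that no maximal subgroup of `U` has a nontrivial fixed point, forces
`B = 1`. -/
theorem eq_one_of_coatoms_fixedPointFree [Finite U] [Finite B]
    (hU : ∀ u : U, u ^ p = 1) (hB : (Nat.card B).Coprime p) (hcard : p ^ 2 ≤ Nat.card U)
    (hfix : ∀ U₀ : Subgroup U, IsCoatom U₀ → ∀ b : B, (∀ u ∈ U₀, u • b = b) → b = 1) :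
    ∀ b : B, b = 1 := by
  classical
  by_contra hne
  rw [not_forall] at hne
  obtain ⟨b₀, hb₀⟩ := hne
  have hp1 : 1 < p := hp.out.one_lt
  have hbot : (⊥ : Subgroup U) ≠ ⊤ := by
    intro h
    have h1 : Nat.card (⊥ : Subgroup U) = Nat.card (⊤ : Subgroup U) := by rw [h]
    rw [Subgroup.card_bot, Subgroup.card_top] at h1
    have : p ^ 2 ≤ 1 := h1 ▸ hcard
    nlinarith
  -- a maximal bad subgroup
  obtain ⟨D, ⟨hDtop, b, hb1, hbD⟩, hDmax⟩ := Set.exists_max_image
    {D : Subgroup U | D ≠ ⊤ ∧ ∃ b : B, b ≠ 1 ∧ ∀ d ∈ D, d • b = b}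
    (fun D => Nat.card D) (Set.toFinite _)
    ⟨⊥, hbot, b₀, hb₀, fun d hd => by rw [Subgroup.mem_bot.mp hd, one_smul]⟩
  -- bigger proper subgroups are good
  have hgood : ∀ D' : Subgroup U, D < D' → D' ≠ ⊤ → ∀ c : B, (∀ d ∈ D', d • c = c) → c = 1 := by
    intro D' hlt htop c hc
    by_contra hc1
    have h1 := hDmax D' ⟨htop, c, hc1, hc⟩
    have h2 : D = D' := Subgroup.eq_of_le_of_card_ge hlt.le h1
    exact absurd h2 hlt.ne
  -- D is not a coatom
  have hnc : ¬ IsCoatom D := fun h => hb1 (hfix D h b hbD)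
  have hex : ∃ E : Subgroup U, D < E ∧ E ≠ ⊤ := by
    by_contra h
    apply hnc
    refine ⟨hDtop, fun E hE => ?_⟩
    by_contra hEt
    exact h ⟨E, hE, hEt⟩
  obtain ⟨E, hDE, hEtop⟩ := hex
  obtain ⟨s, hsE, hsD⟩ := SetLike.exists_of_lt hDE
  have hext : ∃ t : U, t ∉ E := by
    by_contra h
    apply hEtop
    rw [eq_top_iff]
    intro x _
    by_contra hx
    exact h ⟨x, hx⟩
  obtain ⟨t, htE⟩ := hext
  -- fixed by D and by y ⇒ fixed by D ⊔ ⟨y⟩
  have hsup : ∀ (y : U) (c : B), (∀ d ∈ D, d • c = c) → y • c = c →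
      ∀ d ∈ D ⊔ Subgroup.zpowers y, d • c = c := by
    intro y c hD hy d hd
    have hle : D ⊔ Subgroup.zpowers y ≤ MulAction.stabilizer U c := by
      apply sup_le
      · intro d hd; exact MulAction.mem_stabilizer_iff.mpr (hD d hd)
      · rw [Subgroup.zpowers_le]; exact MulAction.mem_stabilizer_iff.mpr hy
    exact MulAction.mem_stabilizer_iff.mp (hle hd)
  -- the subgroup D ⊔ ⟨s⟩
  have hs_lt : D < D ⊔ Subgroup.zpowers s := by
    apply lt_of_le_of_ne le_sup_left
    intro h
    apply hsD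
    rw [h]
    exact Subgroup.mem_sup_right (Subgroup.mem_zpowers s)
  have hs_top : D ⊔ Subgroup.zpowers s ≠ ⊤ := by
    intro h
    apply hEtop
    rw [eq_top_iff, ← h]
    exact sup_le hDE.le (by rw [Subgroup.zpowers_le]; exact hsE)
  -- the subgroups D ⊔ ⟨t s^j⟩
  have hj_notD : ∀ j : ℕ, t * s ^ j ∉ D := by
    intro j h
    apply htE
    have : t = (t * s ^ j) * (s ^ j)⁻¹ := by group
    rw [this]
    exact E.mul_mem (hDE.le h) (E.inv_mem (E.pow_mem hsE j))
  have hj_lt : ∀ j : ℕ, D < D ⊔ Subgroup.zpowers (t * s ^ j) := by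
    intro j
    apply lt_of_le_of_ne le_sup_left
    intro h
    apply hj_notD j
    rw [h]
    exact Subgroup.mem_sup_right (Subgroup.mem_zpowers _)
  have hj_top : ∀ j : ℕ, D ⊔ Subgroup.zpowers (t * s ^ j) ≠ ⊤ := by
    intro j h
    have hs : s ∈ D ⊔ Subgroup.zpowers (t * s ^ j) := by rw [h]; exact Subgroup.mem_top s
    obtain ⟨d, hd, z, hz, hdz⟩ := Subgroup.mem_sup.mp hs
    obtain ⟨k, rfl⟩ := Subgroup.mem_zpowers_iff.mp hz
    -- t^k ∈ E
    have htk : t ^ k ∈ E := by
      have e : t ^ k = (t * s ^ j) ^ k * ((s ^ j) ^ k)⁻¹ := by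
        rw [mul_zpow]; group
      rw [e]
      have h1 : (t * s ^ j) ^ k = d⁻¹ * s := eq_inv_mul_of_mul_eq hdz
      rw [h1]
      exact E.mul_mem (E.mul_mem (E.inv_mem (hDE.le hd)) hsE)
        (E.inv_mem (E.zpow_mem (E.pow_mem hsE j) k))
    -- p ∣ k
    have hpk : (p : ℤ) ∣ k := by
      by_contra hndvd
      have hcop : IsCoprime k (p : ℤ) := by
        rw [isCoprime_comm]
        exact (Nat.prime_iff_prime_int.mp hp.out).coprime_iff_not_dvd.mpr hndvd
      obtain ⟨a, c, hac⟩ := hcop
      apply htE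
      have : t = (t ^ k) ^ a * (t ^ (p : ℤ)) ^ c := by
        rw [← zpow_mul, ← zpow_mul, ← zpow_add, mul_comm k a, mul_comm (p : ℤ) c, hac, zpow_one]
      rw [this, zpow_natCast, hU t, one_zpow, mul_one]
      exact E.zpow_mem htk a
    obtain ⟨m, rfl⟩ := hpk
    have h1 : (t * s ^ j) ^ ((p : ℤ) * m) = 1 := by
      rw [zpow_mul, zpow_natCast, hU, one_zpow]
    rw [h1, mul_one] at hdz
    exact hsD (hdz ▸ hd)
  -- apply the ring identity
  set x : Additive B := Additive.ofMul b with hx
  have hc : Commute (actEnd (B := B) s) (actEnd (B := B) t) := (Commute.all s t).map _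
  have hσ : (actEnd (B := B) s) ^ p = 1 := by rw [← map_pow, hU, map_one]
  have hinf : nrm p (actEnd (B := B) s) x = 0 := by
    have h1 := hgood _ hs_lt hs_top (Additive.toMul (nrm p (actEnd (B := B) s) x))
      (hsup s _ (fun d hd => nrm_actEnd_fixed' p s d b (hbD d hd)) (nrm_actEnd_fixed p (hU s) b))
    exact congrArg Additive.ofMul h1
  have hj : ∀ j : ZMod p, nrm p (actEnd (B := B) t * actEnd (B := B) s ^ j.val) x = 0 := by
    intro j
    have e : actEnd (B := B) t * actEnd (B := B) s ^ j.val = actEnd (B := B) (t * s ^ j.val) := by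
      rw [map_mul, map_pow]
    rw [e]
    have h1 := hgood _ (hj_lt j.val) (hj_top j.val)
      (Additive.toMul (nrm p (actEnd (B := B) (t * s ^ j.val)) x))
      (hsup (t * s ^ j.val) _ (fun d hd => nrm_actEnd_fixed' p (t * s ^ j.val) d b (hbD d hd))
        (nrm_actEnd_fixed p (hU _) b))
    exact congrArg Additive.ofMul h1
  have hpx := nsmul_eq_zero_of_rank_two p hc hσ x hinf hj
  have hbp : b ^ p = 1 := by
    have := congrArg Additive.toMul hpx
    simpa [hx] using this
  apply hb1
  have h1 : orderOf b ∣ p := orderOf_dvd_of_pow_eq_one hbp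
  have h2 : orderOf b ∣ Nat.card B := orderOf_dvd_natCard b
  have h3 : orderOf b = 1 := Nat.eq_one_of_dvd_coprimes hB h2 h1
  exact orderOf_eq_one_iff.mp h3

end action

end Cfsg.Agent.Helper50
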