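import Mathlib
import Cfsg.Agent.Helper71.SGDefs
import Cfsg.Agent.Helper53.SQET
import Cfsg.Agent.Helper96.T5Defs

/-!
# CALL S5666 (helper71), piece KF1 (`kron_fix1`), by helper50

A Kronecker product `A ⊗ B` fixing all the `N`-vectors of the fixed space of the transvection
`t_b(1) ⊗ 1` is scalar on `b^⊥` and on `F^n`.
(The statement needs `0 < n`: for `n = 0` everything is vacuous and `A` is arbitrary.)
-/

set_option autoImplicit false
set_option linter.unusedVariables false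

namespace Cfsg.Agent.Helper50.SGKF1

open Matrix Cfsg.Agent.Helper71.T4 Cfsg.Agent.Helper71.SO Cfsg.Agent.Helper71.SQ
open Cfsg.Agent.Helper71.SG
open scoped Kronecker
open Cfsg.Agent.Helper53.SQET (tac_mulVec)
open Cfsg.Agent.Helper11.SORT (bl_add_left bl_smul_left)
open Cfsg.Agent.Helper96.T5 (pt_add_left pt_add_right pt_smul_left pt_smul_right)

variable {F : Type*} [Field F] {m n : ℕ}

/-- a nonzero `2 × 2` minor of two independent vectors -/
theorem kf_minor (z z' : Fin n → F) (hz : z ≠ 0) (hind : ∀ c : F, z' ≠ c • z) :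
    ∃ j₁ j₂ : Fin n, z j₁ * z' j₂ - z j₂ * z' j₁ ≠ 0 := by
  by_contra hcon
  push Not at hcon
  obtain ⟨j₀, hj₀⟩ : ∃ j₀, z j₀ ≠ 0 := by
    by_contra h
    push Not at h
    exact hz (funext h)
  apply hind (z' j₀ / z j₀)
  funext j
  have h1 := hcon j₀ j
  simp only [Pi.smul_apply, smul_eq_mul]
  field_simp
  linear_combination h1

/-- pure tensors with independent left factors -/
theorem kf_pt_indep (d d₁ : Fin m → F) (hli : ∀ s t : F, s • d + t • d₁ = 0 → s = 0 ∧ t = 0)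
    (w w' : Fin n → F) (h : pt d w + pt d₁ w' = 0) : w = 0 ∧ w' = 0 := by
  have key : ∀ j, w j = 0 ∧ w' j = 0 := by
    intro j
    apply hli
    funext i
    have h1 := congrFun h (i, j)
    simp only [Pi.add_apply, pt, Pi.zero_apply] at h1
    simp only [Pi.add_apply, Pi.smul_apply, smul_eq_mul, Pi.zero_apply]
    linear_combination h1
  exact ⟨funext fun j => (key j).1, funext fun j => (key j).2⟩

/-- contraction: the left factors of the right-hand side lie in the span of those of the left -/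
theorem kf_span (u₁ u₂ d d₁ : Fin m → F) (w₁ w₂ z z' : Fin n → F)
    (hE : pt u₁ w₁ + pt u₂ w₂ = pt d z + pt d₁ z') (hz : z ≠ 0) (hind : ∀ c : F, z' ≠ c • z) :
    d ∈ Submodule.span F (Set.range ![u₁, u₂]) ∧
      d₁ ∈ Submodule.span F (Set.range ![u₁, u₂]) := by
  obtain ⟨j₁, j₂, hΔ⟩ := kf_minor z z' hz hind
  have hu₁ : u₁ ∈ Submodule.span F (Set.range ![u₁, u₂]) := Submodule.subset_span ⟨0, rfl⟩
  have hu₂ : u₂ ∈ Submodule.span F (Set.range ![u₁, u₂]) := Submodule.subset_span ⟨1, rfl⟩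
  have hv : ∀ j, z j • d + z' j • d₁ ∈ Submodule.span F (Set.range ![u₁, u₂]) := by
    intro j
    have h0 : z j • d + z' j • d₁ = w₁ j • u₁ + w₂ j • u₂ := by
      funext i
      have h1 := congrFun hE (i, j)
      simp only [Pi.add_apply, pt] at h1
      simp only [Pi.add_apply, Pi.smul_apply, smul_eq_mul]
      linear_combination -h1
    rw [h0]
    exact Submodule.add_mem _ (Submodule.smul_mem _ _ hu₁) (Submodule.smul_mem _ _ hu₂)
  constructor
  · have h1 : d = (z j₁ * z' j₂ - z j₂ * z' j₁)⁻¹ •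
        (z' j₂ • (z j₁ • d + z' j₁ • d₁) - z' j₁ • (z j₂ • d + z' j₂ • d₁)) := by
      funext i
      simp only [Pi.add_apply, Pi.smul_apply, Pi.sub_apply, smul_eq_mul]
      field_simp
      ring
    rw [h1]
    exact Submodule.smul_mem _ _ (Submodule.sub_mem _ (Submodule.smul_mem _ _ (hv j₁))
      (Submodule.smul_mem _ _ (hv j₂)))
  · have h1 : d₁ = (z j₁ * z' j₂ - z j₂ * z' j₁)⁻¹ •
        (z j₁ • (z j₂ • d + z' j₂ • d₁) - z j₂ • (z j₁ • d + z' j₁ • d₁)) := by
      funext i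
      simp only [Pi.add_apply, Pi.smul_apply, Pi.sub_apply, smul_eq_mul]
      field_simp
      ring
    rw [h1]
    exact Submodule.smul_mem _ _ (Submodule.sub_mem _ (Submodule.smul_mem _ _ (hv j₂))
      (Submodule.smul_mem _ _ (hv j₁)))

/-- membership in the span of a pair -/
theorem kf_mem_pair (u₁ u₂ x : Fin m → F) :
    x ∈ Submodule.span F (Set.range ![u₁, u₂]) ↔ ∃ s t : F, x = s • u₁ + t • u₂ := by
  rw [Submodule.mem_span_range_iff_exists_fun]
  constructor
  · rintro ⟨c, hc⟩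
    refine ⟨c 0, c 1, ?_⟩
    rw [← hc, Fin.sum_univ_two]
    rfl
  · rintro ⟨s, t, rfl⟩
    refine ⟨![s, t], ?_⟩
    rw [Fin.sum_univ_two]
    rfl

/-- a pair is independent iff the second is not a multiple of the nonzero first -/
theorem kf_indep_of (d d₁ : Fin m → F) (hd : d ≠ 0)
    (h : d₁ ∉ Submodule.span F (Set.range ![d])) :
    ∀ s t : F, s • d + t • d₁ = 0 → s = 0 ∧ t = 0 := by
  intro s t hst
  have ht : t = 0 := by
    by_contra ht
    apply h
    have h1 : d₁ = (-(t⁻¹ * s)) • d := by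
      have h3 : t • d₁ = -(s • d) := eq_neg_of_add_eq_zero_right hst
      calc d₁ = t⁻¹ • (t • d₁) := by rw [smul_smul, inv_mul_cancel₀ ht, one_smul]
        _ = (-(t⁻¹ * s)) • d := by rw [h3, smul_neg, smul_smul, neg_smul]
    rw [h1]
    exact Submodule.smul_mem _ _ (Submodule.subset_span ⟨0, rfl⟩)
  refine ⟨?_, ht⟩
  rw [ht, zero_smul, add_zero] at hst
  exact (smul_eq_zero.mp hst).resolve_right hd

/-- KF1 -/
theorem kron_fix1 (hm : 4 ≤ m) (hn : 0 < n) (h2 : (2 : F) ≠ 0) (J : Matrix (Fin m) (Fin m) F)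
    (hJ : Jᵀ = -J) (hdetJ : J.det ≠ 0)
    (A : Matrix (Fin m) (Fin m) F) (B : Matrix (Fin n) (Fin n) F)
    (b : Fin m → F) (hb : b ≠ 0) (N : (Fin m × Fin n → F) → Prop)
    (hN0 : ∀ (d : Fin m → F) (z : Fin n → F), d ≠ 0 → N (pt d z) → z = 0)
    (hN1 : ∀ (v : Fin m × Fin n → F) (d : Fin m → F), d ≠ 0 →
      ∃ z' : Fin n → F, N (v + pt d z'))
    (hfix : ∀ v : Fin m × Fin n → F, N v →
      (Tac J b 1 ⊗ₖ (1 : Matrix (Fin n) (Fin n) F)) *ᵥ v = v → (A ⊗ₖ B) *ᵥ v = v) :
    ∃ α : F, α ≠ 0 ∧ (∀ d : Fin m → F, bl J d b = 0 → A *ᵥ d = α • d) ∧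
      B = α⁻¹ • (1 : Matrix (Fin n) (Fin n) F) := by
  classical
  -- the hyperplane `b^⊥` has dimension at least 3
  obtain ⟨φ, hφ⟩ : ∃ φ : (Fin m → F) →ₗ[F] F, ∀ d, φ d = bl J d b :=
    ⟨{ toFun := fun d => bl J d b
       map_add' := fun x y => bl_add_left J x y b
       map_smul' := fun c x => by
        simp only [RingHom.id_apply, smul_eq_mul]
        exact bl_smul_left J c x b }, fun d => rfl⟩
  have hPfr : 3 ≤ Module.finrank F (LinearMap.ker φ) := by
    have h1 := LinearMap.finrank_range_add_finrank_ker φ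
    have h3 : Module.finrank F (LinearMap.range φ) ≤ 1 := by
      have h4 := Submodule.finrank_le (LinearMap.range φ)
      rwa [Module.finrank_self] at h4
    rw [Module.finrank_fin_fun] at h1
    omega
  have hex : ∀ (k : ℕ) (v : Fin k → (Fin m → F)), k < 3 →
      ∃ x, bl J x b = 0 ∧ x ∉ Submodule.span F (Set.range v) := by
    intro k v hk
    by_contra hcon
    push Not at hcon
    have hle : LinearMap.ker φ ≤ Submodule.span F (Set.range v) := by
      intro x hx
      exact hcon x (by rw [← hφ]; exact LinearMap.mem_ker.mp hx)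
    have h1 := Submodule.finrank_mono hle
    have h3 : Module.finrank F (Submodule.span F (Set.range v)) ≤ Fintype.card (Fin k) :=
      finrank_range_le_card (R := F) v
    rw [Fintype.card_fin] at h3
    omega
  -- a nonzero vector of `F^n`
  obtain ⟨z₀, hz₀⟩ : ∃ z₀ : Fin n → F, z₀ ≠ 0 :=
    ⟨fun _ => 1, fun h => one_ne_zero (congrFun h ⟨0, hn⟩)⟩
  -- the key claim
  have hKC : ∀ d d₁ : Fin m → F, bl J d b = 0 → bl J d₁ b = 0 →
      (∀ s t : F, s • d + t • d₁ = 0 → s = 0 ∧ t = 0) → ∀ z : Fin n → F, z ≠ 0 →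
      ∃ z' : Fin n → F, pt (A *ᵥ d) (B *ᵥ z) + pt (A *ᵥ d₁) (B *ᵥ z') = pt d z + pt d₁ z' ∧
        ∀ c : F, z' ≠ c • z := by
    intro d d₁ hdb hd₁b hli z hz
    have hd₁0 : d₁ ≠ 0 := by
      rintro rfl
      have := (hli 0 1 (by simp)).2
      exact one_ne_zero this
    obtain ⟨z', hN⟩ := hN1 (pt d z) d₁ hd₁0
    have hfixed : (Tac J b 1 ⊗ₖ (1 : Matrix (Fin n) (Fin n) F)) *ᵥ (pt d z + pt d₁ z')
        = pt d z + pt d₁ z' := by
      rw [Matrix.mulVec_add, kron_mulVec_pt, kron_mulVec_pt, tac_mulVec, tac_mulVec, hdb, hd₁b,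
        mul_zero, zero_smul, add_zero, add_zero, Matrix.one_mulVec, Matrix.one_mulVec]
    have hE := hfix _ hN hfixed
    rw [Matrix.mulVec_add, kron_mulVec_pt, kron_mulVec_pt] at hE
    refine ⟨z', hE, ?_⟩
    intro c hc
    rw [hc] at hN
    have h1 : pt d z + pt d₁ (c • z) = pt (d + c • d₁) z := by
      rw [pt_add_left, pt_smul_left, pt_smul_right]
    rw [h1] at hN
    have hne : d + c • d₁ ≠ 0 := by
      intro h0
      have := (hli 1 c (by rw [one_smul]; exact h0)).1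
      exact one_ne_zero this
    exact hz (hN0 _ z hne hN)
  -- `A d` lies in the span of `d, d₁`
  have hSC : ∀ d d₁ : Fin m → F, bl J d b = 0 → bl J d₁ b = 0 →
      (∀ s t : F, s • d + t • d₁ = 0 → s = 0 ∧ t = 0) →
      ∃ s t : F, A *ᵥ d = s • d + t • d₁ := by
    intro d d₁ hdb hd₁b hli
    obtain ⟨z', hE, hind⟩ := hKC d d₁ hdb hd₁b hli z₀ hz₀
    obtain ⟨h1, h3⟩ := kf_span _ _ _ _ _ _ _ _ hE hz₀ hind
    have hle : Submodule.span F (Set.range ![d, d₁]) ≤
        Submodule.span F (Set.range ![A *ᵥ d, A *ᵥ d₁]) := by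
      rw [Submodule.span_le]
      rintro _ ⟨i, rfl⟩
      fin_cases i
      · exact h1
      · exact h3
    have hli' : LinearIndependent F ![d, d₁] := by
      rw [LinearIndependent.pair_iff]
      exact hli
    have hfr : Module.finrank F (Submodule.span F (Set.range ![d, d₁])) = 2 := by
      rw [finrank_span_eq_card hli', Fintype.card_fin]
    have hfr' : Module.finrank F (Submodule.span F (Set.range ![A *ᵥ d, A *ᵥ d₁])) ≤ 2 := by
      have h4 : Module.finrank F (Submodule.span F (Set.range ![A *ᵥ d, A *ᵥ d₁])) ≤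
          Fintype.card (Fin 2) := finrank_range_le_card (R := F) ![A *ᵥ d, A *ᵥ d₁]
      rwa [Fintype.card_fin] at h4
    have heq := Submodule.eq_of_le_of_finrank_le hle (by omega)
    have hmem : A *ᵥ d ∈ Submodule.span F (Set.range ![d, d₁]) := by
      rw [heq]
      exact Submodule.subset_span ⟨0, rfl⟩
    exact (kf_mem_pair d d₁ _).mp hmem
  -- every nonzero vector of `b^⊥` is an eigenvector
  have hEV : ∀ d : Fin m → F, bl J d b = 0 → d ≠ 0 → ∃ s : F, A *ᵥ d = s • d := by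
    intro d hdb hd0
    obtain ⟨d₁, hd₁b, hd₁⟩ := hex 1 ![d] (by norm_num)
    obtain ⟨d₂, hd₂b, hd₂⟩ := hex 2 ![d, d₁] (by norm_num)
    have hli1 := kf_indep_of d d₁ hd0 hd₁
    have hd₂' : d₂ ∉ Submodule.span F (Set.range ![d]) := by
      intro h
      apply hd₂
      have hle : Submodule.span F (Set.range ![d]) ≤ Submodule.span F (Set.range ![d, d₁]) := by
        rw [Submodule.span_le]
        rintro _ ⟨i, rfl⟩
        exact Submodule.subset_span ⟨0, by fin_cases i; rfl⟩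
      exact hle h
    have hli2 := kf_indep_of d d₂ hd0 hd₂'
    obtain ⟨s, t, hst⟩ := hSC d d₁ hdb hd₁b hli1
    obtain ⟨s', t', hst'⟩ := hSC d d₂ hdb hd₂b hli2
    have ht' : t' = 0 := by
      by_contra ht'
      apply hd₂
      rw [kf_mem_pair]
      refine ⟨t'⁻¹ * (s - s'), t'⁻¹ * t, ?_⟩
      have h1 : t' • d₂ = (s - s') • d + t • d₁ := by
        have h3 : s' • d + t' • d₂ = s • d + t • d₁ := by rw [← hst', hst]
        rw [sub_smul]
        rw [← sub_eq_iff_eq_add'] at h3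
        rw [← h3]
        abel
      calc d₂ = t'⁻¹ • (t' • d₂) := by rw [smul_smul, inv_mul_cancel₀ ht', one_smul]
        _ = (t'⁻¹ * (s - s')) • d + (t'⁻¹ * t) • d₁ := by
          rw [h1, smul_add, smul_smul, smul_smul]
    refine ⟨s', ?_⟩
    rw [hst', ht', zero_smul, add_zero]
  -- a base vector
  obtain ⟨d₀, hd₀b, hd₀⟩ := hex 0 ![] (by norm_num)
  have hd₀0 : d₀ ≠ 0 := by
    rintro rfl
    exact hd₀ (Submodule.zero_mem _)
  obtain ⟨α, hα⟩ := hEV d₀ hd₀b hd₀0
  -- the eigenvalue is constant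
  have hA : ∀ d : Fin m → F, bl J d b = 0 → A *ᵥ d = α • d := by
    intro d hdb
    by_cases hdm : d ∈ Submodule.span F (Set.range ![d₀])
    · rw [Submodule.mem_span_range_iff_exists_fun] at hdm
      obtain ⟨c, rfl⟩ := hdm
      rw [Fin.sum_univ_one]
      show A *ᵥ (c 0 • d₀) = α • (c 0 • d₀)
      rw [Matrix.mulVec_smul, hα, smul_comm]
    · have hli := kf_indep_of d₀ d hd₀0 hdm
      have hd0 : d ≠ 0 := by
        rintro rfl
        exact hdm (Submodule.zero_mem _)
      obtain ⟨β, hβ⟩ := hEV d hdb hd0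
      have hsum0 : d₀ + d ≠ 0 := by
        intro h0
        have := (hli 1 1 (by rw [one_smul, one_smul]; exact h0)).1
        exact one_ne_zero this
      have hsumb : bl J (d₀ + d) b = 0 := by rw [bl_add_left, hd₀b, hdb, add_zero]
      obtain ⟨γ, hγ⟩ := hEV (d₀ + d) hsumb hsum0
      rw [Matrix.mulVec_add, hα, hβ, smul_add] at hγ
      have h1 : (α - γ) • d₀ + (β - γ) • d = 0 := by
        rw [sub_smul, sub_smul]
        have h3 : α • d₀ + β • d - (γ • d₀ + γ • d) = 0 := sub_eq_zero.mpr hγ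
        rw [← h3]
        abel
      obtain ⟨h3, h4⟩ := hli _ _ h1
      rw [hβ, sub_eq_zero.mp h4, ← sub_eq_zero.mp h3]
  -- `B`
  obtain ⟨d₁, hd₁b, hd₁⟩ := hex 1 ![d₀] (by norm_num)
  have hli := kf_indep_of d₀ d₁ hd₀0 hd₁
  have hBz : ∀ z : Fin n → F, z ≠ 0 → α • B *ᵥ z = z := by
    intro z hz
    obtain ⟨z', hE, -⟩ := hKC d₀ d₁ hd₀b hd₁b hli z hz
    rw [hA d₀ hd₀b, hA d₁ hd₁b, pt_smul_left, pt_smul_left, ← pt_smul_right, ← pt_smul_right]
      at hE
    have h1 : pt d₀ (α • B *ᵥ z - z) + pt d₁ (α • B *ᵥ z' - z') = 0 := by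
      have h3 : ∀ (u : Fin m → F) (w w' : Fin n → F), pt u (w - w') = pt u w - pt u w' := by
        intro u w w'
        funext ⟨i, j⟩
        simp only [pt, Pi.sub_apply]
        ring
      rw [h3, h3]
      have h4 : pt d₀ (α • B *ᵥ z) + pt d₁ (α • B *ᵥ z') - (pt d₀ z + pt d₁ z') = 0 :=
        sub_eq_zero.mpr hE
      rw [← h4]
      abel
    exact sub_eq_zero.mp (kf_pt_indep d₀ d₁ hli _ _ h1).1
  have hα0 : α ≠ 0 := by
    rintro rfl
    have := hBz z₀ hz₀
    rw [zero_smul] at this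
    exact hz₀ this.symm
  refine ⟨α, hα0, hA, ?_⟩
  apply Matrix.toLin'.injective
  apply LinearMap.ext
  intro z
  rw [Matrix.toLin'_apply, Matrix.toLin'_apply, Matrix.smul_mulVec, Matrix.one_mulVec]
  by_cases hz : z = 0
  · rw [hz, Matrix.mulVec_zero, smul_zero]
  · have h1 := hBz z hz
    calc B *ᵥ z = α⁻¹ • (α • B *ᵥ z) := by rw [smul_smul, inv_mul_cancel₀ hα0, one_smul]
      _ = α⁻¹ • z := by rw [h1]

end Cfsg.Agent.Helper50.SGKF1
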