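import Mathlib
import Cfsg.Agent.Helper44.SPUDefs

/-!
# CALL S2316 (helper44), piece LEMA, generic form (helper50)

`spu_lemA_of`: the statement of `spu_lemA` with the piece HYP (number of hyperplanes avoiding a
non-zero vector) as an explicit hypothesis.
-/

set_option autoImplicit false
open Classical

namespace Cfsg.Agent.Helper50.SPULEMA

open Matrix Cfsg.Agent.Helper44.SPU

variable {F : Type*} [Field F] [Fintype F] {m : ℕ}

theorem wt_succ (q j : ℕ) : wt q (j + 1) = -((q : ℤ) ^ j * wt q j) := by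
  unfold wt
  have h : (j + 1).choose 2 = j.choose 2 + j := by
    rw [show (2 : ℕ) = 1 + 1 from rfl, Nat.choose_succ_succ' j 1, Nat.choose_one_right, add_comm]
  rw [h, pow_succ, pow_add]
  ring

/-- adding a radical vector to a totally isotropic subspace -/
theorem iso_sup_span (K W : Submodule F (Fin m ⊕ Fin m → F)) (r : Fin m ⊕ Fin m → F)
    (hrK : r ∈ K) (hrad : ∀ y ∈ K, Cfsg.sympForm m F r y = 0) (hWK : W ≤ K) (hW : Iso m F W) :
    Iso m F (W ⊔ Submodule.span F {r}) := by
  intro u hu v hv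
  obtain ⟨w₁, hw₁, z₁, hz₁, rfl⟩ := Submodule.mem_sup.mp hu
  obtain ⟨w₂, hw₂, z₂, hz₂, rfl⟩ := Submodule.mem_sup.mp hv
  obtain ⟨a, rfl⟩ := Submodule.mem_span_singleton.mp hz₁
  obtain ⟨b, rfl⟩ := Submodule.mem_span_singleton.mp hz₂
  have h1 : Cfsg.sympForm m F w₁ r = 0 := by
    rw [Cfsg.Agent.Helper13.sympForm_swap, hrad w₁ (hWK hw₁), neg_zero]
  rw [Cfsg.Agent.Helper13.sympForm_add_left, Cfsg.Agent.Helper13.sympForm_add_right,
    Cfsg.Agent.Helper13.sympForm_add_right, Cfsg.Agent.Helper13.sympForm_smul_left,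
    Cfsg.Agent.Helper13.sympForm_smul_left, Cfsg.Agent.Helper13.sympForm_smul_right,
    Cfsg.Agent.Helper13.sympForm_smul_right, hW w₁ hw₁ w₂ hw₂, h1, hrad w₂ (hWK hw₂),
    hrad r hrK]
  ring

/-- LEMA with HYP as a hypothesis. -/
theorem spu_lemA_of
    (hyp : ∀ (W' : Submodule F (Fin m ⊕ Fin m → F)) (r : Fin m ⊕ Fin m → F), r ∈ W' → r ≠ 0 →
      Nat.card {W : Submodule F (Fin m ⊕ Fin m → F) // r ∉ W ∧ W ⊔ Submodule.span F {r} = W'} =
        Fintype.card F ^ (Module.finrank F W' - 1))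
    (K : Submodule F (Fin m ⊕ Fin m → F)) (r : Fin m ⊕ Fin m → F) (hr0 : r ≠ 0)
    (hrK : r ∈ K) (hrad : ∀ y ∈ K, Cfsg.sympForm m F r y = 0) :
    ∑ W : Submodule F (Fin m ⊕ Fin m → F),
      (if W ≤ K ∧ Iso m F W then wt (Fintype.card F) (Module.finrank F W) else 0) = 0 := by
  rw [← Finset.sum_filter]
  rw [← Finset.sum_filter_add_sum_filter_not
    (Finset.univ.filter fun W : Submodule F (Fin m ⊕ Fin m → F) => W ≤ K ∧ Iso m F W)
    (fun W => r ∈ W)]
  have hmem1 : ∀ W : Submodule F (Fin m ⊕ Fin m → F),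
      W ∈ ((Finset.univ.filter fun W : Submodule F (Fin m ⊕ Fin m → F) =>
        W ≤ K ∧ Iso m F W).filter fun W => r ∈ W) ↔ (W ≤ K ∧ Iso m F W) ∧ r ∈ W := by
    intro W
    simp only [Finset.mem_filter, Finset.mem_univ, true_and]
  have hmem0 : ∀ W : Submodule F (Fin m ⊕ Fin m → F),
      W ∈ ((Finset.univ.filter fun W : Submodule F (Fin m ⊕ Fin m → F) =>
        W ≤ K ∧ Iso m F W).filter fun W => ¬ r ∈ W) ↔ (W ≤ K ∧ Iso m F W) ∧ r ∉ W := by
    intro W
    simp only [Finset.mem_filter, Finset.mem_univ, true_and]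
  have hspan : Submodule.span F {r} ≤ K := by
    rw [Submodule.span_singleton_le_iff_mem]
    exact hrK
  have hmaps : ∀ W ∈ ((Finset.univ.filter fun W : Submodule F (Fin m ⊕ Fin m → F) =>
      W ≤ K ∧ Iso m F W).filter fun W => ¬ r ∈ W),
      W ⊔ Submodule.span F {r} ∈ ((Finset.univ.filter fun W : Submodule F (Fin m ⊕ Fin m → F) =>
        W ≤ K ∧ Iso m F W).filter fun W => r ∈ W) := by
    intro W hW
    rw [hmem0] at hW
    rw [hmem1]
    refine ⟨⟨sup_le hW.1.1 hspan, iso_sup_span K W r hrK hrad hW.1.1 hW.1.2⟩, ?_⟩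
    exact (le_sup_right : Submodule.span F {r} ≤ W ⊔ Submodule.span F {r})
      (Submodule.mem_span_singleton_self r)
  rw [← Finset.sum_fiberwise_of_maps_to hmaps, ← Finset.sum_add_distrib]
  apply Finset.sum_eq_zero
  intro W' hW'
  rw [hmem1] at hW'
  obtain ⟨⟨hW'K, hW'iso⟩, hrW'⟩ := hW'
  -- dimension of the members of the fibre
  have hdim : ∀ W : Submodule F (Fin m ⊕ Fin m → F), r ∉ W → W ⊔ Submodule.span F {r} = W' →
      Module.finrank F W' = Module.finrank F W + 1 := by
    intro W hrW hsup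
    have h1 := Submodule.finrank_sup_add_finrank_inf_eq W (Submodule.span F {r})
    have h2 : W ⊓ Submodule.span F {r} = ⊥ :=
      disjoint_iff.mp ((Submodule.disjoint_span_singleton' hr0).mpr hrW)
    rw [h2, finrank_bot, add_zero, finrank_span_singleton hr0, hsup] at h1
    exact h1
  have hpos : 1 ≤ Module.finrank F W' := by
    have h1 : Submodule.span F {r} ≤ W' := by
      rw [Submodule.span_singleton_le_iff_mem]
      exact hrW'
    have h2 := Submodule.finrank_mono h1
    rw [finrank_span_singleton hr0] at h2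
    exact h2
  obtain ⟨j, hj⟩ : ∃ j, Module.finrank F W' = j + 1 := ⟨Module.finrank F W' - 1, by omega⟩
  have hfib : ∀ W : Submodule F (Fin m ⊕ Fin m → F),
      W ∈ (((Finset.univ.filter fun W : Submodule F (Fin m ⊕ Fin m → F) =>
        W ≤ K ∧ Iso m F W).filter fun W => ¬ r ∈ W).filter
          fun W => W ⊔ Submodule.span F {r} = W') ↔
        (r ∉ W ∧ W ⊔ Submodule.span F {r} = W') := by
    intro W
    rw [Finset.mem_filter, hmem0]
    constructor
    · rintro ⟨⟨-, h1⟩, h2⟩
      exact ⟨h1, h2⟩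
    · rintro ⟨h1, h2⟩
      have hWW' : W ≤ W' := by
        rw [← h2]
        exact le_sup_left
      exact ⟨⟨⟨hWW'.trans hW'K, fun u hu v hv => hW'iso u (hWW' hu) v (hWW' hv)⟩, h1⟩, h2⟩
  have hcard : (((Finset.univ.filter fun W : Submodule F (Fin m ⊕ Fin m → F) =>
        W ≤ K ∧ Iso m F W).filter fun W => ¬ r ∈ W).filter
          fun W => W ⊔ Submodule.span F {r} = W').card = Fintype.card F ^ j := by
    rw [← Nat.subtype_card _ hfib, hyp W' r hrW' hr0, hj, Nat.add_sub_cancel]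
  have hsum : ∑ W ∈ (((Finset.univ.filter fun W : Submodule F (Fin m ⊕ Fin m → F) =>
        W ≤ K ∧ Iso m F W).filter fun W => ¬ r ∈ W).filter
          fun W => W ⊔ Submodule.span F {r} = W'),
        wt (Fintype.card F) (Module.finrank F W) =
      ((Fintype.card F : ℕ) : ℤ) ^ j * wt (Fintype.card F) j := by
    rw [Finset.sum_congr rfl (g := fun _ => wt (Fintype.card F) j), Finset.sum_const, hcard,
      nsmul_eq_mul]
    · push_cast
      rfl
    · intro W hW
      rw [hfib] at hW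
      have h3 := hdim W hW.1 hW.2
      have h4 : Module.finrank F W = j := by omega
      rw [h4]
  rw [hsum, hj, wt_succ]
  ring

end Cfsg.Agent.Helper50.SPULEMA
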