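import Mathlib
import Cfsg.Agent.Helper13.TLDefs
import Cfsg.Agent.Helper50.TLUTRANSFIX0
import Cfsg.Agent.Helper41.TLUPERP
import Cfsg.Agent.Helper47.TLUXFERSUB

/-!
# CALL S5954 (helper13), piece UTRANSFIX (helper50)

`u_trans_fix`, verbatim from the skeleton: `u_trans_fix_of` fed with `u_perp` (helper41, at `T = 1`)
and `u_xfer_sub` (helper47).
-/

set_option autoImplicit false

namespace Cfsg.Agent.Helper50.TI5954

open Module Polynomial
open Cfsg.Agent.Helper13.TIu Cfsg.Agent.Helper13.TIsp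

section std2

variable {F : Type*} [Field F] {σ : F →+* F}

/-- UTRANSFIX (case D): an isometry `W → W'` between nondegenerate subspaces of the same dimension of
a nondegenerate `K`, extended to an isometry of the whole space fixing `K^⊥` pointwise. -/
theorem u_trans_fix [Finite F] (hσ2 : ∀ a, σ (σ a) = a) (hσne : σ ≠ RingHom.id F) (n : ℕ)
    (K W W' : Submodule F (Fin n → F)) (hK : UNd (stdH σ n) K) (hW : UNd (stdH σ n) W)
    (hW' : UNd (stdH σ n) W') (hWK : W ≤ K) (hW'K : W' ≤ K)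
    (hdim : finrank F W = finrank F W') :
    ∃ g : (Fin n → F) ≃ₗ[F] (Fin n → F), (∀ u v, stdH σ n (g u) (g v) = stdH σ n u v) ∧
      W.map (g : (Fin n → F) →ₗ[F] (Fin n → F)) = W' ∧
      ∀ v, (∀ u ∈ K, stdH σ n u v = 0) → g v = v := by
  have hS := stdH_symm σ hσ2 n
  have hmap1 : ∀ M : Submodule F (Fin n → F),
      M.map (1 : Module.End F (Fin n → F)) ≤ M := by
    rintro M _ ⟨v, hv, rfl⟩
    exact hv
  refine u_trans_fix_of (stdH σ n) hS (stdH_nd_top σ n) ?_ ?_ K W W' hK hW hW' hWK hW'K hdim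
  · intro M M₁ hM hM₁ hle
    obtain ⟨P, h1, -, h3, h4, h5, h6, h7, h8⟩ :=
      Cfsg.Agent.Helper41.TI5954.u_perp (stdH σ n) hσ2 hS 1 (fun x y => rfl) 1 one_pos
        (pow_one 1) M M₁ hM hM₁ hle (hmap1 M) (hmap1 M₁)
    exact ⟨P, h1, h3, h4, h5, h6, h7, h8⟩
  · intro U hU d hd
    subst hd
    exact Cfsg.Agent.Helper47.TI5954.u_xfer_sub (stdH σ n) hσ2 hσne hS U hU

end std2

end Cfsg.Agent.Helper50.TI5954
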