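import Mathlib
import Cfsg.Agent.Helper50.Fpf3e
import Cfsg.Agent.Helper43.SylowSU3

/-!
# The Sylow 2-subgroups of `PSU₃(4)`

A group with a Heisenberg parametrisation over the field with 16 elements is a group of order 64
with a fixed-point-free automorphism of order three (scaling by a cube root of unity) all of whose
involutions are central.  By `Fpf64.nonempty_mulEquiv_aniso` every such group is isomorphic to a
Sylow 2-subgroup of `PSU₃(4)`.
-/

set_option autoImplicit false
set_option linter.unusedSectionVars false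
set_option linter.unusedVariables false

namespace Cfsg.Agent.Helper50

open Cfsg.Agent.Helper43 Cfsg.Agent.Helper43.HeisGroup

/-- A group with a Heisenberg parametrisation over the field with 16 elements is an `Fpf64`
group all of whose involutions are central. -/
theorem heis_fpf64 {F : Type*} [Field F] [Fintype F] (hF : Fintype.card F = 4 ^ 2) [CharP F 2]
    {P : Type*} [Group P] [Finite P] (H : HeisParam F 4 P) :
    ∃ ρ : MulAut P, Fpf64 ρ ∧ ∀ e : P, e * e = 1 → e ∈ Subgroup.center P := by
  classical
  have : Fact (Nat.Prime 3) := ⟨Nat.prime_three⟩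
  have hcu : Fintype.card Fˣ = 15 := by rw [Fintype.card_units, hF]; norm_num
  obtain ⟨ω, hω⟩ : ∃ ω : Fˣ, orderOf ω = 3 :=
    exists_prime_orderOf_dvd_card 3 (by rw [hcu]; norm_num)
  have hω3 : ω ^ 3 = 1 := by rw [← hω]; exact pow_orderOf_eq_one ω
  have hω1 : ω ≠ 1 := by
    intro h
    rw [h, orderOf_one] at hω
    omega
  have hωF3 : (ω : F) * ((ω : F) * (ω : F)) = 1 := by
    have := congrArg (fun u : Fˣ => (u : F)) hω3
    simp only [Units.val_pow_eq_pow_val, Units.val_one] at this
    rw [← this]; ring
  have hωF1 : (ω : F) ≠ 1 := fun h => hω1 (Units.ext h)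
  have hω0 : (ω : F) ≠ 0 := ω.ne_zero
  -- `ω ^ 5 = ω ^ 2 ≠ 1`
  have hω5 : (ω : F) * (ω : F) ^ 4 ≠ 1 := by
    intro h
    have h2 : (ω : F) * (ω : F) = 1 := by
      have : (ω : F) * (ω : F) ^ 4 = ((ω : F) * ((ω : F) * (ω : F))) * ((ω : F) * (ω : F)) := by
        ring
      rw [this, hωF3, one_mul] at h
      exact h
    apply hωF1
    have h3 := hωF3
    rw [h2, mul_one] at h3
    exact h3
  refine ⟨scaleAut hF H ω, ?_, ?_⟩
  · have hcube : ∀ t : P, scaleAut hF H ω (scaleAut hF H ω (scaleAut hF H ω t)) = t := by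
      intro t
      rw [scaleAut_apply, scaleAut_apply, scaleAut_apply, scale_scale hF, scale_scale hF,
        mul_assoc, hωF3, scale_one]
    have hfpf : ∀ t : P, scaleAut hF H ω t = t → t = 1 := by
      intro t ht
      obtain ⟨a, b, hab, rfl⟩ := H.surj t
      rw [scaleAut_apply, scale_u H _ hab] at ht
      obtain ⟨h1, h2⟩ := H.inj _ _ _ _ (rel_scale hF _ hab) hab ht
      have ha : a = 0 := by
        have : ((ω : F) - 1) * a = 0 := by rw [sub_mul, one_mul, h1, sub_self]
        rcases mul_eq_zero.1 this with h | h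
        · exact absurd (sub_eq_zero.1 h) hωF1
        · exact h
      have hb : b = 0 := by
        have : ((ω : F) * (ω : F) ^ 4 - 1) * b = 0 := by rw [sub_mul, one_mul, h2, sub_self]
        rcases mul_eq_zero.1 this with h | h
        · exact absurd (sub_eq_zero.1 h) hω5
        · exact h
      rw [ha, hb]
      exact u_one hF H
    have hfp : Fpf3 (scaleAut hF H ω) := ⟨hcube, hfpf⟩
    have hcard : Nat.card P = 64 := by rw [card_eq hF H]; norm_num
    have hcz : Nat.card (Subgroup.center P) = 4 := card_center hF H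
    have hna : ∃ a b : P, a * b ≠ b * a := by
      by_contra hcon
      push Not at hcon
      have htop : Subgroup.center P = ⊤ := by
        rw [Subgroup.eq_top_iff']
        intro x
        rw [Subgroup.mem_center_iff]
        intro g
        exact hcon g x
      rw [htop, Subgroup.card_top, hcard] at hcz
      omega
    obtain ⟨hZ4, hexp, hsq⟩ := fpf3_struct hcard hna hfp
    exact ⟨hfp, hcard, hZ4, hexp, hsq⟩
  · intro e he
    by_cases he1 : e = 1
    · rw [he1]; exact Subgroup.one_mem _
    · obtain ⟨b, hb0, hb, rfl⟩ := (invol_iff hF H e).1 ⟨he1, he⟩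
      have hab : rel 4 (0 : F) b := by
        unfold rel
        rw [zero_mul, add_zero]
        exact hb
      exact (mem_center_iff hF H hab).2 rfl

/-- **Recognition of the Sylow 2-subgroups of `PSU₃(4)`**: a group of order 64 with a
fixed-point-free automorphism of order three, nonabelian (so that `Fpf64` holds) and with all
involutions central, is isomorphic to every Sylow 2-subgroup of `PSU₃(4)`. -/
theorem nonempty_equiv_sylow_psu34 {F : Type*} [Field F] [Fintype F] (hF : Fintype.card F = 16)
    (S : Sylow 2 (Cfsg.PSU 3 F 4)) {T : Type*} [Group T] [Finite T] {ρ : MulAut T}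
    (H : Fpf64 ρ) (han : ∀ e : T, e * e = 1 → e ∈ Subgroup.center T) :
    Nonempty (T ≃* ↥(S : Subgroup (Cfsg.PSU 3 F 4))) := by
  have hF' : Fintype.card F = 4 ^ 2 := by rw [hF]; norm_num
  have hF'' : Fintype.card F = (2 ^ 2) ^ 2 := by rw [hF]; norm_num
  have hchar : CharP F 2 := charP_two_of_card (by norm_num) hF''
  obtain ⟨HP⟩ := SylowSU3.exists_param_sylow hF' (k := 2) (by norm_num) (by norm_num) S
  have hcard : Nat.card ↥(S : Subgroup (Cfsg.PSU 3 F 4)) = 64 := by
    rw [card_eq hF' HP]; norm_num
  have hfin : Finite ↥(S : Subgroup (Cfsg.PSU 3 F 4)) :=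
    Nat.finite_of_card_ne_zero (by rw [hcard]; norm_num)
  obtain ⟨ρ', H', han'⟩ := heis_fpf64 hF' HP
  exact Fpf64.nonempty_mulEquiv_aniso H H' han han'

end Cfsg.Agent.Helper50
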