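import Mathlib
import Cfsg.Agent.Helper50.SqIso

/-!
# The unitriangular group of degree three

`UT3 F` is the group of upper unitriangular `3 × 3` matrices inside `SL₃(F)`.  In characteristic
two it is the central extension of `F × F` by `F` with squaring map `(a, b) ↦ a * b`
(`ut3_sqExt`); over the field with four elements its image in `PSL₃(F)` is a Sylow
`2`-subgroup (`exists_sylow_ut3`).
-/

set_option autoImplicit false

namespace Cfsg.Agent.Helper50

open Matrix

section ut3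

variable {F : Type*} [Field F]

/-- The matrix with rows `(1,a,c)`, `(0,1,b)`, `(0,0,1)`. -/
def ut3Mat (a b c : F) : Matrix (Fin 3) (Fin 3) F := !![1, a, c; 0, 1, b; 0, 0, 1]

theorem ut3Mat_mul (a b c a' b' c' : F) :
    ut3Mat a b c * ut3Mat a' b' c' = ut3Mat (a + a') (b + b') (c + c' + a * b') := by
  unfold ut3Mat
  ext i j
  fin_cases i <;> fin_cases j <;> simp [Matrix.mul_apply, Fin.sum_univ_three] <;> ring

theorem ut3Mat_det (a b c : F) : (ut3Mat a b c).det = 1 := by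
  unfold ut3Mat
  rw [Matrix.det_fin_three]
  simp

theorem ut3Mat_zero : ut3Mat (0 : F) 0 0 = 1 := by
  unfold ut3Mat
  rw [Matrix.one_fin_three]

/-- The element `u(a, b, c)` of `SL₃(F)`. -/
def ut3 (a b c : F) : Matrix.SpecialLinearGroup (Fin 3) F := ⟨ut3Mat a b c, ut3Mat_det a b c⟩

theorem ut3_val (a b c : F) :
    ((ut3 a b c : Matrix.SpecialLinearGroup (Fin 3) F) : Matrix (Fin 3) (Fin 3) F)
      = ut3Mat a b c := rfl

theorem ut3_mul (a b c a' b' c' : F) :
    ut3 a b c * ut3 a' b' c' = ut3 (a + a') (b + b') (c + c' + a * b') := by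
  apply Subtype.ext
  rw [Matrix.SpecialLinearGroup.coe_mul, ut3_val, ut3_val, ut3_val, ut3Mat_mul]

theorem ut3_zero : ut3 (0 : F) 0 0 = 1 := by
  apply Subtype.ext
  rw [ut3_val, ut3Mat_zero]
  rfl

theorem ut3_inv (a b c : F) : (ut3 a b c)⁻¹ = ut3 (-a) (-b) (-c + a * b) := by
  rw [inv_eq_iff_mul_eq_one, ut3_mul]
  have h1 : a + -a = 0 := by ring
  have h2 : b + -b = 0 := by ring
  have h3 : c + (-c + a * b) + a * -b = 0 := by ring
  rw [h1, h2, h3, ut3_zero]

theorem ut3_inj {a b c a' b' c' : F} (h : ut3 a b c = ut3 a' b' c') :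
    a = a' ∧ b = b' ∧ c = c' := by
  have h1 : ut3Mat a b c = ut3Mat a' b' c' := by
    rw [← ut3_val, ← ut3_val, h]
  refine ⟨?_, ?_, ?_⟩
  · have := congrFun (congrFun h1 0) 1
    simpa [ut3Mat] using this
  · have := congrFun (congrFun h1 1) 2
    simpa [ut3Mat] using this
  · have := congrFun (congrFun h1 0) 2
    simpa [ut3Mat] using this

/-- The upper unitriangular subgroup of `SL₃(F)`. -/
def UT3 (F : Type*) [Field F] : Subgroup (Matrix.SpecialLinearGroup (Fin 3) F) where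
  carrier := {g | ∃ a b c : F, g = ut3 a b c}
  one_mem' := ⟨0, 0, 0, ut3_zero.symm⟩
  mul_mem' := by
    rintro x y ⟨a, b, c, rfl⟩ ⟨a', b', c', rfl⟩
    exact ⟨_, _, _, ut3_mul a b c a' b' c'⟩
  inv_mem' := by
    rintro x ⟨a, b, c, rfl⟩
    exact ⟨_, _, _, ut3_inv a b c⟩

theorem ut3_mem (a b c : F) : ut3 a b c ∈ UT3 F := ⟨a, b, c, rfl⟩

/-- In characteristic two the unitriangular group is the central extension of `F × F` by `F`
with squaring map `(a, b) ↦ a * b`. -/
def ut3_sqExt (h2 : ∀ a : F, a + a = 0) :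
    SqExt (↥(UT3 F)) (F × F) F (fun p => p.1 * p.2) where
  α := fun g => ((g : Matrix.SpecialLinearGroup (Fin 3) F).1 0 1,
    (g : Matrix.SpecialLinearGroup (Fin 3) F).1 1 2)
  ζ := fun c => ⟨ut3 0 0 c, ut3_mem 0 0 c⟩
  α_mul := by
    rintro ⟨x, a, b, c, rfl⟩ ⟨y, a', b', c', rfl⟩
    change ((ut3 a b c * ut3 a' b' c').1 0 1, (ut3 a b c * ut3 a' b' c').1 1 2)
      = ((ut3 a b c).1 0 1, (ut3 a b c).1 1 2) + ((ut3 a' b' c').1 0 1, (ut3 a' b' c').1 1 2)
    rw [ut3_mul]
    simp [ut3, ut3Mat]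
  α_surj := by
    rintro ⟨a, b⟩
    refine ⟨⟨ut3 a b 0, ut3_mem a b 0⟩, ?_⟩
    change ((ut3 a b 0).1 0 1, (ut3 a b 0).1 1 2) = (a, b)
    simp [ut3, ut3Mat]
  ζ_add := by
    intro a b
    apply Subtype.ext
    change ut3 0 0 (a + b) = ut3 0 0 a * ut3 0 0 b
    rw [ut3_mul, zero_mul, add_zero, add_zero]
  ζ_inj := by
    intro a b h
    have h1 : ut3 (0 : F) 0 a = ut3 0 0 b := congrArg Subtype.val h
    exact (ut3_inj h1).2.2
  ζ_central := by
    rintro a ⟨x, c, d, e, rfl⟩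
    apply Subtype.ext
    change ut3 0 0 a * ut3 c d e = ut3 c d e * ut3 0 0 a
    rw [ut3_mul, ut3_mul, zero_mul, mul_zero, add_zero, add_zero, zero_add, zero_add, add_zero,
      add_zero, add_comm a e]
  α_ζ := by
    intro a
    change ((ut3 (0 : F) 0 a).1 0 1, (ut3 (0 : F) 0 a).1 1 2) = 0
    simp [ut3, ut3Mat]
  ker := by
    rintro ⟨x, c, d, e, rfl⟩ h
    have h' : ((ut3 c d e).1 0 1, (ut3 c d e).1 1 2) = (0 : F × F) := h
    have hc : c = 0 := by
      have := congrArg Prod.fst h'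
      simpa [ut3, ut3Mat] using this
    have hd : d = 0 := by
      have := congrArg Prod.snd h'
      simpa [ut3, ut3Mat] using this
    subst hc hd
    exact ⟨e, rfl⟩
  sq := by
    rintro ⟨x, c, d, e, rfl⟩
    apply Subtype.ext
    change ut3 c d e * ut3 c d e = ut3 0 0 ((ut3 c d e).1 0 1 * (ut3 c d e).1 1 2)
    rw [ut3_mul]
    have h1 : (ut3 c d e).1 0 1 = c := by simp [ut3, ut3Mat]
    have h3 : (ut3 c d e).1 1 2 = d := by simp [ut3, ut3Mat]
    rw [h1, h3, h2, h2, h2, zero_add]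

theorem card_ut3 [Finite F] : Nat.card (UT3 F) = Nat.card F ^ 3 := by
  have hbij : Function.Bijective
      (fun p : F × F × F => (⟨ut3 p.1 p.2.1 p.2.2, ut3_mem _ _ _⟩ : UT3 F)) := by
    constructor
    · rintro ⟨a, b, c⟩ ⟨a', b', c'⟩ h
      have h1 : ut3 a b c = ut3 a' b' c' := congrArg Subtype.val h
      obtain ⟨rfl, rfl, rfl⟩ := ut3_inj h1
      rfl
    · rintro ⟨x, a, b, c, rfl⟩
      exact ⟨(a, b, c), rfl⟩
  rw [← Nat.card_congr (Equiv.ofBijective _ hbij), Nat.card_prod, Nat.card_prod]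
  ring

end ut3

section sylow

variable {F : Type*} [Field F]

theorem ut3_center {g : Matrix.SpecialLinearGroup (Fin 3) F} (hg : g ∈ UT3 F)
    (hc : g ∈ Subgroup.center (Matrix.SpecialLinearGroup (Fin 3) F)) : g = 1 := by
  obtain ⟨a, b, c, rfl⟩ := hg
  rw [Matrix.SpecialLinearGroup.mem_center_iff] at hc
  obtain ⟨r, -, hs⟩ := hc
  have hs' : Matrix.scalar (Fin 3) r = ut3Mat a b c := hs
  have ha : a = 0 := by
    have := congrFun (congrFun hs' 0) 1
    simpa [ut3Mat, Matrix.scalar_apply, Matrix.diagonal_apply] using this.symm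
  have hb : b = 0 := by
    have := congrFun (congrFun hs' 1) 2
    simpa [ut3Mat, Matrix.scalar_apply, Matrix.diagonal_apply] using this.symm
  have hcc : c = 0 := by
    have := congrFun (congrFun hs' 0) 2
    simpa [ut3Mat, Matrix.scalar_apply, Matrix.diagonal_apply] using this.symm
  rw [ha, hb, hcc, ut3_zero]

/-- Over the field with four elements the unitriangular group is (isomorphic to) a Sylow
`2`-subgroup of `PSL₃`. -/
theorem exists_sylow_ut3 [Fintype F] (hF : Fintype.card F = 4) :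
    ∃ S : Sylow 2 (Matrix.ProjectiveSpecialLinearGroup (Fin 3) F),
      Nonempty (↥(UT3 F) ≃* ↥(S : Subgroup (Matrix.ProjectiveSpecialLinearGroup (Fin 3) F))) := by
  classical
  have : Fact (Nat.Prime 2) := ⟨Nat.prime_two⟩
  have hfinSL : Finite (Matrix.SpecialLinearGroup (Fin 3) F) :=
    Finite.of_injective _ Matrix.SpecialLinearGroup.toGL_injective
  obtain ⟨f, hf⟩ : ∃ f : ↥(UT3 F) →* Matrix.ProjectiveSpecialLinearGroup (Fin 3) F,
      f = (QuotientGroup.mk' (Subgroup.center (Matrix.SpecialLinearGroup (Fin 3) F))).comp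
        (UT3 F).subtype := ⟨_, rfl⟩
  have hfinj : Function.Injective f := by
    rw [injective_iff_map_eq_one]
    intro x hx
    rw [hf, MonoidHom.comp_apply, QuotientGroup.mk'_apply, QuotientGroup.eq_one_iff] at hx
    exact Subtype.ext (ut3_center x.2 hx)
  have e₁ : ↥(UT3 F) ≃* ↥f.range := MonoidHom.ofInjective hfinj
  have hcardU : Nat.card ↥f.range = 64 := by
    rw [← Nat.card_congr e₁.toEquiv, card_ut3, Nat.card_eq_fintype_card, hF]
    norm_num
  have hU : IsPGroup 2 ↥f.range := IsPGroup.of_card (n := 6) (by rw [hcardU]; norm_num)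
  obtain ⟨S, hS⟩ := hU.exists_le_sylow
  obtain ⟨k, hk⟩ := IsPGroup.iff_card.1 S.isPGroup'
  have hGL : Nat.card (GL (Fin 3) F) = 181440 := by
    rw [Matrix.card_GL_field, hF]
    simp [Fin.prod_univ_three]
  have hd1 : Nat.card ↥(S : Subgroup (Matrix.ProjectiveSpecialLinearGroup (Fin 3) F))
      ∣ Nat.card (Matrix.ProjectiveSpecialLinearGroup (Fin 3) F) :=
    Subgroup.card_subgroup_dvd_card _
  have hd2 : Nat.card (Matrix.ProjectiveSpecialLinearGroup (Fin 3) F)
      ∣ Nat.card (Matrix.SpecialLinearGroup (Fin 3) F) :=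
    Subgroup.card_quotient_dvd_card _
  have hd3 : Nat.card (Matrix.SpecialLinearGroup (Fin 3) F) ∣ Nat.card (GL (Fin 3) F) :=
    Subgroup.card_dvd_of_injective Matrix.SpecialLinearGroup.toGL
      Matrix.SpecialLinearGroup.toGL_injective
  have hd : 2 ^ k ∣ 181440 := by
    rw [← hk, ← hGL]
    exact hd1.trans (hd2.trans hd3)
  have hk6 : k ≤ 6 := by
    by_contra hlt
    push Not at hlt
    have h7 : 2 ^ 7 ∣ 181440 := (pow_dvd_pow 2 hlt).trans hd
    norm_num at h7
  have hle : 2 ^ 6 ∣ 2 ^ k := by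
    rw [← hk]
    have := Subgroup.card_dvd_of_le hS
    rw [hcardU] at this
    exact this
  have hk6' : 6 ≤ k := (Nat.pow_dvd_pow_iff_le_right (by norm_num : 1 < 2)).1 hle
  have hk' : k = 6 := le_antisymm hk6 hk6'
  have hSU : f.range = (S : Subgroup (Matrix.ProjectiveSpecialLinearGroup (Fin 3) F)) :=
    Subgroup.eq_of_le_of_card_ge hS (by rw [hk, hk', hcardU]; norm_num)
  exact ⟨S, ⟨e₁.trans (MulEquiv.subgroupCongr hSU)⟩⟩

end sylow

end Cfsg.Agent.Helper50
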